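import Cfsg.Agent.Lib.Spor.SuzType.Cent

/-!
# Elements of order five and seven in the centralizer of the reference involution
-/

set_option autoImplicit false
set_option synthInstance.maxSize 4096

namespace CfsgLib.Spor.SuzType

open Subgroup CfsgLib.Spor.CoOneType CfsgLib.Invol

noncomputable section

variable {G : Type*} [Group G] [Finite G] {z : G} {Q : Subgroup G} {v : G → Vec} {ρ : G → Iso6}

/-- Subgroups of order `p` are conjugate when `p` divides the order only once. -/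
theorem conj_zpowers_of_not_sq {p : ℕ} [hp : Fact p.Prime] {H : Subgroup G} (hsq : ¬ p ^ 2 ∣ Nat.card H)
    {x y : G} (hx : x ∈ H) (hy : y ∈ H) (hxo : orderOf x = p) (hyo : orderOf y = p) :
    ∃ h ∈ H, h * y * h⁻¹ ∈ zpowers x := by
  set x' : ↥H := ⟨x, hx⟩
  set y' : ↥H := ⟨y, hy⟩
  have hpg : ∀ u : ↥H, orderOf u = p → IsPGroup p (zpowers u) := fun u hu =>
    IsPGroup.of_card (n := 1) (by rw [Nat.card_zpowers, hu, pow_one])
  have hxo' : orderOf x' = p := by rw [orderOf_mk, hxo]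
  have hyo' : orderOf y' = p := by rw [orderOf_mk, hyo]
  have hidx : ¬ p ∣ (zpowers x').index := fun hd => hsq (by
    rw [← (zpowers x').card_mul_index, Nat.card_zpowers, hxo', pow_two]
    exact mul_dvd_mul_left p hd)
  obtain ⟨h, hh⟩ := exists_conj_le_sylow (hpg y' hyo') ((hpg x' hxo').toSylow hidx)
  obtain ⟨i, hi⟩ := (show h * y' * h⁻¹ ∈ zpowers x' from hh _ (mem_zpowers _))
  exact ⟨h, h.2, i, congrArg Subtype.val hi⟩

theorem conj_mem_zpowers {h x y : G} (hh : h * x * h⁻¹ ∈ zpowers x) (hy : y ∈ zpowers x) :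
    h * y * h⁻¹ ∈ zpowers x := by
  obtain ⟨i, rfl⟩ := hy
  show h * x ^ i * h⁻¹ ∈ zpowers x
  rw [← conj_zpow]
  exact zpow_mem hh i

theorem mem_normalizer_zpowers {h x : G} :
    h ∈ normalizer (zpowers x : Set G) ↔ h * x * h⁻¹ ∈ zpowers x := by
  refine ⟨fun hn => (mem_normalizer_iff.1 hn x).1 (mem_zpowers x), fun hh => ?_⟩
  refine mem_normalizer_of_conj_map_eq (eq_of_le_of_card_ge ?_
    (by rw [card_map_of_injective (MulAut.conj h).injective]))
  rintro _ ⟨y, hy, rfl⟩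
  exact conj_mem_zpowers hh hy

namespace Pt.Tri

variable {g : G} {F : Pt z Q v ρ g} {t w : G} (T : F.Tri t w)

include T

theorem card_split {H : Subgroup G} (hH : H ≤ T.CE) (hE : ∀ p, T.eE p ∈ H) :
    Nat.card H = 4 * Nat.card ↥(H ⊓ T.L) := by
  have e : Nat.card H = Nat.card ((ZMod 2 × ZMod 2) × ↥(H ⊓ T.L)) := by
    refine (Nat.card_eq_of_bijective (fun q : (ZMod 2 × ZMod 2) × ↥(H ⊓ T.L) =>
      (⟨T.eE q.1 * q.2.1, mul_mem (hE q.1) q.2.2.1⟩ : H)) ⟨?_, ?_⟩).symm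
    · rintro ⟨p, a, ha⟩ ⟨q, b, hb⟩ h
      replace h : T.eE p * a = T.eE q * b := congrArg Subtype.val h
      have h2 : T.eE (q + p) = b * a⁻¹ := by
        rw [← T.eE_add]
        calc T.eE q * T.eE p = T.eE q * (T.eE p * a) * a⁻¹ := by group
          _ = T.eE q * T.eE q * (b * a⁻¹) := by rw [h]; group
          _ = b * a⁻¹ := by rw [T.eE_sq, one_mul]
      have h0 := T.eE_L (h2 ▸ mul_mem hb.2 (inv_mem ha.2) : T.eE (q + p) ∈ T.L)
      obtain rfl : p = q := by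
        calc p = q + q + p := by rw [pair_add_self, zero_add]
          _ = q := by rw [add_assoc, h0, add_zero]
      obtain rfl := mul_left_cancel h
      rfl
    · rintro ⟨y, hy⟩
      obtain ⟨p, l, hl, rfl⟩ := T.CE_split (hH hy)
      exact ⟨(p, ⟨l, by simpa [← mul_assoc, T.eE_sq] using mul_mem (hE p) hy, hl⟩), rfl⟩
  rw [e, Nat.card_prod, Nat.card_prod, Nat.card_zmod]

/-- Elements of order five or seven are centralized only inside the centralizer of the four group. -/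
theorem cent_le_CE {x y : G} (hx : x ∈ T.L) (hxo : orderOf x = 5 ∨ orderOf x = 7) (hy : y ∈ T.K)
    (hyx : y * x = x * y) : y ∈ T.CE := by
  classical
  haveI : Fact (Nat.Prime 2) := ⟨Nat.prime_two⟩
  by_contra hyCE
  obtain ⟨j, m, hm, hjm⟩ := Nat.exists_eq_two_pow_mul_odd (orderOf_pos y).ne'
  set u := y ^ m
  have hu : u ∉ T.CE := T.pow_odd_notMem hy hyCE hm
  have huK : u ∈ T.K := pow_mem hy m
  have hu2 : u ^ 2 ^ j = 1 := by rw [← pow_mul, mul_comm, ← hjm, pow_orderOf_eq_one]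
  have hP := T.isPGroup_cz_t.comap_of_injective T.K.subtype T.K.subtype_injective
  obtain ⟨k, hk⟩ := exists_conj_le_sylow (p := 2) (Q := zpowers (⟨u, huK⟩ : ↥T.K)) (by
    rintro ⟨a, i, rfl⟩
    refine ⟨j, Subtype.ext ?_⟩
    show ((⟨u, huK⟩ : ↥T.K) ^ i) ^ 2 ^ j = 1
    rw [← zpow_natCast, ← zpow_mul, mul_comm, zpow_mul, zpow_natCast,
      show (⟨u, huK⟩ : ↥T.K) ^ 2 ^ j = 1 from Subtype.ext (by rw [SubmonoidClass.coe_pow]; exact hu2), one_zpow])
    (hP.toSylow T.tS_index)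
  have h := mem_subgroupOf.1 (show k * ⟨u, huK⟩ * k⁻¹ ∈
    (centralizer ({z} : Set G) ⊓ centralizer ({t} : Set G)).subgroupOf T.K from hk _ (mem_zpowers _))
  have hnot : (k : G) * u * (k : G)⁻¹ ∉ T.CE := fun hc => hu (by
    have h2 := T.CE_normal (Subgroup.inv_mem _ k.2) hc
    rwa [show (k : G)⁻¹ * ((k : G) * u * (k : G)⁻¹) * (k : G)⁻¹⁻¹ = u by group] at h2)
  refine T.outer_cent h.1 (mem_cz.1 h.2) ((T.cz_t_cases h.1 (mem_cz.1 h.2)).resolve_left
    fun hi => hnot (T.inner_CE hi)) (T.L_normal k.2 hx) ?_ ?_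
  · show (k : G) * u * (k : G)⁻¹ * ((k : G) * x * (k : G)⁻¹) = (k : G) * x * (k : G)⁻¹ * ((k : G) * u * (k : G)⁻¹)
    have hc : u * x = x * u := ((show Commute y x from hyx).pow_left m).eq
    calc (k : G) * u * (k : G)⁻¹ * ((k : G) * x * (k : G)⁻¹) = (k : G) * (u * x) * (k : G)⁻¹ := by group
      _ = (k : G) * (x * u) * (k : G)⁻¹ := by rw [hc]
      _ = _ := by group
  · rwa [show (k : G) * x * (k : G)⁻¹ = MulAut.conj (k : G) x from rfl, MulEquiv.orderOf_eq]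

/-- Centralizer and automizer from the data inside the complement. -/
theorem automizer {p n : ℕ} [hp : Fact p.Prime] {x : G} (hp57 : p = 5 ∨ p = 7) (hx : x ∈ T.L)
    (hxo : orderOf x = p) (hsq : ¬ p ^ 2 ∣ Nat.card T.L) (hC : ∀ l ∈ T.L, l * x = x * l → l ∈ zpowers x)
    (hn : Nat.card ↥(T.L ⊓ normalizer (zpowers x : Set G)) = p * n) (hpn : 2 * n = p - 1) :
    (∀ y ∈ T.K, y * x = x * y → ∃ q, ∃ i : ℤ, y = T.eE q * x ^ i) ∧
    Nat.card ↥(T.K ⊓ centralizer ({x} : Set G)) = 4 * p ∧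
    Nat.card ↥(T.K ⊓ normalizer (zpowers x : Set G)) = 4 * p * (p - 1) ∧
    ∀ y ∈ zpowers x, y ≠ 1 → ∃ k ∈ T.K, k * x * k⁻¹ = y := by
  have hxo' : orderOf x = 5 ∨ orderOf x = 7 := by rw [hxo]; exact hp57
  have h1 : ∀ y ∈ T.K, y * x = x * y → ∃ q, ∃ i : ℤ, y = T.eE q * x ^ i := by
    intro y hy hyx
    obtain ⟨q, l, hl, rfl⟩ := T.CE_split (T.cent_le_CE hx hxo' hy hyx)
    have hqx : Commute (T.eE q) x := (T.eE_comm_CE (T.L_le hx) q).symm
    obtain ⟨i, hi⟩ := hC l hl (by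
      have h : Commute (T.eE q * l) x := hyx
      have h2 := hqx.inv_left.mul_left h
      rwa [inv_mul_cancel_left] at h2)
    exact ⟨q, i, by rw [← show x ^ i = l from hi]⟩
  have hEC : ∀ q, T.eE q ∈ T.K ⊓ centralizer ({x} : Set G) := fun q =>
    ⟨T.CE_le (T.eE_mem q), mem_cz.2 (T.eE_comm_CE (T.L_le hx) q).symm⟩
  have hcard : Nat.card ↥(T.K ⊓ centralizer ({x} : Set G)) = 4 * p := by
    rw [T.card_split (H := T.K ⊓ centralizer ({x} : Set G))
      (fun y hy => T.cent_le_CE hx hxo' hy.1 (mem_cz.1 hy.2)) hEC]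
    congr 1
    rw [← hxo, ← Nat.card_zpowers]
    refine Nat.card_congr (Equiv.subtypeEquivRight fun y => ?_)
    refine ⟨fun hy => hC y hy.2 (mem_cz.1 hy.1.2), fun hy => ?_⟩
    obtain ⟨i, rfl⟩ := hy
    exact ⟨⟨T.CE_le (T.L_le (zpow_mem hx i)), mem_cz.2 ((Commute.refl x).zpow_left i).eq⟩, zpow_mem hx i⟩
  set N := T.K ⊓ normalizer (zpowers x : Set G) with hN
  have hEN : ∀ q, T.eE q ∈ N ⊓ centralizer ({T.t1} : Set G) := fun q =>
    ⟨⟨T.CE_le (T.eE_mem q), mem_normalizer_zpowers.2 (by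
      rw [conj_eq_iff_comm.2 (T.eE_comm_CE (T.L_le hx) q).symm]; exact mem_zpowers x)⟩, (T.eE_mem q).2⟩
  have hNc : Nat.card ↥(N ⊓ centralizer ({T.t1} : Set G)) = 4 * (p * n) := by
    rw [T.card_split (H := N ⊓ centralizer ({T.t1} : Set G)) (fun y hy => ⟨hy.1.1, hy.2⟩) hEN, ← hn]
    congr 1
    exact Nat.card_congr (Equiv.subtypeEquivRight fun y =>
      ⟨fun hy => ⟨hy.2, hy.1.1.2⟩, fun hy => ⟨⟨⟨T.CE_le (T.L_le hy.1), hy.2⟩, (T.L_le hy.1).2⟩, hy.1⟩⟩)
  have horb := card_orbit_mul N T.t1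
  have e2 : Nat.card {y : G // ∃ k ∈ N, k * T.t1 * k⁻¹ = y} = 2 := by
    obtain ⟨o, ho, hot, hop, -⟩ := F.exists_outer T.tf
    obtain ⟨l, hl, hlo⟩ := conj_zpowers_of_not_sq hsq hx (T.L_normal (mem_cz.2 hot) hx) hxo
      (by rw [show o * x * o⁻¹ = MulAut.conj o x from rfl, MulEquiv.orderOf_eq, hxo])
    have hkN : l * o ∈ N := ⟨Subgroup.mul_mem _ (T.CE_le (T.L_le hl)) (mem_cz.2 hot),
      mem_normalizer_zpowers.2 (by rwa [show l * o * x * (l * o)⁻¹ = l * (o * x * o⁻¹) * l⁻¹ by group])⟩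
    have hk1 : l * o * T.t1 * (l * o)⁻¹ = t * T.t1 := by
      rw [show l * o * T.t1 * (l * o)⁻¹ = l * (o * T.t1 * o⁻¹) * l⁻¹ by group, T.outer_swaps ho hot hop]
      exact conj_eq_iff_comm.2 ((show Commute l t from mem_cz.1 (T.L_le hl).1).mul_right
        (show Commute l T.t1 from mem_cz.1 (T.L_le hl).2)).eq
    rw [Nat.card_eq_two_iff]
    refine ⟨⟨T.t1, 1, one_mem _, by simp⟩, ⟨t * T.t1, _, hkN, hk1⟩,
      fun e => T.t_ne_one (right_eq_mul.1 (congrArg Subtype.val e)), ?_⟩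
    rw [Set.eq_univ_iff_forall]
    rintro ⟨y, k, hk, rfl⟩
    rcases T.K_fixes hk.1 with e | e
    · exact Or.inl (Subtype.ext e)
    · exact Or.inr (Subtype.ext e)
  rw [e2, hNc] at horb
  have hN' : Nat.card N = 4 * p * (p - 1) := by rw [← horb, ← hpn]; ring
  refine ⟨h1, hcard, hN', fun y hy hy1 => ?_⟩
  obtain ⟨k, hk, e⟩ := orbit_full hp.out hxo (fun n hn => mem_normalizer_zpowers.1 hn.2) (N := N) (by
    rw [hN', show Nat.card ↥(N ⊓ centralizer ({x} : Set G)) = 4 * p from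
      hcard ▸ Nat.card_congr (Equiv.subtypeEquivRight fun y => ⟨fun h => ⟨h.1.1, h.2⟩,
        fun h => ⟨⟨h.1, mem_normalizer_zpowers.2 (by rw [conj_eq_iff_comm.2 (mem_cz.1 h.2)]; exact mem_zpowers x)⟩,
          h.2⟩⟩)]
    ring) hy hy1
  exact ⟨k, hk.1, e⟩

theorem exists_order {p : ℕ} [Fact p.Prime] (hd : p ∣ 20160) : ∃ x ∈ T.L, orderOf x = p := by
  obtain ⟨x, hx⟩ := exists_prime_orderOf_dvd_card' p (G := T.L) (T.card_L ▸ hd)
  exact ⟨x, x.2, by rw [← hx, Subgroup.orderOf_coe]⟩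

/-- The centralizer in the complement of an element of order five. -/
theorem five_L {x : G} (hx : x ∈ T.L) (hxo : orderOf x = 5) :
    (∀ l ∈ T.L, l * x = x * l → l ∈ zpowers x) ∧
    Nat.card ↥(T.L ⊓ normalizer (zpowers x : Set G)) = 5 * 2 := by
  haveI : Fact (Nat.Prime 5) := ⟨by norm_num⟩
  obtain ⟨A, hA, hA5, hrel⟩ := T.L_data.2.1
  obtain ⟨y, hy⟩ := exists_prime_orderOf_dvd_card' 5 (G := A) (by rw [hA5])
  have hyo : orderOf ((y : ↥T.L) : G) = 5 := by rw [Subgroup.orderOf_coe, Subgroup.orderOf_coe, hy]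
  obtain ⟨l, hl, hlx⟩ := conj_zpowers_of_not_sq (H := T.L) (by rw [T.card_L]; norm_num) hx y.1.2 hxo hyo
  set xL : ↥T.L := ⟨x, hx⟩
  set lL : ↥T.L := ⟨l, hl⟩
  set B := A.map (MulAut.conj lL).toMonoidHom
  have hB : SelfCount.IsTor B := T.L_hyp.tor_conj hA lL
  have hBc : Nat.card B = 5 := by rw [card_map_of_injective (MulAut.conj lL).injective, hA5]
  have hyB : lL * y.1 * lL⁻¹ ∈ B := ⟨y.1, y.2, rfl⟩
  have hyz : lL * y.1 * lL⁻¹ ∈ zpowers xL := by
    obtain ⟨i, hi⟩ := hlx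
    exact ⟨i, Subtype.ext hi⟩
  have hne : lL * y.1 * lL⁻¹ ≠ 1 := fun e => by
    rw [conj_eq_one_iff] at e
    rw [e, OneMemClass.coe_one, orderOf_one] at hyo
    omega
  have hBeq : B = zpowers xL := by
    have h1 : zpowers (lL * y.1 * lL⁻¹) = B := eq_of_le_of_card_ge (zpowers_le.2 hyB) (by
      rw [hBc, Nat.card_zpowers, show lL * y.1 * lL⁻¹ = MulAut.conj lL y.1 from rfl, MulEquiv.orderOf_eq,
        Subgroup.orderOf_coe, hy])
    rw [← h1]
    refine eq_of_le_of_card_ge (zpowers_le.2 hyz) ?_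
    rw [h1, hBc, Nat.card_zpowers, orderOf_mk, hxo]
  have hB' : B = centralizer ({xL} : Set ↥T.L) := T.L_hyp.tor_cent hB (hBeq ▸ mem_zpowers _) fun e => by
    rw [show x = 1 from congrArg Subtype.val e, orderOf_one] at hxo
    omega
  refine ⟨fun a ha hax => ?_, ?_⟩
  · have h : (⟨a, ha⟩ : ↥T.L) ∈ zpowers xL := by rw [← hBeq, hB']; exact mem_cz.2 (Subtype.ext hax)
    obtain ⟨i, hi⟩ := h
    exact ⟨i, congrArg Subtype.val hi⟩
  · obtain ⟨M, e, m, -, -, hall⟩ := T.L_hyp.exists_arith T.L_c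
    have hrelB : B.relIndex (normalizer (B : Set ↥T.L)) = 2 := by
      rw [(hall _ hB).2, hBc, ← hA5, ← (hall _ hA).2, hrel]
    have h10 : Nat.card (normalizer (B : Set ↥T.L)) = 5 * 2 := by
      rw [T.L_hyp.card_normalizer, hBc, hrelB]
    rw [← h10, hBeq]
    have hmem : ∀ a (ha : a ∈ T.L), a * x * a⁻¹ ∈ zpowers x ↔ (⟨a, ha⟩ : ↥T.L) * xL * ⟨a, ha⟩⁻¹ ∈ zpowers xL :=
      fun a ha => ⟨fun ⟨i, hi⟩ => ⟨i, Subtype.ext hi⟩, fun ⟨i, hi⟩ => ⟨i, congrArg Subtype.val hi⟩⟩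
    refine Nat.card_congr
      { toFun := fun a => ⟨⟨a.1, a.2.1⟩, mem_normalizer_zpowers.2 ((hmem _ a.2.1).1 (mem_normalizer_zpowers.1 a.2.2))⟩
        invFun := fun a => ⟨a.1.1, a.1.2, mem_normalizer_zpowers.2 ((hmem _ a.1.2).2 (mem_normalizer_zpowers.1 a.2))⟩
        left_inv := fun _ => rfl
        right_inv := fun _ => rfl }

/-- The centralizer in the complement of an element of order seven. -/
theorem seven_L {x : G} (hx : x ∈ T.L) (hxo : orderOf x = 7) :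
    (∀ l ∈ T.L, l * x = x * l → l ∈ zpowers x) ∧
    Nat.card ↥(T.L ⊓ normalizer (zpowers x : Set G)) = 7 * 3 := by
  classical
  haveI : Fact (Nat.Prime 7) := ⟨by norm_num⟩
  haveI : Fact (Nat.Prime 2) := ⟨Nat.prime_two⟩
  haveI : Fact (Nat.Prime 3) := ⟨Nat.prime_three⟩
  haveI : Fact (Nat.Prime 5) := ⟨by norm_num⟩
  set xL : ↥T.L := ⟨x, hx⟩
  have hxLo : orderOf xL = 7 := by rw [orderOf_mk, hxo]
  set C := centralizer ({xL} : Set ↥T.L)
  -- small primes do not divide the centralizer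
  have h2 : ¬ 2 ∣ Nat.card C := fun hd => by
    obtain ⟨i, hi⟩ := exists_prime_orderOf_dvd_card' 2 hd
    have := T.L_hyp.eq_one_of_comm (x := xL) (i := i.1) (by rw [Subgroup.orderOf_coe, hi]) (by rw [hxLo]; decide)
      (mul_inv_eq_iff_eq_mul.2 (mem_cz.1 i.2))
    rw [this, orderOf_one] at hxLo
    omega
  have hp : ∀ (p a : ℕ) [Fact p.Prime], p ≠ 7 → p ∣ a → (∃ A : Subgroup ↥T.L, SelfCount.IsTor A ∧ Nat.card A = a) →
      ¬ 7 ∣ a → ¬ p ∣ Nat.card C := by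
    intro p a _ hp7 hpa hex h7 hd
    obtain ⟨A, hA, rfl⟩ := hex
    obtain ⟨y, hy⟩ := exists_prime_orderOf_dvd_card' p hd
    obtain ⟨S, hS⟩ := (IsPGroup.of_card (n := 1) (p := p) (by
      rw [Nat.card_zpowers, Subgroup.orderOf_coe, hy, pow_one]) :
        IsPGroup p (zpowers (y : ↥T.L))).exists_le_sylow
    -- a Sylow subgroup inside the member
    obtain ⟨PA⟩ : Nonempty (Sylow p A) := inferInstance
    set P := (PA : Subgroup A).map A.subtype
    have hPp : IsPGroup p P := PA.2.map _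
    have hPi : ¬ p ∣ P.index := by
      rw [show P.index = (PA : Subgroup A).index * A.index from index_map_subtype (K := (PA : Subgroup A))]
      intro hd'
      rcases (Fact.out : p.Prime).dvd_mul.1 hd' with h' | h'
      · exact PA.not_dvd_index h'
      · exact (Fact.out : p.Prime).ne_one (Nat.eq_one_of_dvd_coprimes (T.L_hyp.coprime_index hA) hpa h')
    obtain ⟨l, hl⟩ := exists_conj_le_sylow (IsPGroup.of_card (n := 1) (p := p) (by
      rw [Nat.card_zpowers, Subgroup.orderOf_coe, hy, pow_one]) :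
        IsPGroup p (zpowers (y : ↥T.L))) (hPp.toSylow hPi)
    obtain ⟨⟨u, huA⟩, -, hu⟩ := (show l * y.1 * l⁻¹ ∈ P from hl _ (mem_zpowers _))
    replace hu : u = l * y.1 * l⁻¹ := hu
    have hu1 : u ≠ 1 := fun e => by
      rw [e] at hu
      have hy1 : (y : ↥T.L) = 1 := conj_eq_one_iff.1 hu.symm
      rw [← Subgroup.orderOf_coe, hy1, orderOf_one] at hy
      exact (Fact.out : p.Prime).ne_one hy.symm
    have hxA : l * xL * l⁻¹ ∈ A := by
      rw [T.L_hyp.tor_cent hA huA hu1, hu]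
      refine mem_cz.2 ?_
      have hc : xL * y.1 = y.1 * xL := (mem_cz.1 y.2).symm
      calc l * xL * l⁻¹ * (l * y.1 * l⁻¹) = l * (xL * y.1) * l⁻¹ := by group
        _ = l * (y.1 * xL) * l⁻¹ := by rw [hc]
        _ = _ := by group
    have hd7 : orderOf (⟨_, hxA⟩ : A) ∣ Nat.card A := orderOf_dvd_natCard _
    rw [orderOf_mk, show l * xL * l⁻¹ = MulAut.conj l xL from rfl, MulEquiv.orderOf_eq, hxLo] at hd7
    exact h7 hd7
  have hC7 : Nat.card C = 7 := by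
    have hdd := card_subgroup_dvd_card C
    rw [T.card_L] at hdd
    have h7 : 7 ∣ Nat.card C := by
      rw [← hxLo, ← orderOf_mk xL (mem_cz.2 rfl)]; exact orderOf_dvd_natCard _
    obtain ⟨A5, hA5, hA5c, -⟩ := T.L_data.2.1
    obtain ⟨A9, hA9, hA9c⟩ := T.L_data.2.2.1
    have h3 : ¬ 3 ∣ Nat.card C := hp 3 9 (by norm_num) (by norm_num) ⟨A9, hA9, hA9c⟩ (by norm_num)
    have h5 : ¬ 5 ∣ Nat.card C := hp 5 5 (by norm_num) dvd_rfl ⟨A5, hA5, hA5c⟩ (by norm_num)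
    have hc : Nat.Coprime (Nat.card C) (2 ^ 6 * 3 ^ 2 * 5) :=
      ((((Nat.prime_two.coprime_iff_not_dvd.2 h2).symm).pow_right 6).mul_right
        (((Nat.prime_three.coprime_iff_not_dvd.2 h3).symm).pow_right 2)).mul_right
        ((Fact.out : Nat.Prime 5).coprime_iff_not_dvd.2 h5).symm
    exact Nat.dvd_antisymm (hc.dvd_of_dvd_mul_left (by norm_num; exact hdd)) h7
  have hCeq : zpowers xL = C :=
    eq_of_le_of_card_ge (zpowers_le.2 (mem_cz.2 rfl)) (by rw [hC7, Nat.card_zpowers, hxLo])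
  refine ⟨fun a ha hax => ?_, ?_⟩
  · obtain ⟨i, hi⟩ := (hCeq ▸ mem_cz.2 (Subtype.ext hax) : (⟨a, ha⟩ : ↥T.L) ∈ zpowers xL)
    exact ⟨i, congrArg Subtype.val hi⟩
  set N := normalizer (zpowers xL : Set ↥T.L)
  have hN : Nat.card ↥(T.L ⊓ normalizer (zpowers x : Set G)) = Nat.card N := by
    have hmem : ∀ a (ha : a ∈ T.L), a * x * a⁻¹ ∈ zpowers x ↔ (⟨a, ha⟩ : ↥T.L) * xL * ⟨a, ha⟩⁻¹ ∈ zpowers xL :=
      fun a ha => ⟨fun ⟨i, hi⟩ => ⟨i, Subtype.ext hi⟩, fun ⟨i, hi⟩ => ⟨i, congrArg Subtype.val hi⟩⟩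
    exact Nat.card_congr
      { toFun := fun a => ⟨⟨a.1, a.2.1⟩, mem_normalizer_zpowers.2 ((hmem _ a.2.1).1 (mem_normalizer_zpowers.1 a.2.2))⟩
        invFun := fun a => ⟨a.1.1, a.1.2, mem_normalizer_zpowers.2 ((hmem _ a.1.2).2 (mem_normalizer_zpowers.1 a.2))⟩
        left_inv := fun _ => rfl
        right_inv := fun _ => rfl }
  rw [hN]
  have horb := card_orbit_mul N xL
  rw [show Nat.card ↥(N ⊓ centralizer ({xL} : Set ↥T.L)) = 7 by
    rw [← hC7]
    exact Nat.card_congr (Equiv.subtypeEquivRight fun a => ⟨fun h => h.2,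
      fun h => ⟨mem_normalizer_zpowers.2 (by rw [conj_eq_iff_comm.2 (mem_cz.1 h)]; exact mem_zpowers xL), h⟩⟩)] at horb
  set k := Nat.card {y : ↥T.L // ∃ n ∈ N, n * xL * n⁻¹ = y}
  have hk6 : k ≤ 6 := by
    have hx1 : xL ≠ 1 := fun e => by rw [e, orderOf_one] at hxLo; omega
    refine le_trans (Nat.card_le_card_of_injective (fun a => (⟨⟨a.1, ?_⟩, ?_⟩ : {y : zpowers xL // y ≠ 1}))
      fun a b e => Subtype.ext (congrArg (fun y : {y : zpowers xL // y ≠ 1} => ((y : zpowers xL) : ↥T.L)) e)) ?_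
    · obtain ⟨n, hn, e⟩ := a.2
      exact e ▸ (mem_normalizer_iff.1 hn xL).1 (mem_zpowers xL)
    · obtain ⟨n, hn, e⟩ := a.2
      exact fun e1 => hx1 (conj_eq_one_iff.1 (e.trans (congrArg Subtype.val e1 :)))
    · haveI := Fintype.ofFinite (zpowers xL)
      rw [Nat.card_eq_fintype_card, Fintype.card_subtype_compl, Fintype.card_subtype_eq, ← Nat.card_eq_fintype_card,
        Nat.card_zpowers, hxLo]
  have hk0 : 0 < k := by
    haveI : Nonempty {y : ↥T.L // ∃ n ∈ N, n * xL * n⁻¹ = y} := ⟨⟨xL, 1, one_mem _, by simp⟩⟩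
    exact Nat.card_pos
  have hz : IsPGroup 7 (zpowers xL) := IsPGroup.of_card (n := 1) (by rw [Nat.card_zpowers, hxLo, pow_one])
  have hidx : ¬ 7 ∣ (zpowers xL).index := fun hd => by
    have h := (zpowers xL).card_mul_index
    rw [Nat.card_zpowers, hxLo, T.card_L] at h
    omega
  have hmod := card_sylow_modEq_one 7 ↥T.L
  rw [Sylow.card_eq_index_normalizer (hz.toSylow hidx)] at hmod
  change N.index % 7 = 1 % 7 at hmod
  have hmul := N.card_mul_index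
  rw [T.card_L, ← horb] at hmul
  rw [← horb]
  generalize N.index = j at hmod hmul
  interval_cases k <;> omega

/-- The data for an element of order five of the complement. -/
theorem five_K {x : G} (hx : x ∈ T.L) (hxo : orderOf x = 5) :
    (∀ y ∈ T.K, y * x = x * y → ∃ q, ∃ i : ℤ, y = T.eE q * x ^ i) ∧
    Nat.card ↥(T.K ⊓ centralizer ({x} : Set G)) = 20 ∧
    Nat.card ↥(T.K ⊓ normalizer (zpowers x : Set G)) = 80 ∧
    ∀ y ∈ zpowers x, y ≠ 1 → ∃ k ∈ T.K, k * x * k⁻¹ = y := by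
  haveI : Fact (Nat.Prime 5) := ⟨by norm_num⟩
  exact T.automizer (n := 2) (Or.inl rfl) hx hxo (by rw [T.card_L]; norm_num) (T.five_L hx hxo).1
    (T.five_L hx hxo).2 (by norm_num)

/-- The data for an element of order seven of the complement. -/
theorem seven_K {x : G} (hx : x ∈ T.L) (hxo : orderOf x = 7) :
    (∀ y ∈ T.K, y * x = x * y → ∃ q, ∃ i : ℤ, y = T.eE q * x ^ i) ∧
    Nat.card ↥(T.K ⊓ centralizer ({x} : Set G)) = 28 ∧
    Nat.card ↥(T.K ⊓ normalizer (zpowers x : Set G)) = 168 ∧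
    ∀ y ∈ zpowers x, y ≠ 1 → ∃ k ∈ T.K, k * x * k⁻¹ = y := by
  haveI : Fact (Nat.Prime 7) := ⟨by norm_num⟩
  exact T.automizer (n := 3) (Or.inr rfl) hx hxo (by rw [T.card_L]; norm_num) (T.seven_L hx hxo).1
    (T.seven_L hx hxo).2 (by norm_num)

end Pt.Tri

end

end CfsgLib.Spor.SuzType
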