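import Cfsg.Agent.Lib.Spor.SuzType.Kernel
import Cfsg.Agent.Lib.Invol.BrauerSuzuki
import Cfsg.Agent.Lib.Coprime.Core

/-!
# The centralizer of the reference involution
-/

set_option autoImplicit false
set_option synthInstance.maxSize 4096

namespace CfsgLib.Spor.SuzType

open Subgroup CfsgLib.Spor.CoOneType CfsgLib.Invol

noncomputable section

variable {G : Type*} [Group G] [Finite G] {z : G} {Q : Subgroup G} {v : G → Vec} {ρ : G → Iso6}

theorem flip_fixed : ∀ p : W4 × W4, MP p → sqp p = 0 →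
    wf (kw 3) p.1 + wf (kw 3) p.2 = p.1 → wf (kw 3) p.2 = p.2 → p = 0 := by decide +kernel

/-- The parameters fixed by the outer elements. -/
def fixp : Fin 2 → W4 × W4 := ![(m₁ + m₂, 0), (m₁, m₁ + m₂)]

theorem fixp_spec : ∀ i : Fin 2, MP (fixp i) ∧ wf (kw 3) (fixp i).1 + wf (kw 3) (fixp i).2 = (fixp i).1 ∧
    wf (kw 3) (fixp i).2 = (fixp i).2 ∧ fixp i ≠ 0 := by decide +kernel

theorem fixp_sum : fixp 0 + fixp 1 ≠ 0 := by decide +kernel

theorem zero_one_ne : ((0, 1) : ZMod 2 × ZMod 2) ≠ 0 := by decide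

theorem one_one_ne : ((1, 0) + (0, 1) : ZMod 2 × ZMod 2) ≠ 0 := by decide

theorem pow_mem_of_relIndex_eq {H : Type*} [Group H] [Finite H] {A : Subgroup H} {x : H}
    (hx : x ∈ normalizer (A : Set H)) (h : A.relIndex (normalizer (A : Set H)) = 2) : x ^ 2 ∈ A := by
  have hn : (A.subgroupOf (normalizer (A : Set H))).index = 2 := h
  exact mem_subgroupOf.1 (Subgroup.sq_mem_of_index_two hn (⟨x, hx⟩ : normalizer (A : Set H)))

/-- Orbit of a generator under a group normalizing a subgroup of prime order. -/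
theorem orbit_full {p : ℕ} (hp : p.Prime) {N : Subgroup G} {x : G} (hx : orderOf x = p)
    (hN : ∀ n ∈ N, n * x * n⁻¹ ∈ zpowers x)
    (hc : Nat.card N = (p - 1) * Nat.card ↥(N ⊓ centralizer ({x} : Set G))) {y : G} (hy : y ∈ zpowers x)
    (hy1 : y ≠ 1) : ∃ n ∈ N, n * x * n⁻¹ = y := by
  classical
  haveI := Fintype.ofFinite G
  have h := card_orbit_mul N x
  rw [hc] at h
  have horb : Nat.card {y : G // ∃ n ∈ N, n * x * n⁻¹ = y} = p - 1 :=
    Nat.eq_of_mul_eq_mul_right Nat.card_pos h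
  have hx1 : x ≠ 1 := fun e => hp.ne_one (by rw [← hx, e, orderOf_one])
  have hfull : Nat.card {y : G // y ∈ zpowers x ∧ y ≠ 1} = p - 1 := by
    have e : {y : G // y ∈ zpowers x ∧ y ≠ 1} ≃ {y : zpowers x // ¬ y = 1} :=
      { toFun := fun a => ⟨⟨a.1, a.2.1⟩, fun e => a.2.2 (congrArg Subtype.val e)⟩
        invFun := fun a => ⟨a.1.1, a.1.2, fun e => a.2 (Subtype.ext e)⟩
        left_inv := fun _ => rfl
        right_inv := fun _ => rfl }
    rw [Nat.card_congr e, Nat.card_eq_fintype_card, Fintype.card_subtype_compl, Fintype.card_subtype_eq,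
      ← Nat.card_eq_fintype_card, Nat.card_zpowers, hx]
  obtain ⟨⟨u, n, hn, hu⟩, he⟩ := ((Nat.bijective_iff_injective_and_card
    (fun a : {y : G // ∃ n ∈ N, n * x * n⁻¹ = y} => (⟨a.1, by
      obtain ⟨n, hn, e⟩ := a.2
      exact ⟨e ▸ hN n hn, fun e1 => hx1 (conj_eq_one_iff.1 (e.trans e1))⟩⟩ :
        {y : G // y ∈ zpowers x ∧ y ≠ 1}))).2
    ⟨fun a b e => Subtype.ext (congrArg Subtype.val e :), horb.trans hfull.symm⟩).2 ⟨y, hy, hy1⟩
  exact ⟨n, hn, hu.trans (congrArg Subtype.val he :)⟩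

namespace Pt.Tri

variable {g : G} {F : Pt z Q v ρ g} {t w : G} (T : F.Tri t w)

/-- The centralizer of the reference involution. -/
abbrev K (_T : F.Tri t w) : Subgroup G := centralizer ({t} : Set G)

include T

theorem CE_le : T.CE ≤ T.K := inf_le_left

theorem t_ne_z : t ≠ z := fun e => T.not_conj_z (e ▸ IsConj.refl z)

theorem isPGroup_cz_t : IsPGroup 2 ↥(centralizer ({z} : Set G) ⊓ centralizer ({t} : Set G)) :=
  IsPGroup.of_card (n := 9) ((F.card_cz_t T.tf).trans (by norm_num))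

theorem weak_closure {k : G} (hk : k ∈ T.K) (h : k * T.t1 * k⁻¹ ∈ centralizer ({z} : Set G)) :
    k * T.t1 * k⁻¹ = T.t1 ∨ k * T.t1 * k⁻¹ = t * T.t1 := by
  have hkt := mem_cz.1 hk
  have hy : k⁻¹ * z * k ∈ T.CE := by
    refine ⟨mem_cz.2 ?_, mem_cz.2 ?_⟩
    · have hzt : z * t = t * z := (mem_cz.1 (F.form_cz T.tf)).symm
      calc k⁻¹ * z * k * t = k⁻¹ * z * (k * t) := by group
        _ = k⁻¹ * (z * t) * k := by rw [hkt]; group
        _ = k⁻¹ * t * z * k := by rw [hzt]; group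
        _ = t * (k⁻¹ * z * k) := by
          rw [show k⁻¹ * t = t * k⁻¹ from ((show Commute k t from hkt).inv_left).eq]; group
    · calc k⁻¹ * z * k * T.t1 = k⁻¹ * (z * (k * T.t1 * k⁻¹)) * k := by group
        _ = k⁻¹ * (k * T.t1 * k⁻¹ * z) * k := by rw [mem_cz.1 h]
        _ = T.t1 * (k⁻¹ * z * k) := by simp [mul_assoc]
  obtain ⟨l, hl, hlz⟩ := T.L_fused (T.zclass_L hy (isConj_iff.2 ⟨k⁻¹, by rw [inv_inv]⟩))
    (by rw [show k⁻¹ * z * k * (k⁻¹ * z * k) = k⁻¹ * (z * z) * k by group, F.setup.zz]; group)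
    (fun e => F.setup.z_ne (by
      calc z = k * (k⁻¹ * z * k) * k⁻¹ := by group
        _ = 1 := by rw [e]; group))
  have hlt1 : l * T.t1 * l⁻¹ = T.t1 := conj_eq_iff_comm.2 (mem_cz.1 (T.L_le hl).2)
  have hz : k * l * z * (k * l)⁻¹ = z := by
    rw [show k * l * z * (k * l)⁻¹ = k * (l * z * l⁻¹) * k⁻¹ by group, hlz]; group
  have e : k * l * T.t1 * (k * l)⁻¹ = k * T.t1 * k⁻¹ := by
    rw [show k * l * T.t1 * (k * l)⁻¹ = k * (l * T.t1 * l⁻¹) * k⁻¹ by group, hlt1]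
  have hklt : k * l * t = t * (k * l) :=
    ((show Commute k t from hkt).mul_left (show Commute l t from mem_cz.1 (T.L_le hl).1)).eq
  have hklz : k * l ∈ centralizer ({z} : Set G) := mem_cz.2 (conj_eq_iff_comm.1 hz)
  rcases T.cz_t_cases hklz hklt with h1 | h1
  · left
    rw [← e]
    exact conj_eq_iff_comm.2 (mem_cz.1 (T.inner_CE h1).2)
  · right
    rw [← e]
    exact T.outer_swaps hklz hklt h1

theorem tS_index : ¬ 2 ∣ ((centralizer ({z} : Set G) ⊓ centralizer ({t} : Set G)).subgroupOf T.K).index := by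
  haveI : Fact (Nat.Prime 2) := ⟨Nat.prime_two⟩
  refine not_dvd_index_of_normalizer
    (T.isPGroup_cz_t.comap_of_injective T.K.subtype T.K.subtype_injective) fun x hx _ => ?_
  set H := centralizer ({z} : Set G) ⊓ centralizer ({t} : Set G)
  have hnorm : ∀ y ∈ H, (x : G) * y * (x : G)⁻¹ ∈ H ∧ (x : G)⁻¹ * y * (x : G) ∈ H := fun y hy => by
    refine ⟨mem_subgroupOf.1 ((mem_normalizer_iff.1 hx ⟨y, hy.2⟩).1 (mem_subgroupOf.2 hy)), ?_⟩
    exact mem_subgroupOf.1 ((mem_normalizer_iff.1 hx (⟨(x : G)⁻¹ * y * (x : G),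
      Subgroup.mul_mem _ (Subgroup.mul_mem _ (Subgroup.inv_mem _ x.2) hy.2) x.2⟩)).2 (mem_subgroupOf.2 (by
        show (x : G) * ((x : G)⁻¹ * y * (x : G)) * (x : G)⁻¹ ∈ H
        rw [show (x : G) * ((x : G)⁻¹ * y * (x : G)) * (x : G)⁻¹ = y by group]; exact hy)))
  have hzH : z ∈ H := ⟨mem_cz.2 rfl, mem_cz.2 (mem_cz.1 (F.form_cz T.tf)).symm⟩
  set y := (x : G) * z * (x : G)⁻¹ with hy
  have hyH := (hnorm z hzH).1
  have hcen : ∀ u ∈ H, y * u = u * y := fun u hu => by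
    have h1 : z * ((x : G)⁻¹ * u * (x : G)) = (x : G)⁻¹ * u * (x : G) * z := (mem_cz.1 (hnorm u hu).2.1).symm
    calc y * u = (x : G) * (z * ((x : G)⁻¹ * u * (x : G))) * (x : G)⁻¹ := by rw [hy]; group
      _ = (x : G) * ((x : G)⁻¹ * u * (x : G) * z) * (x : G)⁻¹ := by rw [h1]
      _ = u * y := by rw [hy]; group
  obtain ⟨e, he⟩ := T.central_Sm (T.zclass_mem hyH.1 (mem_cz.1 hyH.2) (isConj_iff.2 ⟨(x : G), rfl⟩))
    fun u hu => hcen u ⟨(T.Sm_le hu).1.1, (T.Sm_le hu).2.1⟩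
  obtain ⟨o, ho, hot, hop, -⟩ := F.exists_outer T.tf
  have hoc := hcen o ⟨ho, mem_cz.2 hot⟩
  refine mem_subgroupOf.2 ⟨mem_cz.2 (conj_eq_iff_comm.1 (show y = z from ?_)), x.2⟩
  rw [show y = F.zp e from he] at hoc ⊢
  have hoz : o * z * o⁻¹ = z := conj_eq_iff_comm.2 (mem_cz.1 ho)
  obtain ⟨e1, e2⟩ := e
  rcases two_cases e2 with rfl | rfl
  · rcases two_cases e1 with rfl | rfl
    · rw [show ((0, 0) : ZMod 2 × ZMod 2) = 0 from rfl, F.zp_zero] at he
      exact absurd (conj_eq_one_iff.1 he) F.setup.z_ne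
    · exact F.zp_z
  · exfalso
    have h2 : o * F.zp (e1, 1) * o⁻¹ = F.zp (e1, 1) := conj_eq_iff_comm.2 hoc.symm
    have h3 : F.zp (e1, 1) = F.zp (e1, 0) * F.pt := by
      rw [← F.zp_pt, F.zp_add]; simp
    have h4 : o * F.zp (e1, 0) * o⁻¹ = F.zp (e1, 0) := by
      rcases two_cases e1 with rfl | rfl
      · rw [show ((0, 0) : ZMod 2 × ZMod 2) = 0 from rfl, F.zp_zero]; group
      · rw [F.zp_z]; exact hoz
    rw [h3, show o * (F.zp (e1, 0) * F.pt) * o⁻¹ = o * F.zp (e1, 0) * o⁻¹ * (o * F.pt * o⁻¹) by group, h4, hop] at h2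
    exact F.setup.z_ne (mul_eq_left.1 (mul_left_cancel h2))

/-- The four group is normal in the centralizer. -/
theorem K_fixes {k : G} (hk : k ∈ T.K) : k * T.t1 * k⁻¹ = T.t1 ∨ k * T.t1 * k⁻¹ = t * T.t1 := by
  haveI : Fact (Nat.Prime 2) := ⟨Nat.prime_two⟩
  set H := centralizer ({z} : Set G) ⊓ centralizer ({t} : Set G)
  let tK : ↥T.K := ⟨t, mem_cz.2 rfl⟩
  haveI hN : (zpowers tK).Normal := ⟨fun n hn g => by
    obtain ⟨i, rfl⟩ := hn
    have hc : Commute g tK := Subtype.ext (mem_cz.1 g.2)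
    show g * tK ^ i * g⁻¹ ∈ _
    rw [(hc.zpow_right i).eq, mul_inv_cancel_right]
    exact zpow_mem (mem_zpowers _) i⟩
  set π := QuotientGroup.mk' (zpowers tK) with hπ
  have hker : ∀ a : ↥T.K, π a = 1 → (a : G) = 1 ∨ (a : G) = t := by
    intro a ha
    obtain ⟨i, hi⟩ := (QuotientGroup.eq_one_iff a).1 ha
    have hi' : t ^ i = (a : G) := congrArg Subtype.val hi
    rcases Int.even_or_odd i with ⟨j, rfl⟩ | ⟨j, rfl⟩
    · left; rw [← hi', ← two_mul, zpow_mul, zpow_two, T.t_sq, one_zpow]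
    · right; rw [← hi', zpow_add_one, zpow_mul, zpow_two, T.t_sq, one_zpow, one_mul]
  have hP : IsPGroup 2 (H.subgroupOf T.K) := T.isPGroup_cz_t.comap_of_injective _ T.K.subtype_injective
  have hPidx : ¬ 2 ∣ ((H.subgroupOf T.K).map π).index := fun h =>
    T.tS_index (h.trans (index_map_dvd _ (QuotientGroup.mk'_surjective _)))
  set S := (hP.map π).toSylow hPidx
  have ht1K : T.t1 ∈ T.K := mem_cz.2 T.t_t1.symm
  let u : ↥T.K ⧸ zpowers tK := π ⟨T.t1, ht1K⟩
  have hu1 : u ≠ 1 := fun e => by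
    rcases hker _ e with e' | e'
    · exact invol_ne_one T.t1_ord e'
    · have h := F.form_params T.t1f (show F.Form a₀ c₀ T.t1 from (show T.t1 = t from e').symm ▸ T.tf)
      exact absurd h.2 (by decide +kernel)
  have hu : orderOf u = 2 := invol_iff.2 ⟨by
    rw [← map_mul, show (⟨T.t1, ht1K⟩ : ↥T.K) * ⟨T.t1, ht1K⟩ = 1 from Subtype.ext T.t1_sq, map_one], hu1⟩
  have hz := zstar_of_weakly_closed S hu fun x hx => by
    induction x using QuotientGroup.induction_on with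
    | _ x =>
      obtain ⟨y, hy, hye⟩ := (show π x * u * (π x)⁻¹ ∈ (H.subgroupOf T.K).map π from hx)
      have hq : π (y⁻¹ * (x * ⟨T.t1, ht1K⟩ * x⁻¹)) = 1 := by
        rw [map_mul, map_inv, map_mul, map_mul, map_inv, hye]
        exact inv_mul_cancel _
      have hyH := mem_subgroupOf.1 hy
      have hm : (x : G) * T.t1 * (x : G)⁻¹ ∈ centralizer ({z} : Set G) := by
        rcases hker _ hq with e' | e'
        · exact (inv_mul_eq_one.1 e' : (y : G) = (x : G) * T.t1 * (x : G)⁻¹) ▸ hyH.1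
        · have e2 : (x : G) * T.t1 * (x : G)⁻¹ = (y : G) * t := eq_mul_of_inv_mul_eq e'
          rw [e2]
          exact mul_mem hyH.1 (F.form_cz T.tf)
      show π x * u * (π x)⁻¹ = u
      rw [← map_mul, ← map_inv, ← map_mul]
      rcases T.weak_closure x.2 hm with e' | e'
      · exact congrArg π (Subtype.ext e')
      · rw [show x * ⟨T.t1, ht1K⟩ * x⁻¹ = tK * ⟨T.t1, ht1K⟩ from Subtype.ext e', map_mul,
          show π tK = 1 from (QuotientGroup.eq_one_iff tK).2 (mem_zpowers _), one_mul]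
  have hcore : ∀ a : ↥T.K ⧸ zpowers tK, a ∈ Cfsg.pPrimeCore 2 (↥T.K ⧸ zpowers tK) → a = 1 := by
    have hodd : ∀ a ∈ Cfsg.pPrimeCore 2 (↥T.K ⧸ zpowers tK), Odd (orderOf a) := fun a ha => by
      have h := CfsgLib.Coprime.pPrimeCore_not_dvd (G := ↥T.K ⧸ zpowers tK) Nat.prime_two
      rw [← Nat.not_even_iff_odd, even_iff_two_dvd]
      exact fun hd => h (hd.trans (by
        rw [← Subgroup.orderOf_mk _ ha]; exact orderOf_dvd_natCard _))
    have hVK : ∀ e, F.zp e ∈ T.K := fun e => T.CE_le (T.Sm_le (T.zp_mem_Sm e)).2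
    have hfp : ∀ e, e ≠ 0 → ∀ a ∈ Cfsg.pPrimeCore 2 (↥T.K ⧸ zpowers tK),
        π ⟨_, hVK e⟩ * a * (π ⟨_, hVK e⟩)⁻¹ = a → a = 1 := by
      intro e he a ha hfix
      have hm := hodd a ha
      induction a using QuotientGroup.induction_on with
      | _ x =>
        change π ⟨_, hVK e⟩ * π x * (π ⟨_, hVK e⟩)⁻¹ = π x at hfix
        set m := orderOf (π x) with hmdef
        have hm' : Odd m := hm
        have hxm : π (x ^ m) = 1 := by rw [map_pow, hmdef, pow_orderOf_eq_one]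
        have hx2m : x ^ (2 * m) = 1 := Subtype.ext (by
          rw [mul_comm, pow_mul, SubmonoidClass.coe_pow, pow_two]
          rcases hker _ hxm with e' | e' <;> rw [e']
          · exact mul_one 1
          · exact T.t_sq)
        set y := x ^ (m + 1) with hy
        have hπy : π y = π x := by rw [hy, map_pow, pow_succ, hmdef, pow_orderOf_eq_one, one_mul]
        have hym : y ^ m = 1 := by
          obtain ⟨j, hj⟩ := hm'
          rw [hy, ← pow_mul, show (m + 1) * m = 2 * m * (j + 1) by rw [hj]; ring, pow_mul, hx2m, one_pow]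
        have hyv : (y : G) * F.zp e = F.zp e * (y : G) := by
          set vK : ↥T.K := ⟨_, hVK e⟩
          have hq : π (y⁻¹ * (vK * y * vK⁻¹)) = 1 := by
            rw [map_mul, map_mul, map_mul, map_inv, map_inv, hπy, hfix, inv_mul_cancel]
          rcases hker _ hq with e' | e'
          · exact ((mul_inv_eq_iff_eq_mul.1 (inv_mul_eq_one.1 e').symm)).symm
          · exfalso
            have e2 : (vK * y * vK⁻¹ : ↥T.K) = y * tK := Subtype.ext (eq_mul_of_inv_mul_eq e')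
            have h3 := congrArg (fun k : ↥T.K => k ^ m) e2
            simp only [conj_pow, hym, mul_one, mul_inv_cancel] at h3
            have hc : Commute y tK := Subtype.ext (mem_cz.1 y.2)
            rw [hc.mul_pow, hym, one_mul] at h3
            obtain ⟨j, hj⟩ := hm'
            rw [hj, pow_succ, pow_mul, pow_two, show tK * tK = 1 from Subtype.ext T.t_sq, one_pow, one_mul] at h3
            exact T.t_ne_one (congrArg Subtype.val h3).symm
        obtain ⟨h, hh, hz⟩ := T.sm_fused (T.zp_mem_Sm e) (F.zp_sq e)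
          fun e1 => he (F.zp_inj (e1.trans F.zp_zero.symm))
        have hin : h⁻¹ * (y : G) * h ∈ centralizer ({z} : Set G) ⊓ centralizer ({t} : Set G) := by
          refine ⟨mem_cz.2 ?_, Subgroup.mul_mem _ (Subgroup.mul_mem _ (Subgroup.inv_mem _ hh.1) y.2) hh.1⟩
          rw [← hz] at hyv
          calc h⁻¹ * (y : G) * h * z = h⁻¹ * ((y : G) * (h * z * h⁻¹)) * h := by group
            _ = h⁻¹ * ((h * z * h⁻¹) * (y : G)) * h := by rw [hyv]
            _ = z * (h⁻¹ * (y : G) * h) := by group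
        obtain ⟨j, hj⟩ := T.isPGroup_cz_t ⟨_, hin⟩
        have hj' : (h⁻¹ * (y : G) * h) ^ 2 ^ j = 1 := congrArg Subtype.val hj
        have hyo : Odd (orderOf (h⁻¹ * (y : G) * h)) := by
          refine Odd.of_dvd_nat hm' (orderOf_dvd_of_pow_eq_one ?_)
          rw [show h⁻¹ * (y : G) * h = h⁻¹ * (y : G) * h⁻¹⁻¹ by rw [inv_inv], conj_pow, ← SubmonoidClass.coe_pow, hym]
          simp
        have h1 := eq_one_of_odd_of_pow_two hyo hj'
        have hy1 : y = 1 := Subtype.ext (by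
          calc (y : G) = h * (h⁻¹ * (y : G) * h) * h⁻¹ := by group
            _ = 1 := by rw [h1]; group)
        show π x = 1
        rw [← hπy, hy1, map_one]
    have hinv : ∀ e, e ≠ 0 → ∀ a ∈ Cfsg.pPrimeCore 2 (↥T.K ⧸ zpowers tK),
        π ⟨_, hVK e⟩ * a * (π ⟨_, hVK e⟩)⁻¹ = a⁻¹ := by
      intro e he
      haveI := Cfsg.pPrimeCore_normal 2 (↥T.K ⧸ zpowers tK)
      refine inverts_of_fixedPointFree (invol_iff.2 ⟨?_, fun h1 => ?_⟩)
        (fun a ha => (inferInstance : (Cfsg.pPrimeCore 2 (↥T.K ⧸ zpowers tK)).Normal).conj_mem a ha _) (hfp e he)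
      · rw [← map_mul, show (⟨_, hVK e⟩ : ↥T.K) * ⟨_, hVK e⟩ = 1 from Subtype.ext (F.zp_sq e), map_one]
      · have hc := T.sm_class (T.zp_mem_Sm e) (F.zp_sq e) fun e1 => he (F.zp_inj (e1.trans F.zp_zero.symm))
        rcases hker _ h1 with e' | e'
        · exact he (F.zp_inj ((show F.zp e = 1 from e').trans F.zp_zero.symm))
        · exact T.not_conj_z ((show F.zp e = t from e') ▸ hc)
    intro a ha
    set o := (1, 0) + ((0, 1) : ZMod 2 × ZMod 2)
    have e3 : (⟨_, hVK o⟩ : ↥T.K) = ⟨_, hVK (1, 0)⟩ * ⟨_, hVK (0, 1)⟩ := Subtype.ext (F.zp_add _ _).symm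
    have h11 := hinv o one_one_ne a ha
    rw [e3, map_mul, mul_inv_rev,
      show ∀ p q : ↥T.K ⧸ zpowers tK, p * q * a * (q⁻¹ * p⁻¹) = p * (q * a * q⁻¹) * p⁻¹ from fun p q => by group,
      hinv (0, 1) zero_one_ne a ha, hinv (1, 0) one_zero_ne a⁻¹ (inv_mem ha), inv_inv] at h11
    exact eq_one_of_odd_of_pow_two (hodd a ha) (k := 1) (by
      rw [pow_one, pow_two]; exact mul_eq_one_iff_eq_inv.2 h11)
  let kK : ↥T.K := ⟨k, hk⟩
  have h1 := hcore _ (hz (π kK))
  have h2 : π (⟨T.t1, ht1K⟩ * kK * ⟨T.t1, ht1K⟩⁻¹ * kK⁻¹) = 1 := by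
    rw [map_mul, map_mul, map_mul, map_inv, map_inv]; exact h1
  have h3 : T.t1 * k * T.t1⁻¹ * k⁻¹ = 1 ∨ T.t1 * k * T.t1⁻¹ * k⁻¹ = t := hker _ h2
  have hi : T.t1⁻¹ = T.t1 := invol_inv T.t1_ord
  rw [hi] at h3
  rcases h3 with e | e
  · left
    calc k * T.t1 * k⁻¹ = T.t1 * T.t1 * (k * T.t1 * k⁻¹) := by rw [T.t1_sq, one_mul]
      _ = T.t1 * (T.t1 * k * T.t1 * k⁻¹) := by group
      _ = T.t1 := by rw [e, mul_one]
  · right
    calc k * T.t1 * k⁻¹ = T.t1 * T.t1 * (k * T.t1 * k⁻¹) := by rw [T.t1_sq, one_mul]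
      _ = T.t1 * (T.t1 * k * T.t1 * k⁻¹) := by group
      _ = t * T.t1 := by rw [e, T.t_t1]

theorem CE_normal {k y : G} (hk : k ∈ T.K) (hy : y ∈ T.CE) : k * y * k⁻¹ ∈ T.CE := by
  refine ⟨Subgroup.mul_mem _ (Subgroup.mul_mem _ hk hy.1) (Subgroup.inv_mem _ hk), mem_cz.2 ?_⟩
  have hki : k⁻¹ * T.t1 * k = T.t1 ∨ k⁻¹ * T.t1 * k = t * T.t1 := by
    have h := T.K_fixes (Subgroup.inv_mem _ hk)
    rwa [inv_inv] at h
  have hc : y * (k⁻¹ * T.t1 * k) = k⁻¹ * T.t1 * k * y := by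
    rcases hki with e | e <;> rw [e]
    · exact mem_cz.1 hy.2
    · exact ((show Commute y t from mem_cz.1 hy.1).mul_right (show Commute y T.t1 from mem_cz.1 hy.2)).eq
  calc k * y * k⁻¹ * T.t1 = k * (y * (k⁻¹ * T.t1 * k)) * k⁻¹ := by group
    _ = k * (k⁻¹ * T.t1 * k * y) * k⁻¹ := by rw [hc]
    _ = T.t1 * (k * y * k⁻¹) := by simp [mul_assoc]

theorem card_K : Nat.card T.K = 161280 := by
  have h := card_orbit_mul T.K T.t1
  have e : Nat.card {y : G // ∃ k ∈ T.K, k * T.t1 * k⁻¹ = y} = 2 := by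
    obtain ⟨o, ho, hot, hop, -⟩ := F.exists_outer T.tf
    rw [Nat.card_eq_two_iff]
    refine ⟨⟨T.t1, 1, one_mem _, by simp⟩, ⟨t * T.t1, o, mem_cz.2 hot, T.outer_swaps ho hot hop⟩,
      fun e => ?_, ?_⟩
    · exact T.t_ne_one (right_eq_mul.1 (congrArg Subtype.val e))
    · rw [Set.eq_univ_iff_forall]
      rintro ⟨y, k, hk, rfl⟩
      rcases T.K_fixes hk with e | e
      · exact Or.inl (Subtype.ext e)
      · exact Or.inr (Subtype.ext e)
  rw [e, show T.K ⊓ centralizer ({T.t1} : Set G) = T.CE from rfl, T.card_CE, T.card_L] at h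
  omega

theorem L_normal {k x : G} (hk : k ∈ T.K) (hx : x ∈ T.L) : k * x * k⁻¹ ∈ T.L := by
  let μ : ↥T.L →* Multiplicative (ZMod 2 × ZMod 2) :=
    MonoidHom.mk' (fun l => T.proj ⟨k * l * k⁻¹, T.CE_normal hk (T.L_le l.2)⟩) fun a b => by
      rw [← map_mul]
      refine congrArg T.proj (Subtype.ext ?_)
      show k * ((a : G) * b) * k⁻¹ = k * a * k⁻¹ * (k * b * k⁻¹)
      group
  have hker : T.Sm.subgroupOf T.L ≤ μ.ker := by
    intro l hl
    rw [MonoidHom.mem_ker]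
    have hl' := mem_subgroupOf.1 hl
    obtain ⟨a, b, e, ⟨ha, ha2⟩, ⟨hb, hb2⟩, ⟨he, he2⟩, heq⟩ := T.sm_generated hl'
    have key : ∀ i (hi : i ∈ T.Sm), i * i = 1 → μ ⟨i, T.sm_L hi⟩ = 1 := by
      intro i hi hi2
      by_cases hi1 : i = 1
      · subst hi1
        exact map_one μ
      obtain ⟨h, he'⟩ := T.mem_L.1 (T.zclass_L (T.CE_normal hk (T.Sm_le hi).2)
        ((T.sm_class hi hi2 hi1).trans (isConj_iff.2 ⟨k, rfl⟩)))
      exact he'
    rw [show l = ⟨e, T.sm_L he⟩ * (⟨a, T.sm_L ha⟩ * ⟨b, T.sm_L hb⟩) from Subtype.ext heq, map_mul, map_mul,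
      key e he he2, key a ha ha2, key b hb hb2, one_mul, one_mul]
  have h315 : (T.Sm.subgroupOf T.L).index = 315 := by
    have h := (T.Sm.subgroupOf T.L).card_mul_index
    rw [Nat.card_congr (subgroupOfEquivOfLe (fun y hy => T.sm_L hy)).toEquiv, T.card_Sm, T.card_L] at h
    omega
  have hd : Nat.card μ.range ∣ 315 := by
    rw [← index_ker, ← h315]; exact index_dvd_of_le hker
  have hd4 : Nat.card μ.range ∣ 4 := by
    have h := card_subgroup_dvd_card μ.range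
    rwa [Nat.card_congr Multiplicative.toAdd, Nat.card_prod, Nat.card_zmod] at h
  have h1 := Nat.eq_one_of_dvd_coprimes (by norm_num : Nat.Coprime 4 315) hd4 hd
  have hb := card_eq_one.1 h1
  exact T.mem_L.2 ⟨T.CE_normal hk (T.L_le hx), mem_bot.1 (hb ▸ ⟨⟨x, hx⟩, rfl⟩ : μ ⟨x, hx⟩ ∈ (⊥ : Subgroup _))⟩

theorem outside_mul {a b : G} (ha : a ∈ T.K) (ha' : a ∉ T.CE) (hb : b ∈ T.K) (hb' : b ∉ T.CE) :
    a * b ∈ T.CE := by
  have key : ∀ k ∈ T.K, k ∉ T.CE → k * T.t1 * k⁻¹ = t * T.t1 := fun k hk hk' =>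
    (T.K_fixes hk).resolve_left fun e => hk' ⟨hk, mem_cz.2 (conj_eq_iff_comm.1 e)⟩
  refine ⟨Subgroup.mul_mem _ ha hb, mem_cz.2 (conj_eq_iff_comm.1 ?_)⟩
  rw [show a * b * T.t1 * (a * b)⁻¹ = a * (b * T.t1 * b⁻¹) * a⁻¹ by group, key b hb hb',
    show a * (t * T.t1) * a⁻¹ = a * t * a⁻¹ * (a * T.t1 * a⁻¹) by group, key a ha ha',
    conj_eq_iff_comm.2 (mem_cz.1 ha), ← mul_assoc, T.t_sq, one_mul]

theorem pow_odd_notMem {a : G} (ha : a ∈ T.K) (ha' : a ∉ T.CE) {m : ℕ} (hm : Odd m) : a ^ m ∉ T.CE := by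
  obtain ⟨j, rfl⟩ := hm
  intro h
  have h2 : (a * a) ^ j ∈ T.CE := pow_mem (T.outside_mul ha ha' ha ha') j
  rw [pow_succ, pow_mul, pow_two] at h
  exact ha' (by simpa using mul_mem (inv_mem h2) h)

/-- An outer two-element at the pair centralizes no element of order seven, and none of order five. -/
theorem outer_cent {u x : G} (hu : u ∈ centralizer ({z} : Set G)) (hut : u * t = t * u)
    (hup : u * F.pt * u⁻¹ = F.pt * z) (hx : x ∈ T.L) (hux : u * x = x * u)
    (hxo : orderOf x = 5 ∨ orderOf x = 7) : False := by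
  classical
  haveI : Fact (Nat.Prime 2) := ⟨Nat.prime_two⟩
  set H := T.L ⊓ centralizer ({u} : Set G)
  have hzH : z ∈ H := ⟨T.z_L, mem_cz.2 (mem_cz.1 hu).symm⟩
  have hxH : x ∈ H := ⟨hx, mem_cz.2 hux.symm⟩
  let z' : ↥H := ⟨z, hzH⟩
  have hz' : orderOf z' = 2 := by rw [orderOf_mk]; exact F.setup.core.ord
  -- the involutions of the two-group
  have huniq : ∀ s ∈ T.Sm, s * u = u * s → s * s = 1 → s = 1 ∨ s = z := by
    rintro s ⟨p, hp, hf⟩ hsu hs2
    have hsq : sqp p = 0 := F.zp_inj ((F.form_sqp hf).symm.trans (hs2.trans F.zp_zero.symm))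
    have h := F.form_conj_swap hu hup hf
    rw [conj_eq_iff_comm.2 hsu.symm, F.outer_hp T.tf hu hut hup, F.outer_hp T.tf hu hut hup] at h
    obtain ⟨e1, e2⟩ := F.form_params h hf
    obtain rfl := flip_fixed p hp hsq e1 e2
    obtain ⟨⟨d1, d2⟩, rfl⟩ := F.form_unique F.form_one hf
    rw [mul_one] at hsu ⊢
    have huz : Commute u z := mem_cz.1 hu
    rcases two_cases d2 with rfl | rfl
    · rcases two_cases d1 with rfl | rfl
      · exact Or.inl F.zi_zero
      · exact Or.inr F.zp_z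
    · exfalso
      have hp : Commute u F.pt := by
        rcases two_cases d1 with rfl | rfl
        · rw [F.zp_pt] at hsu; exact hsu.symm
        · have h3 := huz.mul_right (show Commute u (F.zp (1, 1)) from hsu.symm)
          have e : z * F.zp (1, 1) = F.pt := by
            simp only [zp, zi, ZMod.val_one, pow_one, ← mul_assoc, F.setup.zz, one_mul]
          rwa [e] at h3
      rw [conj_eq_iff_comm.2 hp.eq] at hup
      exact F.setup.z_ne (left_eq_mul.1 hup)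
  set C : Subgroup ↥H := centralizer ({z'} : Set ↥H)
  have hCS : ∀ y ∈ C, (y : G) ∈ T.Sm := fun y hy =>
    T.L_cz y.2.1 (congrArg Subtype.val (mem_cz.1 hy))
  have hCp : IsPGroup 2 C := by
    intro y
    obtain ⟨k, hk⟩ := (IsPGroup.of_card (n := 6) (T.card_Sm.trans (by norm_num)) : IsPGroup 2 T.Sm)
      ⟨_, hCS y y.2⟩
    exact ⟨k, Subtype.ext (Subtype.ext (congrArg Subtype.val hk :))⟩
  have hCu : ∀ y ∈ C, orderOf y = 2 → y = z' := by
    intro y hy hyo
    obtain ⟨h1, h2⟩ := invol_iff.1 hyo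
    exact Subtype.ext ((huniq _ (hCS y hy) (mem_cz.1 y.2.2) (congrArg Subtype.val h1)).resolve_left
      fun e => h2 (Subtype.ext e))
  have hidx : ¬ 2 ∣ C.index := by
    refine not_dvd_index_of_normalizer hCp fun y hy _ => mem_cz.2 (conj_eq_iff_comm.1 ?_)
    exact hCu _ ((mem_normalizer_iff.1 hy z').1 (mem_cz.2 rfl)) (invol_conj hz' y)
  have hzc := zcentral_of_unique_invol (hCp.toSylow hidx) hz' fun y hy hyo => hCu y hy hyo
  set O := Cfsg.pPrimeCore 2 ↥H
  haveI : O.Normal := Cfsg.pPrimeCore_normal 2 ↥H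
  have hOodd : ∀ a ∈ O, Odd (orderOf a) := fun a ha => by
    rw [← Nat.not_even_iff_odd, even_iff_two_dvd]
    exact fun hd => CfsgLib.Coprime.pPrimeCore_not_dvd (G := ↥H) Nat.prime_two
      (hd.trans (by rw [← Subgroup.orderOf_mk _ ha]; exact orderOf_dvd_natCard _))
  have hCO : ∀ a ∈ O, a ∈ C → a = 1 := fun a ha haC => by
    obtain ⟨k, hk⟩ := hCp ⟨a, haC⟩
    exact eq_one_of_odd_of_pow_two (hOodd a ha) (congrArg Subtype.val hk :)
  have hinv : ∀ a ∈ O, z' * a * z'⁻¹ = a⁻¹ := inverts_of_fixedPointFree hz'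
    (fun a ha => (inferInstance : O.Normal).conj_mem a ha z') fun a ha hfix =>
      hCO a ha (mem_cz.2 ((mul_inv_eq_iff_eq_mul.1 hfix)).symm)
  let x' : ↥H := ⟨x, hxH⟩
  have hxo' : Odd (orderOf x') := by
    rw [orderOf_mk]; rcases hxo with e | e <;> rw [e] <;> decide
  have hxO : x' ∈ O := by
    set d := z' * x' * z'⁻¹ * x'⁻¹ with hd
    have hdO : d ∈ O := hzc x'
    obtain ⟨j, hj⟩ := hOodd d hdO
    -- a square root of the inverse
    set b := (d⁻¹) ^ (j + 1) with hb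
    have hbO : b ∈ O := pow_mem (inv_mem hdO) _
    have hb2 : b * b = d⁻¹ := by
      have h1 : d⁻¹ ^ (2 * j + 1) = 1 := by rw [← hj, inv_pow, pow_orderOf_eq_one, inv_one]
      rw [hb, ← pow_add, show j + 1 + (j + 1) = (2 * j + 1) + 1 by ring, pow_succ, h1, one_mul]
    have hzb : z' * b * z'⁻¹ = d * b := by
      rw [hinv b hbO]
      calc b⁻¹ = (b * b)⁻¹ * b := by group
        _ = d * b := by rw [hb2, inv_inv]
    have hc : b⁻¹ * x' ∈ C := mem_cz.2 (conj_eq_iff_comm.1 (by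
      calc b⁻¹ * x' * z' * (b⁻¹ * x')⁻¹ = b⁻¹ * x' * z' * x'⁻¹ * z'⁻¹ * (z' * b * z'⁻¹) * z' := by group
        _ = b⁻¹ * x' * z' * x'⁻¹ * z'⁻¹ * (z' * x' * z'⁻¹ * x'⁻¹ * b) * z' := by rw [hzb, hd]
        _ = z' := by group))
    obtain ⟨k, hk⟩ := hCp ⟨_, hc⟩
    have hk' : (b⁻¹ * x') ^ 2 ^ k = 1 := congrArg Subtype.val hk
    set π := QuotientGroup.mk' O
    have hπ : π x' = π (b⁻¹ * x') := by
      rw [map_mul, map_inv, show π b = 1 from (QuotientGroup.eq_one_iff b).2 hbO, inv_one, one_mul]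
    have hone : π x' = 1 := by
      refine eq_one_of_odd_of_pow_two (Odd.of_dvd_nat hxo' (orderOf_map_dvd π x')) (k := k) ?_
      rw [hπ, ← map_pow, hk', map_one]
    exact (QuotientGroup.eq_one_iff x').1 hone
  have hxinv : z * x * z⁻¹ = x⁻¹ := congrArg Subtype.val (hinv x' hxO)
  let xL : ↥T.L := ⟨x, hx⟩
  let zL : ↥T.L := ⟨z, T.z_L⟩
  have htor : SelfCount.IsTor (centralizer ({xL} : Set ↥T.L)) := by
    refine ⟨xL, fun e => ?_, ?_, ⟨zL, ?_, Subtype.ext hxinv⟩, rfl⟩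
    · rw [show x = 1 from congrArg Subtype.val e, orderOf_one] at hxo
      omega
    · rw [orderOf_mk]; rcases hxo with e | e <;> rw [e] <;> decide
    · rw [orderOf_mk]; exact F.setup.core.ord
  have hcard := T.L_data.2.2.2 _ htor
  have hdvd : orderOf x ∣ Nat.card (centralizer ({xL} : Set ↥T.L)) := by
    rw [show orderOf x = orderOf (⟨xL, mem_cz.2 rfl⟩ : centralizer ({xL} : Set ↥T.L)) by
      rw [orderOf_mk, orderOf_mk]]
    exact orderOf_dvd_natCard _
  rcases hxo with h5 | h7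
  swap
  · rw [h7] at hdvd
    rcases hcard with e | e <;> rw [e] at hdvd <;> norm_num at hdvd
  rw [h5] at hdvd
  have hA5 : Nat.card (centralizer ({xL} : Set ↥T.L)) = 5 := by
    rcases hcard with e | e
    · exact e
    · rw [e] at hdvd; norm_num at hdvd
  -- an element of order four centralized by the outer element
  obtain ⟨s, hs, hsu, hsz1, hsz⟩ : ∃ s ∈ T.Sm, s * u = u * s ∧ s ≠ 1 ∧ s ≠ z := by
    have hel : ∀ i : Fin 2, ∃ d : ZMod 2 × ZMod 2, u * F.el' (fixp i) * u⁻¹ = F.zp d * F.el' (fixp i) := by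
      intro i
      have h := F.form_conj_swap hu hup (F.el'_form (fixp i))
      rw [F.outer_hp T.tf hu hut hup, F.outer_hp T.tf hu hut hup, (fixp_spec i).2.1, (fixp_spec i).2.2.1] at h
      exact F.form_unique (F.el'_form (fixp i)) h
    obtain ⟨d0, hd0⟩ := hel 0
    obtain ⟨d1, hd1⟩ := hel 1
    have huzp : ∀ c, u * F.zp c * u⁻¹ = F.zp (c.1 + c.2, c.2) := by
      intro c
      obtain ⟨c1, c2⟩ := c
      have huz : u * z * u⁻¹ = z := conj_eq_iff_comm.2 (mem_cz.1 hu)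
      rcases two_cases c2 with rfl | rfl <;> rcases two_cases c1 with rfl | rfl
      · simp [zp, zi]
      · simp [zp, zi, ZMod.val_one, huz]
      · simp only [zp, zi, add_zero, zero_add, ZMod.val_zero, ZMod.val_one, pow_zero, pow_one, one_mul]
        exact hup.trans F.pz
      · simp only [zp, zi, CharTwo.add_self_eq_zero, ZMod.val_zero, ZMod.val_one, pow_zero, pow_one, one_mul]
        rw [show u * (z * F.pt) * u⁻¹ = u * z * u⁻¹ * (u * F.pt * u⁻¹) by group, huz, hup, F.pz, ← mul_assoc,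
          F.setup.zz, one_mul]
    have finish : ∀ (p : W4 × W4) (s : G) (e : ZMod 2), MP p → p ≠ 0 → F.Form p.1 p.2 s →
        u * s * u⁻¹ = F.zp (e, 0) * s → ∃ s ∈ T.Sm, s * u = u * s ∧ s ≠ 1 ∧ s ≠ z := by
      intro p s e hp hp0 hf he
      refine ⟨F.zp (0, e) * s, ⟨p, hp, F.form_zp hf _⟩, (conj_eq_iff_comm.1 ?_).symm, fun e1 => ?_, fun e1 => ?_⟩
      · rw [show u * (F.zp (0, e) * s) * u⁻¹ = u * F.zp (0, e) * u⁻¹ * (u * s * u⁻¹) by group, huzp, he,
          ← mul_assoc, F.zp_add]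
        simp [CharTwo.add_self_eq_zero]
      · obtain ⟨q1, q2⟩ := F.form_params (F.form_zp hf _) (e1 ▸ F.form_one)
        exact hp0 (Prod.ext q1 q2)
      · have h := F.form_zp_self (1, 0)
        rw [F.zp_z] at h
        obtain ⟨q1, q2⟩ := F.form_params (F.form_zp hf _) (show F.Form 0 0 (F.zp (0, e) * s) by rw [e1]; exact h)
        exact hp0 (Prod.ext q1 q2)
    obtain ⟨a0', b0⟩ := d0
    obtain ⟨a1', b1⟩ := d1
    rcases two_cases b0 with rfl | rfl
    · exact finish _ _ a0' (fixp_spec 0).1 (fixp_spec 0).2.2.2 (F.el'_form _) hd0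
    rcases two_cases b1 with rfl | rfl
    · exact finish _ _ a1' (fixp_spec 1).1 (fixp_spec 1).2.2.2 (F.el'_form _) hd1
    refine finish (fixp 0 + fixp 1) (F.el' (fixp 0) * F.el' (fixp 1)) (a0' + a1')
      (mp_add _ _ (fixp_spec 0).1 (fixp_spec 1).1) fixp_sum (F.form_mul (F.el'_form _) (F.el'_form _)) ?_
    rw [show u * (F.el' (fixp 0) * F.el' (fixp 1)) * u⁻¹ =
      u * F.el' (fixp 0) * u⁻¹ * (u * F.el' (fixp 1) * u⁻¹) by group, hd0, hd1,
      show F.zp (a0', 1) * F.el' (fixp 0) * (F.zp (a1', 1) * F.el' (fixp 1)) =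
        F.zp (a0', 1) * (F.el' (fixp 0) * F.zp (a1', 1)) * F.el' (fixp 1) by group,
      F.form_comm_zp (F.el'_form _), ← mul_assoc (F.zp (a0', 1)), ← mul_assoc, F.zp_add]
    simp [mul_assoc, CharTwo.add_self_eq_zero]
  let sH : ↥H := ⟨s, T.sm_L hs, mem_cz.2 hsu⟩
  have hsC : sH ∈ C := mem_cz.2 (Subtype.ext (mem_cz.1 (T.Sm_le hs).1.1))
  -- it normalizes the core, hence acts on the centralizer with a kernel of index two
  set A := centralizer ({xL} : Set ↥T.L)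
  set sL : ↥T.L := ⟨s, T.sm_L hs⟩
  have hgen : ∀ a ∈ O, a ∈ zpowers x' := by
    intro a ha
    have hab : a * x' = x' * a := by
      have e : (a * x')⁻¹ = a⁻¹ * x'⁻¹ := by
        rw [← hinv _ (mul_mem ha hxO), ← hinv a ha, ← hinv x' hxO]; group
      rw [mul_inv_rev] at e
      have := congrArg Inv.inv e
      simpa using this
    have haA : (⟨a.1, a.2.1⟩ : ↥T.L) ∈ A := mem_cz.2 (Subtype.ext (congrArg Subtype.val hab :))
    have htop : zpowers (⟨xL, mem_cz.2 rfl⟩ : A) = ⊤ := by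
      refine eq_top_of_card_eq _ ?_
      rw [Nat.card_zpowers, orderOf_mk, orderOf_mk, h5, hA5]
    obtain ⟨i, hi⟩ := (htop ▸ mem_top (⟨_, haA⟩ : A) : (⟨_, haA⟩ : A) ∈ zpowers (⟨xL, mem_cz.2 rfl⟩ : A))
    exact ⟨i, Subtype.ext (congrArg (fun y : A => ((y : ↥T.L) : G)) hi)⟩
  have hsx : (s * x * s⁻¹) ∈ zpowers x := by
    obtain ⟨i, hi⟩ := hgen _ ((inferInstance : O.Normal).conj_mem x' hxO sH)
    exact ⟨i, congrArg Subtype.val hi⟩
  have hNA : sL ∈ normalizer (A : Set ↥T.L) := by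
    obtain ⟨i, hi⟩ := hsx
    have hi' : x ^ i = s * x * s⁻¹ := hi
    refine mem_normalizer_of_conj_map_eq (eq_of_le_of_card_ge ?_ (by
      rw [card_map_of_injective (MulAut.conj sL).injective]))
    rintro _ ⟨b, hb, rfl⟩
    refine mem_cz.2 (Subtype.ext ?_)
    show s * (b : G) * s⁻¹ * x = x * (s * (b : G) * s⁻¹)
    have hb' : Commute (b : G) x := congrArg Subtype.val (mem_cz.1 hb)
    have hx5 : ∀ y ∈ zpowers x, y ≠ 1 → x ∈ zpowers y := by
      intro y hy hy1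
      have hd : orderOf y ∣ 5 := by
        rw [← h5, ← Nat.card_zpowers x, ← orderOf_mk y hy]; exact orderOf_dvd_natCard _
      have ho : orderOf y = 5 :=
        ((Nat.dvd_prime (by norm_num)).1 hd).resolve_left fun e => hy1 (orderOf_eq_one_iff.1 e)
      rw [eq_of_le_of_card_ge (zpowers_le.2 hy) (by rw [Nat.card_zpowers, Nat.card_zpowers, ho, h5])]
      exact mem_zpowers x
    obtain ⟨k, hk⟩ := hx5 _ ⟨i, hi⟩ (fun e => by
      rw [conj_eq_one_iff] at e
      rw [e, orderOf_one] at h5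
      omega)
    have hk' : (s * x * s⁻¹) ^ k = x := hk
    have hc2 : Commute (s * (b : G) * s⁻¹) (s * x * s⁻¹) := by
      show _ = _
      calc s * (b : G) * s⁻¹ * (s * x * s⁻¹) = s * ((b : G) * x) * s⁻¹ := by group
        _ = s * (x * (b : G)) * s⁻¹ := by rw [hb'.eq]
        _ = _ := by group
    have h3 := hc2.zpow_right k
    rw [hk'] at h3
    exact h3.eq
  obtain ⟨A5, hA5t, hA5c, hA5r⟩ := T.L_data.2.1
  obtain ⟨gA, hgA⟩ := T.L_hyp.exists_conj_of_dvd hA5t htor (p := 5) (by norm_num) (by rw [hA5c]) (by rw [hA5])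
  have hrel : A.relIndex (normalizer (A : Set ↥T.L)) = 2 := by
    obtain ⟨M, e, m, -, -, hall⟩ := T.L_hyp.exists_arith T.L_c
    rw [(hall _ htor).2, hA5, ← hA5r, (hall _ hA5t).2, hA5c]
  -- the square would be trivial
  have hsq2 : s * s = 1 := by
    haveI : (A.subgroupOf (normalizer (A : Set ↥T.L))).Normal := normal_in_normalizer
    have hm : sL ^ 2 ∈ A := by
      have h := pow_mem_of_relIndex_eq hNA hrel
      exact h
    obtain ⟨k, hk⟩ := (IsPGroup.of_card (n := 6) (T.card_Sm.trans (by norm_num)) : IsPGroup 2 T.Sm)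
      ⟨s * s, mul_mem hs hs⟩
    have hk' : (s * s) ^ 2 ^ k = 1 := congrArg Subtype.val hk
    refine eq_one_of_odd_of_pow_two (a := s * s) ?_ hk'
    have ho := T.L_hyp.tor_odd htor hm
    rw [pow_two, ← Subgroup.orderOf_coe] at ho
    exact ho
  exact (huniq s hs hsu hsq2).elim hsz1 hsz

end Pt.Tri

end

end CfsgLib.Spor.SuzType
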