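import Cfsg.Agent.Lib.Spor.SuzType.Coord
import Cfsg.Agent.Lib.Spor.SuzType.Basic
import Mathlib.GroupTheory.Sylow

/-!
# Involutions of the orthogonal group of minus type in dimension six over two elements
-/

set_option autoImplicit false
set_option synthInstance.maxSize 4096

namespace CfsgLib.Spor.SuzType

open Matrix Subgroup
open CfsgLib.Spor.CoOneType (W4 q4 Iso4 act4 act4_one act4_mul q4_act4 pol4_act4 iso4_ext two_cases)
open scoped commutatorElement

noncomputable section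

/-- Multiplication of the four commuting words. -/
def kt : Fin 4 → Fin 4 → Fin 4 := ![![0, 1, 2, 3], ![1, 0, 3, 2], ![2, 3, 0, 1], ![3, 2, 1, 0]]

theorem kw_mul : ∀ i j (u : W4), wf (kw i) (wf (kw j) u) = wf (kw (kt i j)) u := by decide +kernel

theorem kw_inj : ∀ i j, (∀ u : W4, wf (kw i) u = wf (kw j) u) → i = j := by decide +kernel

theorem five_free : ∀ c : W4, ∃ d : W4, σf 1 d + d = c := by decide +kernel

theorem E_S (h : Iso4) (c : W4) :
    E h * S (Multiplicative.ofAdd c) = S (Multiplicative.ofAdd (act4 h c)) * E h := by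
  refine iso_ext fun x => ?_
  rw [act_mul, act_mul, act_S, act_S, act_E, act_E, sieg, sieg, xc_vmk, yc_vmk, pr_vmk, xc_vmk, yc_vmk, pr_vmk]
  refine vmk_congr ?_ rfl ?_
  · rw [q4_act4, show pl4 (act4 h (pr x)) (act4 h c) = pl4 (pr x) c from pol4_act4 h _ _]
  · rw [CoOneType.act4_add, CoOneType.act4_smul]

theorem S_self (c : W4) : (S (Multiplicative.ofAdd c))⁻¹ = S (Multiplicative.ofAdd c) :=
  inv_eq_of_mul_eq_one_right (by rw [← map_mul, ← ofAdd_add, CoOneType.w4_add_self, ofAdd_zero, map_one])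

theorem S_mem (c : W4) : S (Multiplicative.ofAdd c) ∈ Om := by
  obtain ⟨d, rfl⟩ := five_free c
  rw [ofAdd_add, map_mul, ← act4_σ]
  have h : S (Multiplicative.ofAdd (act4 (σ 1) d)) * S (Multiplicative.ofAdd d) =
      ⁅E (σ 1), S (Multiplicative.ofAdd d)⁆ := by
    rw [commutatorElement_def, E_S, mul_inv_cancel_right, S_self]
  rw [h]
  show _ ∈ commutator Iso6
  rw [_root_.commutator_def]
  exact commutator_mem_commutator (mem_top _) (mem_top _)

/-- An element of the two-group. -/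
def el (c : W4) (j : Fin 4) : Iso6 := S (Multiplicative.ofAdd c) * E (σw (kw j))

/-- Its action. -/
def elf (c : W4) (j : Fin 4) (x : Vec) : Vec := sieg c (vmk (xc x) (yc x) (wf (kw j) (pr x)))

theorem act_el (c : W4) (j : Fin 4) (x : Vec) : act (el c j) x = elf c j x := by
  rw [el, act_mul, act_S, act_E, act4_σw]; rfl

theorem el_mul (c d : W4) (i j : Fin 4) : el c i * el d j = el (c + wf (kw i) d) (kt i j) := by
  have h : σw (kw i) * σw (kw j) = σw (kw (kt i j)) :=
    iso4_ext fun u => by rw [act4_mul, act4_σw, act4_σw, act4_σw, kw_mul]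
  simp only [el]
  rw [mul_assoc, ← mul_assoc (E _), E_S, mul_assoc, ← map_mul E, h, ← mul_assoc, ← map_mul S, act4_σw]
  rfl

/-- A two-subgroup of the full odd index. -/
def syl : Subgroup Om :=
  Subgroup.closure {g : Om | ∃ c j, (g : Iso6) = el c j}

theorem el_mem (c : W4) (j : Fin 4) : el c j ∈ Om := mul_mem (S_mem c) (E_mem _)

theorem el_inj : Function.Injective fun p : W4 × Fin 4 => el p.1 p.2 := by
  rintro ⟨c, i⟩ ⟨d, j⟩ e
  replace e : el c i = el d j := e
  have hf := congrArg (fun g : Iso6 => pr (act g f0)) e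
  have hp : ∀ c i, pr (elf c i f0) = c := by decide +kernel
  simp only [act_el, hp] at hf
  subst hf
  refine Prod.ext rfl (kw_inj _ _ fun u => ?_)
  have h := congrArg (fun g : Iso6 => pr (act g (vmk 0 0 u))) e
  simp only [act_el, elf, xc_vmk, yc_vmk, pr_vmk] at h
  rwa [sieg_perp _ (yc_vmk _ _ _), sieg_perp _ (yc_vmk _ _ _), pr_vmk, pr_vmk] at h

theorem mem_syl {g : Om} : g ∈ syl ↔ ∃ c j, (g : Iso6) = el c j := by
  refine ⟨fun h => ?_, fun h => Subgroup.subset_closure h⟩
  induction h using Subgroup.closure_induction with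
  | mem x hx => exact hx
  | one =>
    refine ⟨0, 0, (iso_ext fun x => ?_)⟩
    rw [OneMemClass.coe_one, act_one, act_el, elf, sieg_zero, show kw 0 = [] from rfl]
    exact (vmk_eta x).symm
  | mul x y _ _ ix iy =>
    obtain ⟨c, i, e⟩ := ix
    obtain ⟨d, j, e'⟩ := iy
    exact ⟨_, _, by rw [Subgroup.coe_mul, e, e', el_mul]⟩
  | inv x _ ix =>
    obtain ⟨c, i, e⟩ := ix
    refine ⟨wf (kw i) c, i, ?_⟩
    rw [Subgroup.coe_inv, e]
    refine inv_eq_of_mul_eq_one_right ?_
    rw [el_mul]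
    refine iso_ext fun x => ?_
    have hii : kt i i = 0 := (by decide : ∀ i, kt i i = 0) i
    rw [act_one, act_el, kw_mul, hii, show kw 0 = [] from rfl, show wf [] c = c from rfl, CoOneType.w4_add_self, elf,
      sieg_zero]
    exact vmk_eta x

theorem card_syl : Nat.card syl = 64 := by
  refine (Nat.card_congr (Equiv.ofBijective (fun p : W4 × Fin 4 => (⟨⟨el p.1 p.2, el_mem _ _⟩,
    mem_syl.2 ⟨_, _, rfl⟩⟩ : syl)) ⟨fun p q e => el_inj (congrArg (fun g : syl => ((g : Om) : Iso6)) e),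
      fun g => ?_⟩)).symm.trans ?_
  · obtain ⟨c, j, e⟩ := mem_syl.1 g.2
    exact ⟨(c, j), Subtype.ext (Subtype.ext e.symm)⟩
  · rw [Nat.card_prod, Nat.card_fun, Nat.card_zmod, Nat.card_fin, Nat.card_eq_fintype_card]; rfl

/-- The polar form, computed on coordinates. -/
def plf (x y : Vec) : ZMod 2 := xc x * yc y + yc x * xc y + pl4 (pr x) (pr y)

theorem plf_eq (x y : Vec) : plf x y = pl x y := by
  conv_rhs => rw [← vmk_eta x, ← vmk_eta y, pl_vmk]
  rfl

theorem el_invol : ∀ (c : W4) (j : Fin 4), (∀ x, elf c j (elf c j x) = x) → (∃ x, elf c j x ≠ x) →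
    ∃ w : Vec, qf w = 0 ∧ w ≠ 0 ∧ elf c j w = w ∧
      ∀ x, plf x w = 0 → elf c j x = x ∨ elf c j x = x + w := by decide +kernel

/-- Every involution of the simple group is conjugate to a transformation at the reference point. -/
theorem to_sieg {k : Iso6} (hk : k ∈ Om) (h2 : k * k = 1) (h1 : k ≠ 1) :
    ∃ h ∈ Om, ∃ c : W4, c ≠ 0 ∧ ∀ x, act (h * k * h⁻¹) x = sieg c x := by
  haveI : Fact (Nat.Prime 2) := ⟨Nat.prime_two⟩
  have hsyl : IsPGroup 2 syl := IsPGroup.of_card (n := 6) (by rw [card_syl]; rfl)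
  obtain ⟨T, hT⟩ := hsyl.exists_le_sylow
  have hTe : (T : Subgroup Om) = syl := by
    refine (Subgroup.eq_of_le_of_card_ge hT ?_).symm
    obtain ⟨m, hm⟩ := T.isPGroup'.exists_card_eq
    have hd : 2 ^ m ∣ 25920 := hm ▸ card_om ▸ Subgroup.card_subgroup_dvd_card _
    have h7 : m ≤ 6 := by
      by_contra hm7
      exact absurd ((pow_dvd_pow 2 (show 7 ≤ m by omega)).trans hd) (by norm_num)
    rw [card_syl, hm]
    exact Nat.pow_le_pow_right (by norm_num) h7
  have hz : IsPGroup 2 (zpowers (⟨k, hk⟩ : Om)) := by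
    refine IsPGroup.of_card (n := 1) ?_
    rw [Nat.card_zpowers, pow_one]
    exact orderOf_eq_prime (Subtype.ext (by rw [SubgroupClass.coe_pow, pow_two]; exact h2))
      fun e => h1 (congrArg Subtype.val e)
  obtain ⟨P, hP⟩ := hz.exists_le_sylow
  obtain ⟨g, hg⟩ := MulAction.exists_smul_eq Om P T
  have hmem : g * ⟨k, hk⟩ * g⁻¹ ∈ syl := by
    rw [← hTe, ← hg, Sylow.coe_subgroup_smul]
    exact ⟨_, hP (mem_zpowers _), rfl⟩
  obtain ⟨c, j, e⟩ := mem_syl.1 hmem
  replace e : (g : Iso6) * k * (g : Iso6)⁻¹ = el c j := e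
  set k' := (g : Iso6) * k * (g : Iso6)⁻¹ with hk'
  have hk'2 : k' * k' = 1 := by
    rw [hk', show (g : Iso6) * k * (g : Iso6)⁻¹ * ((g : Iso6) * k * (g : Iso6)⁻¹) = g * (k * k) * (g : Iso6)⁻¹ by group, h2]
    group
  obtain ⟨w, hqw, hw0, hfix, hperp⟩ := el_invol c j
    (fun x => by rw [← act_el, ← act_el, ← act_mul, ← e, hk'2, act_one]) (by
      by_contra hcon
      push Not at hcon
      refine h1 ?_
      have : k' = 1 := iso_ext fun x => by rw [e, act_el, hcon, act_one]
      rw [hk'] at this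
      simpa using this)
  obtain ⟨h, hh, hhw⟩ := move_singular hw0 w0_ne hqw qf_w0
  set K := h * (g : Iso6) * k * (h * (g : Iso6))⁻¹ with hK
  have hKk : K = h * k' * h⁻¹ := by rw [hK, hk']; group
  have hinvw : act h⁻¹ w0 = w := by rw [← hhw, ← act_mul, inv_mul_cancel, act_one]
  have hcancel : ∀ x, act h (act h⁻¹ x) = x := fun x => by rw [← act_mul, mul_inv_cancel, act_one]
  have hKw : act K w0 = w0 := by rw [hKk, act_mul, act_mul, hinvw, e, act_el, hfix, hhw]
  have hKp : ∀ x, yc x = 0 → pr (act K x) = pr x := fun x hx => by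
    have hp : plf (act h⁻¹ x) w = 0 := by
      rw [plf_eq, ← hinvw]
      exact (pol_act h⁻¹ x w0).trans ((pl_w0 x).trans hx)
    rw [hKk, act_mul, act_mul, e, act_el]
    rcases hperp _ hp with e' | e' <;> rw [e']
    · rw [hcancel]
    · rw [act_add, hcancel, hhw]
      conv_lhs => rw [← vmk_eta x, w0, vmk_add, pr_vmk, add_zero]
  have hS := eq_sieg hKw hKp
  refine ⟨h * g, mul_mem hh g.2, _, fun h0 => ?_, hS⟩
  refine h1 ?_
  have hK1 : K = 1 := iso_ext fun x => by rw [hS, h0, sieg_zero, act_one]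
  have : k = (h * (g : Iso6))⁻¹ * K * (h * (g : Iso6)) := by rw [hK]; group
  rw [this, hK1]; group

/-- The matrix of the reflection in the reference vector. -/
def rmat : Matrix CoOneType.Ix4 CoOneType.Ix4 (ZMod 2) :=
  Matrix.of fun i j => ((Pi.single j 1 : W4) + pl4 (Pi.single j 1) c₀ • c₀) i

theorem rmat_sq : rmat * rmat = 1 := by decide +kernel

theorem rmat_apply : ∀ u : W4, rmat *ᵥ u = u + pl4 u c₀ • c₀ := by decide +kernel

theorem rmat_q : ∀ u : W4, q4 (rmat *ᵥ u) = q4 u := by decide +kernel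

/-- The reflection in the four-space. -/
def r₄ : Iso4 := ⟨⟨rmat, rmat, rmat_sq, rmat_sq⟩, CfsgLib.Perm.Trans.Quad.mem_iso.2 fun x => rmat_q x⟩

theorem act4_r₄ (u : W4) : act4 r₄ u = u + pl4 u c₀ • c₀ := rmat_apply u

/-- A reflection. -/
def IsReflAct (d : Vec) (g : Iso6) : Prop := ∀ x, act g x = x + pl x d • d

theorem isReflAct_of_conj {d : Vec} {r g : Iso6} (hr : IsReflAct d r) : IsReflAct (act g d) (g * r * g⁻¹) := by
  intro x
  rw [act_mul, act_mul, hr, act_add, act_smul, ← act_mul, mul_inv_cancel, act_one]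
  congr 2
  show QuadraticMap.polar qf (act g⁻¹ x) d = QuadraticMap.polar qf x (act g d)
  rw [← pol_act g, ← act_mul, mul_inv_cancel, act_one]

theorem E_r₄_refl : IsReflAct (vmk 0 0 c₀) (E r₄) := by
  intro x
  rw [act_E, act4_r₄]
  revert x
  decide +kernel

open Cfsg.Geo CfsgLib.Perm.Trans.Quad in
theorem r₄_notMem : E r₄ ∉ Om := by
  intro hmem
  have hall : ∀ {e : Vec}, qf e = 1 → ∀ {s : Iso6}, IsReflAct e s → s ∈ Om := by
    intro e he s hs
    obtain ⟨g, -, hge⟩ := move_value (u := vmk 0 0 c₀) (by decide +kernel) he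
    have : s = g * E r₄ * g⁻¹ := iso_ext fun x => by rw [hs x, isReflAct_of_conj E_r₄_refl x, hge]
    rw [this]
    exact (inferInstance : Om.Normal).conj_mem _ hmem g
  have htop : Om = ⊤ := by
    refine eq_top_iff.2 fun g _ => ?_
    have h1 : (g : GL Ix (ZMod 2)) ∈ eRefl qf := iso_le_eRefl qf_nd g.2
    have h2 : eRefl qf ≤ omegaGL qf := by
      refine sup_le (eGroup_le_omega qf_nd five_le) ((Subgroup.closure_le _).2 ?_)
      rintro x ⟨hx, v, hv, hxv⟩
      have hv1 : qf v = 1 := (two_cases _).resolve_left hv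
      refine ⟨⟨x, hx⟩, hall hv1 (fun y => ?_), rfl⟩
      show (x : Matrix Ix Ix (ZMod 2)) *ᵥ y = _
      rw [hxv y, hv1, inv_one, one_mul, sub_eq_add_neg, ← neg_smul, CharTwo.neg_eq]
    obtain ⟨h, hh, e⟩ := h2 h1
    exact (Subtype.ext e : h = g) ▸ hh
  have h := om_index
  rw [htop, Subgroup.index_top] at h
  omega

end

end CfsgLib.Spor.SuzType
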