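import Cfsg.Agent.Lib.Spor.SuzType.Point
import Cfsg.Agent.Lib.Spor.SuzType.Involution

/-!
# Two classes of involutions in groups of Suzuki type
-/

set_option autoImplicit false
set_option synthInstance.maxSize 1024

namespace CfsgLib.Spor.SuzType

open Subgroup CfsgLib.Spor.CoOneType

noncomputable section

variable {G : Type*} [Group G] [Finite G] {z : G} {Q : Subgroup G} {v : G → Vec} {ρ : G → Iso6}

/-- A suitable second involution exists. -/
theorem exists_pt (S : Setup z Q v ρ) {g : G} (hgQ : g * z * g⁻¹ ∈ Q) (hne : g * z * g⁻¹ ≠ z) :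
    ∃ k, Pt z Q v ρ k := by
  obtain ⟨a, ha, e⟩ := S.v_surj w0
  obtain ⟨k, hk⟩ := S.all_conj hgQ hne ha ((S.v_sq a ha).1 (by rw [e, qf_w0])) (by rw [e]; exact w0_ne)
  exact ⟨k, S, hk.symm ▸ ha, hk.symm ▸ e⟩

/-- Every involution is conjugate into the centralizer of the involution. -/
theorem conj_into (S : Setup z Q v ρ) {x : G} (hx : x * x = 1) (hx1 : x ≠ 1) :
    ∃ g : G, g * x * g⁻¹ ∈ centralizer ({z} : Set G) := by
  haveI : Fact (Nat.Prime 2) := ⟨Nat.prime_two⟩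
  have hQ2 : IsPGroup 2 Q := IsPGroup.of_card (n := 7) (by rw [S.card]; rfl)
  obtain ⟨P, hP⟩ := hQ2.exists_le_sylow
  have hx2 : IsPGroup 2 (zpowers x) := IsPGroup.of_card (n := 1) (by
    rw [Nat.card_zpowers, pow_one, orderOf_eq_prime (by rw [pow_two, hx]) hx1])
  obtain ⟨P', hP'⟩ := hx2.exists_le_sylow
  obtain ⟨g, hg⟩ := MulAction.exists_smul_eq G P' P
  refine ⟨g, ?_⟩
  have hgx : g * x * g⁻¹ ∈ (P : Subgroup G) := by
    rw [← hg, Sylow.coe_subgroup_smul]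
    exact ⟨x, hP' (mem_zpowers x), rfl⟩
  haveI : Nontrivial ↥(P : Subgroup G) :=
    ⟨⟨⟨z, hP S.core.mem⟩, 1, fun e => S.z_ne (congrArg Subtype.val e)⟩⟩
  haveI := (P.isPGroup').center_nontrivial
  obtain ⟨⟨c, hc⟩, hc1⟩ := exists_ne (1 : center ↥(P : Subgroup G))
  have hcent : (c : G) ∈ centralizer (Q : Set G) := mem_centralizer_iff.2 fun q hq =>
    congrArg Subtype.val (mem_center_iff.1 hc ⟨q, hP hq⟩)
  rw [S.core.cent, S.core.center_iff] at hcent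
  rcases hcent with e | e
  · exact absurd (Subtype.ext (Subtype.ext e)) hc1
  · rw [mem_cz, ← e]
    exact congrArg Subtype.val (mem_center_iff.1 hc ⟨_, hgx⟩)

namespace Pt

variable {g : G} (F : Pt z Q v ρ g)

/-- An element with given parameters. -/
def Form (F : Pt z Q v ρ g) (a c : W4) (x : G) : Prop :=
  ∃ q ∈ F.R, ∃ r ∈ F.R', pr (v q) = a ∧ F.phi r = c ∧ x = q * r

/-- Conjugacy inside the centralizer of the involution. -/
def CConj (_F : Pt z Q v ρ g) (x y : G) : Prop :=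
  ∃ h ∈ centralizer ({z} : Set G), h * x * h⁻¹ = y

/-- Belonging to the extraspecial group of a non-central conjugate of the involution inside `Q`. -/
def InQ (_F : Pt z Q v ρ g) (x : G) : Prop :=
  ∃ k : G, k * z * k⁻¹ ∈ Q ∧ k * z * k⁻¹ ≠ z ∧ x ∈ Q.map (MulAut.conj k).toMonoidHom

include F

theorem cconj_trans {x y w : G} (h₁ : F.CConj x y) (h₂ : F.CConj y w) : F.CConj x w := by
  obtain ⟨a, ha, rfl⟩ := h₁
  obtain ⟨b, hb, rfl⟩ := h₂
  exact ⟨b * a, mul_mem hb ha, by group⟩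

theorem cconj_symm {x y : G} (h : F.CConj x y) : F.CConj y x := by
  obtain ⟨a, ha, rfl⟩ := h
  exact ⟨a⁻¹, inv_mem ha, by group⟩

theorem inQ_conj {x y : G} (h : F.CConj x y) (hy : F.InQ y) : F.InQ x := by
  obtain ⟨a, ha, rfl⟩ := h
  obtain ⟨k, hk, hk', hmem⟩ := hy
  have e : a⁻¹ * k * z * (a⁻¹ * k)⁻¹ = a⁻¹ * (k * z * k⁻¹) * a := by group
  refine ⟨a⁻¹ * k, ?_, fun h => hk' ?_, ?_⟩
  · rw [e]; simpa using F.setup.norm (inv_mem ha) hk
  · rw [e] at h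
    have hz : a * z * a⁻¹ = z := conj_eq_iff_comm.2 (mem_cz.1 ha)
    calc k * z * k⁻¹ = a * (a⁻¹ * (k * z * k⁻¹) * a) * a⁻¹ := by group
      _ = z := by rw [h, hz]
  · obtain ⟨q, hq, hqe⟩ := hmem
    replace hqe : k * q * k⁻¹ = a * x * a⁻¹ := hqe
    refine ⟨q, hq, ?_⟩
    show a⁻¹ * k * q * (a⁻¹ * k)⁻¹ = x
    calc a⁻¹ * k * q * (a⁻¹ * k)⁻¹ = a⁻¹ * (k * q * k⁻¹) * a := by group
      _ = x := by rw [hqe]; group

theorem conj_R {s q : G} (hs : s ∈ F.R) (hq : q ∈ F.R) :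
    s * q * s⁻¹ = F.zi (pl4 (pr (v s)) (pr (v q))) 0 * q := by
  have hiff := F.setup.v_comm s hs.1 q hq.1
  have hp : QuadraticMap.polar qf (v s) (v q) = pl4 (pr (v s)) (pr (v q)) := by
    rw [F.v_of_R hs, F.v_of_R hq]
    show pl (vmk _ 0 _) (vmk _ 0 _) = _
    rw [pl_vmk, pr_vmk, pr_vmk]; ring
  rcases two_cases (pl4 (pr (v s)) (pr (v q))) with e | e <;> rw [e] at hp ⊢
  · rw [F.zi_zero, one_mul]; exact conj_eq_iff_comm.2 (hiff.1 hp)
  · rcases F.setup.conj_or hq.1 hs.1 with e' | e'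
    · rw [hiff.2 (conj_eq_iff_comm.1 e')] at hp
      exact absurd hp zero_ne_one
    · rw [e', F.setup.cz hq.1]; simp [zi, ZMod.val_one]

theorem conj_R' {s r : G} (hs : s ∈ F.R) (hr : r ∈ F.R') :
    s * r * s⁻¹ = F.zi (pl4 (pr (v s)) (F.phi r)) (pl4 (pr (v s)) (F.phi r)) * r := by
  have h := F.swap_rule hs hr
  set p := pl4 (pr (v s)) (F.phi r)
  have h2 : s * r = F.zi p p * (r * s) := by
    rw [h, ← mul_assoc, F.zi_add, CharTwo.add_self_eq_zero, F.zi_zero, one_mul]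
  rw [h2]; group

theorem form_sq {a c : W4} {x : G} (hx : F.Form a c x) :
    x * x = F.zi (q4 a + pl4 a c) (q4 c + pl4 a c) := by
  obtain ⟨q, hq, r, hr, rfl, rfl, rfl⟩ := hx
  have h := F.swap_rule hq hr
  set p := pl4 (pr (v q)) (F.phi r)
  calc q * r * (q * r) = q * (r * q) * r := by group
    _ = (q * F.zi p p) * q * r * r := by rw [h]; group
    _ = F.zi p p * (q * q) * (r * r) := by rw [F.central_R hq]; group
    _ = _ := by rw [F.sq_R hq, F.square_rule hr, F.zi_add, F.zi_add]; congr 1 <;> ring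

theorem form_cz {a c : W4} {x : G} (hx : F.Form a c x) : x ∈ centralizer ({z} : Set G) := by
  obtain ⟨q, hq, r, hr, -, -, rfl⟩ := hx
  exact mul_mem (F.setup.le hq.1) hr.2

theorem form_ci {a c : W4} {x : G} (hx : F.Form a c x) : x ∈ centralizer ({F.pt} : Set G) := by
  obtain ⟨q, hq, r, hr, -, -, rfl⟩ := hx
  exact mul_mem hq.2 (F.R'_ci hr)

theorem form_rho {a c : W4} {x : G} (hx : F.Form a c x) : ∀ w, act (ρ x) w = sieg c w := by
  obtain ⟨q, hq, r, hr, -, rfl, rfl⟩ := hx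
  intro w
  rw [F.setup.ρ_mul q (F.setup.le hq.1) r hr.2, F.setup.ρ_of_mem hq.1, one_mul, F.rho_R' hr]

theorem form_notMem {a c : W4} {x : G} (hx : F.Form a c x) (hc : c ≠ 0) : x ∉ Q := by
  intro hQ
  have h := F.form_rho hx f0
  rw [F.setup.ρ_of_mem hQ, act_one] at h
  have h2 := congrArg pr h
  rw [sieg_f0] at h2
  exact hc (h2.symm.trans (by decide +kernel))

theorem sieg_diff : ∀ c : W4, sieg c f0 + f0 = vmk (q4 c) 0 c := by decide +kernel

/-- Adding the second parameter to the first one. -/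
theorem form_shift {a c : W4} {x : G} (hx : F.Form a c x) : ∃ y, F.CConj x y ∧ F.Form (a + c) c y := by
  obtain ⟨q, hq, r, hr, rfl, rfl, rfl⟩ := hx
  obtain ⟨s, hs, hvs⟩ := F.setup.v_surj f0
  set q' := r⁻¹ * s * r * s⁻¹ with hq'
  have hq'Q : q' ∈ Q := by
    rw [hq']
    exact mul_mem (by simpa using F.setup.norm (inv_mem (F.R'_cz hr)) hs) (inv_mem hs)
  have hinvphi : F.phi r⁻¹ = F.phi r := by
    have h0 : F.phi (1 : G) = 0 := by
      rw [← F.zi_zero]; exact F.phi_zi 0 0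
    have h := F.phi_mul (inv_mem hr) hr
    rw [inv_mul_cancel, h0] at h
    calc F.phi r⁻¹ = F.phi r⁻¹ + (F.phi r + F.phi r) := by rw [w4_add_self, add_zero]
      _ = (F.phi r⁻¹ + F.phi r) + F.phi r := (add_assoc _ _ _).symm
      _ = F.phi r := by rw [← h, zero_add]
  have hv : v q' = vmk (q4 (F.phi r)) 0 (F.phi r) := by
    rw [hq', F.setup.v_mul _ (by simpa using F.setup.norm (inv_mem (F.R'_cz hr)) hs) _ (inv_mem hs),
      F.setup.v_inv hs, show r⁻¹ * s * r = r⁻¹ * s * r⁻¹⁻¹ by rw [inv_inv],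
      F.setup.ρ_act _ (inv_mem (F.R'_cz hr)) s hs, F.rho_R' (inv_mem hr), hinvphi, hvs, F.sieg_diff]
  have hq'R : q' ∈ F.R := F.mem_R.2 ⟨hq'Q, by rw [hv]; rfl⟩
  have hp' : pr (v q') = F.phi r := by rw [hv, pr_vmk]
  have e1 : s * r * s⁻¹ = r * q' := by rw [hq']; group
  have e2 : r * q' = q' * r := by
    rw [F.swap_rule hq'R hr, hp', pl4_self, F.zi_zero, one_mul]
  obtain ⟨e, he⟩ : ∃ e : ZMod 2, s * q * s⁻¹ = q * F.zi e 0 := by
    rcases F.setup.conj_or hq.1 hs with h | h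
    · exact ⟨0, by rw [h, F.zi_zero, mul_one]⟩
    · exact ⟨1, by rw [h]; simp [zi, ZMod.val_one]⟩
  refine ⟨q * F.zi e 0 * q' * r, ⟨s, F.setup.le hs, ?_⟩, q * F.zi e 0 * q', mul_mem (mul_mem hq (F.zi_R e 0)) hq'R,
    r, hr, ?_, rfl, rfl⟩
  · calc s * (q * r) * s⁻¹ = (s * q * s⁻¹) * (s * r * s⁻¹) := by group
      _ = q * F.zi e 0 * (q' * r) := by rw [he, e1, e2]
      _ = _ := by group
  · rw [F.pr_mul (mul_mem hq (F.zi_R e 0)) hq'R, F.pr_mul hq (F.zi_R e 0), hp']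
    have h0 : pr (v (F.zi e 0)) = 0 := by
      rcases two_cases e with rfl | rfl
      · rw [F.zi_zero, F.setup.v_one]; decide +kernel
      · simp [zi, ZMod.val_one, F.setup.v_z]; decide +kernel
    rw [h0, add_zero]

/-- Elements with the same admissible parameters are conjugate. -/
theorem form_same {a c : W4} {x y : G} (hx : F.Form a c x) (hy : F.Form a c y) (ha : q4 a = 1) (hc : q4 c = 1)
    (hac : pl4 a c = 1) : F.CConj x y := by
  obtain ⟨q, hq, r, hr, rfl, rfl, rfl⟩ := hx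
  obtain ⟨q', hq', r', hr', hqa, hrc, rfl⟩ := hy
  obtain ⟨s, t, e1⟩ : ∃ s t, q⁻¹ * q' = F.zi s t := F.zi_of_zero (mul_mem (inv_mem hq) hq') (by
    rw [F.pr_mul (inv_mem hq) hq', F.setup.v_inv hq.1, hqa, w4_add_self])
  obtain ⟨s', t', e2⟩ : ∃ s t, r⁻¹ * r' = F.zi s t := F.phi_zero (mul_mem (inv_mem hr) hr') (by
    have h1 := F.phi_mul hr (mul_mem (inv_mem hr) hr')
    rw [mul_inv_cancel_left, hrc] at h1
    exact add_eq_left.1 h1.symm)
  obtain ⟨m, hm1, hm2⟩ := solve_shift _ _ ha hc hac (s + s') (t + t')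
  obtain ⟨w, hw, hwm⟩ := F.R_surj m
  refine ⟨w, F.setup.le hw.1, ?_⟩
  have e3 : q' * r' = F.zi (s + s') (t + t') * (q * r) := by
    rw [eq_mul_of_inv_mul_eq e1, eq_mul_of_inv_mul_eq e2]
    calc q * F.zi s t * (r * F.zi s' t') = F.zi s t * q * (r * F.zi s' t') := by rw [F.central_R hq]
      _ = F.zi s t * ((q * r) * F.zi s' t') := by group
      _ = F.zi s t * (F.zi s' t' * (q * r)) := by
        rw [F.zi_comm (mul_mem (F.setup.le hq.1) hr.2) (mul_mem hq.2 (F.R'_ci hr))]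
      _ = _ := by rw [← mul_assoc, F.zi_add]
  rw [e3]
  calc w * (q * r) * w⁻¹ = (w * q * w⁻¹) * (w * r * w⁻¹) := by group
    _ = F.zi (pl4 m (pr (v q))) 0 * (q * F.zi (pl4 m (F.phi r)) (pl4 m (F.phi r))) * r := by
      rw [F.conj_R hw hq, F.conj_R' hw hr, hwm]; group
    _ = F.zi (pl4 m (pr (v q))) 0 * F.zi (pl4 m (F.phi r)) (pl4 m (F.phi r)) * (q * r) := by
      rw [F.central_R hq]; group
    _ = _ := by rw [F.zi_add, zero_add, hm1, hm2]

theorem exists_form (a c : W4) : ∃ x, F.Form a c x := by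
  obtain ⟨q, hq, hqa⟩ := F.R_surj a
  obtain ⟨r, hr, hrc⟩ := F.phi_surj c
  exact ⟨q * r, q, hq, r, hr, hqa, hrc, rfl⟩

theorem form_conj (w : List (Fin 2)) {a c : W4} {x : G} (hx : F.Form a c x) :
    ∃ y, F.CConj x y ∧ F.Form (wf w a) (wf w c) y := by
  obtain ⟨k, hk, hki, hρ⟩ := F.word_lift w
  obtain ⟨q, hq, r, hr, rfl, rfl, rfl⟩ := hx
  refine ⟨_, ⟨k, hk, rfl⟩, k * q * k⁻¹, F.norm_R hk hki hq, k * r * k⁻¹, F.norm_R' hk hki hr, ?_, ?_, by group⟩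
  · rw [F.pr_conj hk hρ hq, act4_σw]
  · rw [F.phi_conj hk hρ hr, act4_σw]

/-- All admissible elements are conjugate to the reference ones. -/
theorem form_ref {a c : W4} {x y : G} (hx : F.Form a c x) (ha : q4 a = 1) (hc : q4 c = 1) (hac : pl4 a c = 1)
    (hy : F.Form a₀ c₀ y) : F.CConj x y := by
  obtain ⟨w, -, hwc, hwa⟩ := pair_reach a c ha hc hac
  obtain ⟨y', hyy, hy'⟩ := F.form_conj w hy
  rw [hwc] at hy'
  refine F.cconj_symm (F.cconj_trans hyy ?_)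
  rcases hwa with e | e <;> rw [e] at hy'
  · exact F.form_same hy' hx ha hc hac
  · obtain ⟨y'', h1, h2⟩ := F.form_shift hy'
    rw [add_assoc, w4_add_self, add_zero] at h2
    exact F.cconj_trans h1 (F.form_same h2 hx ha hc hac)

/-- Involutions of the centralizer outside the extraspecial group. -/
theorem classify {x : G} (hx : x ∈ centralizer ({z} : Set G)) (hx2 : x * x = 1) (hxQ : x ∉ Q) :
    (∀ y, F.Form a₀ c₀ y → F.CConj x y) ∨ F.InQ x := by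
  have hρ1 : ρ x ≠ 1 := fun e => hxQ ((F.setup.ρ_ker x hx).1 e)
  have hρ2 : ρ x * ρ x = 1 := by rw [← F.setup.ρ_mul x hx x hx, hx2, F.setup.ρ_one]
  obtain ⟨h, hh, c, hc0, hact⟩ := to_sieg (F.setup.ρ_mem x hx) hρ2 hρ1
  obtain ⟨k, hk, rfl⟩ := F.setup.ρ_surj h hh
  obtain ⟨x₁, hx₁⟩ : ∃ y, y = k * x * k⁻¹ := ⟨_, rfl⟩
  have hx₁z : x₁ ∈ centralizer ({z} : Set G) := hx₁ ▸ mul_mem (mul_mem hk hx) (inv_mem hk)
  have hx₁2 : x₁ * x₁ = 1 := by
    rw [hx₁, show k * x * k⁻¹ * (k * x * k⁻¹) = k * (x * x) * k⁻¹ by group, hx2]; group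
  have hcx : F.CConj x x₁ := ⟨k, hk, hx₁.symm⟩
  have hρ₁ : ∀ w, act (ρ x₁) w = sieg c w := fun w => by
    rw [hx₁, F.setup.ρ_mul _ (mul_mem hk hx) _ (inv_mem hk), F.setup.ρ_mul k hk x hx, F.setup.ρ_inv hk, hact]
  have hxi : x₁ * F.pt = F.pt * x₁ := by
    obtain ⟨u, hu⟩ := CoOneType.pol4_exists hc0
    obtain ⟨q, hq, hqu⟩ := F.R_surj u
    have hv : v (x₁ * q * x₁⁻¹) = v (q * F.pt) := by
      rw [F.setup.ρ_act x₁ hx₁z q hq.1, hρ₁, F.setup.v_mul q hq.1 _ F.mem, F.val, F.v_of_R hq, sieg_vmk, hqu, w0,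
        vmk_add, show pl4 u c = 1 from (pl4_comm u c).trans hu]
      simp
    obtain ⟨j, hj, hej⟩ : ∃ j, (j = F.pt ∨ j = F.pt * z) ∧ x₁ * q * x₁⁻¹ = q * j := by
      rcases (F.setup.v_eq (F.setup.norm hx₁z hq.1) (mul_mem hq.1 F.mem)).1 hv with e | e
      · exact ⟨_, Or.inl rfl, e⟩
      · exact ⟨_, Or.inr rfl, e.trans (mul_assoc _ _ _)⟩
    have hinv : x₁⁻¹ = x₁ := inv_eq_of_mul_eq_one_right hx₁2
    have hjj : j * j = 1 := by
      rcases hj with rfl | rfl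
      · exact F.pp
      · rw [mul_assoc, ← mul_assoc z, ← F.pz, mul_assoc F.pt z z, F.setup.zz, mul_one, F.pp]
    have e4 : q = q * j * (x₁ * j * x₁⁻¹) := by
      calc q = x₁ * x₁ * q * (x₁⁻¹ * x₁⁻¹) := by rw [hinv, hx₁2]; simp
        _ = x₁ * (x₁ * q * x₁⁻¹) * x₁⁻¹ := by group
        _ = x₁ * (q * j) * x₁⁻¹ := by rw [hej]
        _ = (x₁ * q * x₁⁻¹) * (x₁ * j * x₁⁻¹) := by group
        _ = _ := by rw [hej]
    have e5 : x₁ * j * x₁⁻¹ = j := by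
      have h1 : j * (x₁ * j * x₁⁻¹) = 1 := by
        rw [mul_assoc] at e4; exact left_eq_mul.1 e4
      exact (inv_eq_of_mul_eq_one_right h1).symm.trans (inv_eq_of_mul_eq_one_right hjj)
    have e6 : Commute x₁ j := conj_eq_iff_comm.1 e5
    rcases hj with rfl | rfl
    · exact e6.eq
    · have e7 := e6.mul_right (show Commute x₁ z from mem_cz.1 hx₁z)
      rw [mul_assoc, F.setup.zz, mul_one] at e7
      exact e7.eq
  obtain ⟨r, hr, hrc⟩ := F.phi_surj c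
  have hs : x₁ * r⁻¹ ∈ F.R := by
    refine ⟨(F.setup.ρ_ker _ (mul_mem hx₁z (inv_mem hr.2))).1 ?_,
      Subgroup.mul_mem _ (mem_cz.2 hxi) (Subgroup.inv_mem _ (F.R'_ci hr))⟩
    have e : ρ x₁ = ρ r := iso_ext fun w => by rw [hρ₁, F.rho_R' hr, hrc]
    rw [F.setup.ρ_mul _ hx₁z _ (inv_mem hr.2), F.setup.ρ_inv hr.2, e, mul_inv_cancel]
  obtain ⟨q, hq, rfl⟩ : ∃ q ∈ F.R, x₁ = q * r := ⟨_, hs, by group⟩
  set a := pr (v q)
  have hform : F.Form a c (q * r) := ⟨q, hq, r, hr, rfl, hrc, rfl⟩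
  have hsq := F.form_sq hform
  rw [hx₁2, ← F.zi_zero] at hsq
  obtain ⟨h1, h2⟩ := F.zi_inj hsq.symm
  rw [CharTwo.add_eq_zero] at h1 h2
  rcases two_cases (pl4 a c) with e | e <;> rw [e] at h1 h2
  · right
    refine F.inQ_conj hcx ?_
    obtain ⟨y, hy, hy0⟩ : ∃ y, F.CConj (q * r) y ∧ F.Form 0 c y := by
      rcases sing_pair c a h2 h1 ((pl4_comm c a).trans e) hc0 with e' | e'
      · exact ⟨q * r, ⟨1, one_mem _, by group⟩, e' ▸ hform⟩
      · obtain ⟨y, hy, hy'⟩ := F.form_shift hform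
        rw [e', w4_add_self] at hy'
        exact ⟨y, hy, hy'⟩
    refine F.inQ_conj hy ?_
    obtain ⟨q', hq', r', hr', hqa, -, rfl⟩ := hy0
    obtain ⟨s, t, rfl⟩ := F.zi_of_zero hq' hqa
    exact ⟨g, F.mem, F.pt_ne, mul_mem (F.zi_mem s t).2 hr'.1⟩
  · left
    exact fun y hy => F.cconj_trans hcx (F.form_ref hform h1 h2 e hy)

end Pt

end

end CfsgLib.Spor.SuzType
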