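import Cfsg.Agent.Lib.Spor.SuzType.Setup
import Cfsg.Agent.Lib.Spor.CoOneType.Five
import Mathlib.GroupTheory.Index

/-!
# Coordinates at a singular point of the orthogonal space of minus type in dimension six over two elements
-/

set_option autoImplicit false
set_option synthInstance.maxSize 4096

namespace CfsgLib.Spor.SuzType

open Matrix Cfsg.Geo CfsgLib.Perm.Trans.Quad
open CfsgLib.Spor.CoOneType (W4 q4 Iso4 act4 act4_one act4_mul act4_add q4_act4 pol4_act4 iso4_ext q4_nd two_cases w4_add_self)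

noncomputable section

/-- The polar form of the six-space. -/
abbrev pl (x y : Vec) : ZMod 2 := QuadraticMap.polar qf x y

/-- The polar form of the four-space. -/
abbrev pl4 (x y : W4) : ZMod 2 := QuadraticMap.polar q4 x y

/-- A vector from its parts. -/
def vmk (α β : ZMod 2) (u : W4) : Vec :=
  Sum.elim (Sum.elim ![α, u (.inl (.inl 0))] ![β, u (.inl (.inr 0))]) ![u (.inr 0), u (.inr 1)]

/-- The first coordinate. -/
def xc (v : Vec) : ZMod 2 := v (.inl (.inl 0))

/-- The coordinate paired with the first one. -/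
def yc (v : Vec) : ZMod 2 := v (.inl (.inr 0))

/-- The part in the four-space. -/
def pr (v : Vec) : W4 := Sum.elim (Sum.elim ![v (.inl (.inl 1))] ![v (.inl (.inr 1))]) ![v (.inr 0), v (.inr 1)]

theorem vmk_eta : ∀ v : Vec, vmk (xc v) (yc v) (pr v) = v := by decide +kernel

theorem xc_vmk (α β : ZMod 2) (u : W4) : xc (vmk α β u) = α := rfl

theorem yc_vmk (α β : ZMod 2) (u : W4) : yc (vmk α β u) = β := rfl

theorem pr_vmk : ∀ (α β : ZMod 2) (u : W4), pr (vmk α β u) = u := by decide +kernel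

theorem vmk_add : ∀ (α β α' β' : ZMod 2) (u u' : W4), vmk α β u + vmk α' β' u' = vmk (α + α') (β + β') (u + u') := by
  decide +kernel

theorem vmk_congr {α α' β β' : ZMod 2} {u u' : W4} (h₁ : α = α') (h₂ : β = β') (h₃ : u = u') :
    vmk α β u = vmk α' β' u' := by rw [h₁, h₂, h₃]

theorem qf_vmk : ∀ (α β : ZMod 2) (u : W4), qf (vmk α β u) = α * β + q4 u := by decide +kernel

theorem q4_add (u u' : W4) : q4 (u + u') = q4 u + q4 u' + pl4 u u' := by
  simp only [QuadraticMap.polar]; ring

theorem qf_add (x y : Vec) : qf (x + y) = qf x + qf y + pl x y := by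
  simp only [QuadraticMap.polar]; ring

theorem pl_vmk (α β α' β' : ZMod 2) (u u' : W4) :
    pl (vmk α β u) (vmk α' β' u') = α * β' + β * α' + pl4 u u' := by
  simp only [QuadraticMap.polar, vmk_add, qf_vmk]; ring

/-- The fixed singular vector. -/
def w0 : Vec := vmk 1 0 0

/-- Its partner. -/
def f0 : Vec := vmk 0 1 0

theorem qf_w0 : qf w0 = 0 := by decide +kernel

theorem w0_ne : w0 ≠ 0 := by decide +kernel

theorem qf_f0 : qf f0 = 0 := by decide +kernel

theorem f0_ne : f0 ≠ 0 := by decide +kernel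

theorem pl4_zero_right : ∀ u : W4, pl4 u 0 = 0 := by decide +kernel

theorem pl4_zero_left : ∀ u : W4, pl4 0 u = 0 := by decide +kernel

theorem pl_w0 : ∀ v : Vec, pl v w0 = yc v := by decide +kernel

theorem vec_add_self (v : Vec) : v + v = 0 := funext fun _ => CharTwo.add_self_eq_zero _

theorem pl4_comm (u u' : W4) : pl4 u u' = pl4 u' u := QuadraticMap.polar_comm q4 u u'

theorem pl4_add_left (u u' c : W4) : pl4 (u + u') c = pl4 u c + pl4 u' c := q4_nd.polar_bilinear.add_left u u' c

theorem pl4_add_right (c u u' : W4) : pl4 c (u + u') = pl4 c u + pl4 c u' := q4_nd.polar_bilinear.add_right c u u'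

theorem pl4_self : ∀ u : W4, pl4 u u = 0 := by decide +kernel

theorem pl_comm (x y : Vec) : pl x y = pl y x := QuadraticMap.polar_comm qf x y

theorem pl_add_left (x x' y : Vec) : pl (x + x') y = pl x y + pl x' y := qf_nd.polar_bilinear.add_left x x' y

theorem pl_add_right (x y y' : Vec) : pl x (y + y') = pl x y + pl x y' := qf_nd.polar_bilinear.add_right x y y'

theorem pl_smul_left (a : ZMod 2) (x y : Vec) : pl (a • x) y = a * pl x y := qf_nd.polar_bilinear.smul_left a x y

theorem exists_pl_one {u : Vec} (hu : u ≠ 0) : ∃ y, pl u y = 1 := by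
  by_contra hcon
  push Not at hcon
  have h0 : ∀ y, pl u y = 0 := fun y => (two_cases _).resolve_right (hcon y)
  obtain ⟨⟨x, hx⟩, y, hy⟩ := qf_nd.nondegenerate u hu
  exact hx ((QuadraticMap.polar_comm qf x u).trans (h0 x))

/-- The transformation attached to a vector of the four-space. -/
def sieg (c : W4) (v : Vec) : Vec := vmk (xc v + pl4 (pr v) c + yc v * q4 c) (yc v) (pr v + yc v • c)

theorem sieg_vmk (c : W4) (α β : ZMod 2) (u : W4) :
    sieg c (vmk α β u) = vmk (α + pl4 u c + β * q4 c) β (u + β • c) := by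
  rw [sieg, xc_vmk, yc_vmk, pr_vmk]

theorem sieg_zero (v : Vec) : sieg 0 v = v := by
  rw [sieg, pl4_zero_right, show q4 0 = 0 from qzero q4_nd, smul_zero, mul_zero, add_zero, add_zero, add_zero, vmk_eta]

theorem sieg_sieg (c d : W4) (v : Vec) : sieg c (sieg d v) = sieg (c + d) v := by
  rw [← vmk_eta v, sieg_vmk, sieg_vmk, sieg_vmk]
  rcases two_cases (yc v) with h | h <;> rw [h]
  · simp only [zero_smul, add_zero, zero_mul, pl4_add_right]
    refine vmk_congr ?_ rfl rfl
    ring
  · simp only [one_smul, one_mul, pl4_add_right, pl4_add_left, q4_add]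
    refine vmk_congr ?_ rfl ?_
    · rw [pl4_comm d c]; ring
    · abel

theorem sieg_inv (c : W4) (v : Vec) : sieg c (sieg c v) = v := by
  rw [sieg_sieg, w4_add_self, sieg_zero]

theorem sieg_w0 : ∀ c : W4, sieg c w0 = w0 := by decide +kernel

theorem sieg_perp (c : W4) {v : Vec} (hv : yc v = 0) : pr (sieg c v) = pr v := by
  rw [sieg, pr_vmk, hv, zero_smul, add_zero]

theorem sieg_f0 : ∀ c : W4, pr (sieg c f0) = c := by decide +kernel

theorem sieg_f0_q : ∀ c : W4, q4 c = 0 → sieg c f0 + f0 = vmk 0 0 c := by decide +kernel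

theorem act_smul (g : Iso6) (a : ZMod 2) (x : Vec) : act g (a • x) = a • act g x := mulVec_smul _ _ _

theorem yc_act {g : Iso6} (hw : act g w0 = w0) (v : Vec) : yc (act g v) = yc v := by
  rw [← pl_w0, ← pl_w0]
  conv_lhs => rw [← hw]
  exact pol_act g v w0

theorem decomp : ∀ v : Vec, v = vmk 0 0 (pr v) + xc v • w0 + yc v • f0 := by decide +kernel

/-- An isometry fixing the point and trivial on its perpendicular space modulo it is such a transformation. -/
theorem eq_sieg {g : Iso6} (hw : act g w0 = w0) (hg : ∀ v, yc v = 0 → pr (act g v) = pr v) :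
    ∀ v, act g v = sieg (pr (act g f0)) v := by
  set c := pr (act g f0) with hc
  set s := xc (act g f0)
  have hf : act g f0 = vmk s 1 c := by
    conv_lhs => rw [← vmk_eta (act g f0)]
    rw [yc_act hw]; rfl
  have hs : s = q4 c := by
    have h := qf_act g f0
    rw [hf, qf_vmk, qf_f0, mul_one] at h
    exact CharTwo.add_eq_zero.1 h
  have hu : ∀ u, act g (vmk 0 0 u) = vmk (pl4 u c) 0 u := fun u => by
    have h : act g (vmk 0 0 u) = vmk (xc (act g (vmk 0 0 u))) 0 u := by
      conv_lhs => rw [← vmk_eta (act g (vmk 0 0 u))]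
      rw [yc_act hw, hg _ rfl, pr_vmk]; rfl
    have h1 := pol_act g (vmk 0 0 u) f0
    change pl (act g (vmk 0 0 u)) (act g f0) = pl (vmk 0 0 u) f0 at h1
    rw [h, hf, f0, pl_vmk, pl_vmk, pl4_zero_right] at h1
    simp only [mul_one, zero_mul, mul_zero, add_zero] at h1
    rw [h]
    exact vmk_congr (CharTwo.add_eq_zero.1 h1) rfl rfl
  intro v
  conv_lhs => rw [decomp v]
  rw [act_add, act_add, act_smul, act_smul, hw, hf, hu, hs, sieg]
  rcases two_cases (xc v) with h | h <;> rcases two_cases (yc v) with h' | h' <;> rw [h, h'] <;>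
    simp only [zero_smul, one_smul, zero_mul, one_mul, add_zero, zero_add, w0, vmk_add] <;> (refine vmk_congr ?_ ?_ ?_) <;> first | ring | abel

/-- An isometry fixing the perpendicular space of a singular vector is trivial. -/
theorem fix_hyperplane {g : Iso6} {u : Vec} (hu : qf u = 0) (hu0 : u ≠ 0)
    (h : ∀ x, pl u x = 0 → act g x = x) : g = 1 := by
  obtain ⟨y, hy⟩ := exists_pl_one hu0
  refine iso_ext fun x => ?_
  rw [act_one]
  have hy' : act g y = y := by
    set d := act g y + y with hd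
    have hperp : ∀ x, pl u x = 0 → pl x d = 0 := fun x hx => by
      rw [hd, pl_add_right]
      have h2 := pol_act g x y
      rw [h x hx] at h2
      rw [show pl x (act g y) = pl x y from h2, CharTwo.add_self_eq_zero]
    have hkey : ∀ x, pl x (d + pl y d • u) = 0 := fun x => by
      rw [pl_add_right, pl_comm x (pl y d • u), pl_smul_left]
      rcases two_cases (pl u x) with e | e
      · rw [hperp x e, e, mul_zero, add_zero]
      · have h3 : pl (x + y) d = 0 := hperp _ (by rw [pl_add_right, e, hy]; decide)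
        rw [pl_add_left] at h3
        rw [e, mul_one]; exact h3
    have hd0 : d + pl y d • u = 0 := by
      by_contra hne
      obtain ⟨x, hx⟩ := exists_pl_one hne
      rw [pl_comm, hkey] at hx
      exact zero_ne_one hx
    have hde : d = pl y d • u := by
      calc d = (d + pl y d • u) + pl y d • u := by rw [add_assoc, vec_add_self, add_zero]
        _ = pl y d • u := by rw [hd0, zero_add]
    have hback : act g y = y + d := by rw [hd, add_comm y, add_assoc, vec_add_self, add_zero]
    have hq := qf_act g y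
    rcases two_cases (pl y d) with e | e
    · rw [e, zero_smul] at hde; rw [hback, hde, add_zero]
    · exfalso
      rw [e, one_smul] at hde
      rw [hback, qf_add, hde, hu, pl_comm, hy, add_zero] at hq
      exact one_ne_zero (add_eq_left.1 hq)
  rcases two_cases (pl u x) with e | e
  · exact h x e
  · have h3 := h (x + y) (by rw [pl_add_right, e, hy]; decide)
    rw [act_add, hy'] at h3
    exact add_right_cancel h3

/-- The transformation as a linear map. -/
def siegLin (c : W4) : Vec →ₗ[ZMod 2] Vec :=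
  AddMonoidHom.toZModLinearMap 2 (AddMonoidHom.mk' (sieg c) fun v w => by
    rw [← vmk_eta v, ← vmk_eta w, vmk_add, sieg_vmk, sieg_vmk, sieg_vmk, vmk_add]
    refine vmk_congr ?_ rfl ?_
    · rw [pl4_add_left]; ring
    · rw [add_smul]; abel)

theorem siegLin_apply (c : W4) (v : Vec) : siegLin c v = sieg c v := rfl

theorem qf_sieg (c : W4) (v : Vec) : qf (sieg c v) = qf v := by
  rw [← vmk_eta v, sieg_vmk, qf_vmk, qf_vmk]
  rcases two_cases (yc v) with h | h <;> rw [h]
  · simp
  · simp only [one_smul, one_mul, mul_one, q4_add]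
    linear_combination (q4 c + pl4 (pr v) c) * CharTwo.two_eq_zero (R := ZMod 2)

/-- The transformations form a group. -/
def S : Multiplicative W4 →* Iso6 :=
  MonoidHom.codRestrict
    (MonoidHom.toHomUnits
      { toFun := fun c => LinearMap.toMatrix' (siegLin (Multiplicative.toAdd c))
        map_one' := by
          rw [show siegLin (Multiplicative.toAdd (1 : Multiplicative W4)) = LinearMap.id from
            LinearMap.ext fun v => sieg_zero v, LinearMap.toMatrix'_id]
        map_mul' := fun c d => by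
          rw [show siegLin (Multiplicative.toAdd (c * d)) =
              (siegLin (Multiplicative.toAdd c)).comp (siegLin (Multiplicative.toAdd d)) from
            LinearMap.ext fun v => (sieg_sieg _ _ v).symm, LinearMap.toMatrix'_comp] })
    _ (fun c => mem_iso.2 fun x => by
      show qf (LinearMap.toMatrix' (siegLin (Multiplicative.toAdd c)) *ᵥ x) = qf x
      rw [LinearMap.toMatrix'_mulVec, siegLin_apply, qf_sieg])

theorem act_S (c : W4) (v : Vec) : act (S (Multiplicative.ofAdd c)) v = sieg c v :=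
  LinearMap.toMatrix'_mulVec (siegLin c) v

/-- An isometry of the four-space extended. -/
def extLin (h : Iso4) : Vec →ₗ[ZMod 2] Vec :=
  AddMonoidHom.toZModLinearMap 2 (AddMonoidHom.mk' (fun v => vmk (xc v) (yc v) (act4 h (pr v))) fun v w => by
    rw [vmk_add, ← act4_add]; rfl)

theorem extLin_apply (h : Iso4) (v : Vec) : extLin h v = vmk (xc v) (yc v) (act4 h (pr v)) := rfl

/-- The extension as a homomorphism. -/
def E : Iso4 →* Iso6 :=
  MonoidHom.codRestrict
    (MonoidHom.toHomUnits
      { toFun := fun h => LinearMap.toMatrix' (extLin h)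
        map_one' := by
          rw [show extLin 1 = LinearMap.id from LinearMap.ext fun v => by
            rw [extLin_apply, act4_one, vmk_eta]; rfl, LinearMap.toMatrix'_id]
        map_mul' := fun g h => by
          rw [show extLin (g * h) = (extLin g).comp (extLin h) from LinearMap.ext fun v => by
            rw [LinearMap.comp_apply, extLin_apply g, extLin_apply h, xc_vmk, yc_vmk, pr_vmk, ← act4_mul]; rfl,
            LinearMap.toMatrix'_comp] })
    _ (fun h => mem_iso.2 fun x => by
      show qf (LinearMap.toMatrix' (extLin h) *ᵥ x) = qf x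
      rw [LinearMap.toMatrix'_mulVec, extLin_apply, qf_vmk, q4_act4, ← qf_vmk, vmk_eta])

theorem act_E (h : Iso4) (v : Vec) : act (E h) v = vmk (xc v) (yc v) (act4 h (pr v)) :=
  LinearMap.toMatrix'_mulVec (extLin h) v

/-- The entries of the two generators. -/
def gdat : Fin 2 → Fin 4 → Fin 4 → ZMod 2 :=
  ![![![1, 0, 0, 0], ![0, 1, 0, 0], ![0, 0, 0, 1], ![0, 0, 1, 1]],
    ![![0, 1, 0, 0], ![1, 1, 0, 1], ![0, 0, 0, 1], ![0, 1, 1, 0]]]

/-- The position of an index. -/
def pos : CoOneType.Ix4 → Fin 4 := Sum.elim (Sum.elim ![0] ![1]) ![2, 3]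

/-- The matrix of a generator. -/
def gmat (k : Fin 2) : Matrix CoOneType.Ix4 CoOneType.Ix4 (ZMod 2) := Matrix.of fun i j => gdat k (pos i) (pos j)

/-- The order of a generator. -/
def gord : Fin 2 → ℕ := ![3, 5]

theorem gmat_pow : ∀ k, gmat k * gmat k ^ (gord k - 1) = 1 ∧ gmat k ^ (gord k - 1) * gmat k = 1 := by decide +kernel

theorem gmat_q : ∀ k (x : W4), q4 (gmat k *ᵥ x) = q4 x := by decide +kernel

/-- A generator. -/
def σ (k : Fin 2) : Iso4 :=
  ⟨⟨gmat k, gmat k ^ (gord k - 1), (gmat_pow k).1, (gmat_pow k).2⟩, mem_iso.2 fun x => gmat_q k x⟩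

/-- The action of a generator, as a function. -/
def σf (k : Fin 2) (u : W4) : W4 := gmat k *ᵥ u

theorem act4_σ (k : Fin 2) (u : W4) : act4 (σ k) u = σf k u := rfl

theorem σ_pow (k : Fin 2) : σ k ^ gord k = 1 := by
  refine Subtype.ext (Units.ext ?_)
  rw [SubgroupClass.coe_pow, Units.val_pow_eq_pow_val]
  show gmat k ^ gord k = 1
  fin_cases k <;> decide +kernel

theorem gord_odd (k : Fin 2) : Odd (gord k) := by fin_cases k <;> decide

theorem mem_om_of_odd {g : Iso6} {n : ℕ} (hn : Odd n) (hg : g ^ n = 1) : g ∈ Om := by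
  obtain ⟨m, rfl⟩ := hn
  rw [show g = (g ^ 2) ^ (m + 1) by rw [← pow_mul, show 2 * (m + 1) = 2 * m + 1 + 1 by ring, pow_succ, hg, one_mul]]
  exact pow_mem (Subgroup.sq_mem_of_index_two om_index g) _

/-- The element of a word. -/
def σw (w : List (Fin 2)) : Iso4 := (w.map σ).prod

/-- The action of a word. -/
def wf (w : List (Fin 2)) (u : W4) : W4 := w.foldr σf u

theorem act4_σw : ∀ (w : List (Fin 2)) (u : W4), act4 (σw w) u = wf w u
  | [], u => act4_one u
  | k :: w, u => by
    rw [show σw (k :: w) = σ k * σw w by simp [σw], act4_mul, act4_σw w u, act4_σ]; rfl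

theorem E_mem (w : List (Fin 2)) : E (σw w) ∈ Om := by
  induction w with
  | nil => rw [show σw [] = 1 from rfl, map_one]; exact one_mem _
  | cons k w ih =>
    rw [show σw (k :: w) = σ k * σw w by simp [σw], map_mul]
    exact mul_mem (mem_om_of_odd (gord_odd k) (by rw [← map_pow, σ_pow, map_one])) ih

/-- A reference pair of non-singular vectors: first. -/
def a₀ : W4 := Sum.elim (Sum.elim ![0] ![0]) ![1, 0]

/-- A reference pair of non-singular vectors: second. -/
def c₀ : W4 := Sum.elim (Sum.elim ![0] ![0]) ![0, 1]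

/-- A pair perpendicular to the reference pair: first. -/
def m₁ : W4 := Sum.elim (Sum.elim ![1] ![0]) ![0, 0]

/-- A pair perpendicular to the reference pair: second. -/
def m₂ : W4 := Sum.elim (Sum.elim ![0] ![1]) ![0, 0]

theorem ref_pair : q4 a₀ = 1 ∧ q4 c₀ = 1 ∧ pl4 a₀ c₀ = 1 ∧ a₀ ≠ 0 ∧ c₀ ≠ 0 := by decide +kernel

theorem m_facts : pl4 m₁ m₂ = 1 ∧ pl4 m₁ a₀ = 0 ∧ pl4 m₁ c₀ = 0 ∧ pl4 m₂ a₀ = 0 ∧ pl4 m₂ c₀ = 0 := by
  decide +kernel

theorem move_singular4 : ∀ u : W4, q4 u = 0 → u ≠ 0 → ∃ k, σf k u ≠ u := by decide +kernel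

theorem sing_pair : ∀ u u' : W4, q4 u = 0 → q4 u' = 0 → pl4 u u' = 0 → u ≠ 0 → u' = 0 ∨ u' = u := by decide +kernel

theorem exists_perp_one : ∀ u : W4, u ≠ 0 → ∀ e : W4, e ≠ 0 → e ≠ u → ∃ y, pl4 y u = 1 ∧ pl4 y e = 0 := by
  decide +kernel

theorem solve_shift : ∀ a c : W4, q4 a = 1 → q4 c = 1 → pl4 a c = 1 →
    ∀ s t : ZMod 2, ∃ m, pl4 m a + pl4 m c = s ∧ pl4 m c = t := by decide +kernel

/-- Words reaching every such pair up to shift. -/
def reps : List (List (Fin 2)) :=
  [[], [0], [1], [0, 0], [1, 0], [0, 1], [1, 1], [1, 0, 0], [0, 1, 0], [1, 1, 0], [0, 0, 1], [1, 0, 1], [0, 1, 1],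
    [1, 1, 1], [0, 1, 0, 0], [1, 1, 0, 0], [0, 0, 1, 0], [1, 0, 1, 0], [1, 1, 1, 0], [1, 0, 0, 1], [1, 1, 0, 1],
    [1, 0, 1, 1], [1, 1, 1, 1], [0, 0, 1, 0, 0], [1, 0, 1, 0, 0], [1, 0, 0, 1, 0], [1, 1, 0, 1, 0],
    [1, 1, 1, 1, 0], [0, 1, 1, 1, 1], [1, 1, 0, 1, 0, 0]]

theorem pair_reach : ∀ a c : W4, q4 a = 1 → q4 c = 1 → pl4 a c = 1 →
    ∃ w ∈ reps, wf w c₀ = c ∧ (wf w a₀ = a ∨ wf w a₀ = a + c) := by decide +kernel

theorem single_reach : ∀ u : W4, u ≠ 0 →
    ∃ w ∈ ([[], [1], [1, 1], [0, 1, 1], [0, 0, 1, 1], [0], [0, 0], [1, 0], [1, 0, 0], [0, 1, 0], [1, 1, 0],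
      [1, 1, 0, 0], [1, 0, 1, 0], [1, 1, 1, 0]] : List (List (Fin 2))),
      wf w (if q4 u = 0 then m₁ else a₀) = u := by decide +kernel

/-- Words taking a basis of singular vectors to a fixed one. -/
def bw : Fin 4 → List (Fin 2) := ![[], [1, 0, 0, 1], [1], [1, 0, 0]]

theorem bw_spec : ∀ j, wf (bw j) (CoOneType.tb j) = m₁ := by decide +kernel

/-- The candidate invariant bilinear forms. -/
def cand (m a c : W4) : ZMod 2 := ∑ j, CoOneType.coef a j * pl4 m (wf (bw j) c)

theorem cand_class : ∀ m : W4, (∀ k j, ∀ c, cand m (σf k (CoOneType.tb j)) (σf k c) = cand m (CoOneType.tb j) c) →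
    (∀ j c, cand m (CoOneType.tb j) c = 0) ∨ ∀ j c, cand m (CoOneType.tb j) c = pl4 (CoOneType.tb j) c := by
  decide +kernel

/-- An orbit function. -/
def orbFun (s t : ZMod 2) (u : W4) : ZMod 2 := if u = 0 then 0 else if q4 u = 0 then s else t

theorem orbFun_class : ∀ s t : ZMod 2,
    (∀ j : Fin 4, ∀ a c : W4, orbFun s t (CoOneType.tb j + a + c) + orbFun s t (CoOneType.tb j + a) +
      orbFun s t (CoOneType.tb j + c) + orbFun s t (a + c) + orbFun s t (CoOneType.tb j) + orbFun s t a +
      orbFun s t c = 0) →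
    (s = 0 ∧ t = 0) ∨ (∀ u, orbFun s t u = q4 u) := by decide +kernel

theorem sieg_pair : ∀ x : W4, q4 x = 1 → pl4 m₁ x = 0 → pl4 m₂ x = 0 → pl4 x c₀ = 1 → x = a₀ ∨ x = a₀ + c₀ := by
  decide +kernel

theorem span4 : ∀ u : W4, u = pl4 u m₂ • m₁ + pl4 u m₁ • m₂ + pl4 u c₀ • a₀ + pl4 u a₀ • c₀ := by decide +kernel

theorem refl4 : ∀ u : W4, u + pl4 u c₀ • c₀ =
    pl4 u m₂ • m₁ + pl4 u m₁ • m₂ + pl4 u c₀ • (a₀ + c₀) + pl4 u a₀ • c₀ := by decide +kernel

/-- Four commuting words. -/
def kw : Fin 4 → List (Fin 2) := ![[], [0, 1, 1], [0, 0, 1, 0, 1, 0], [1, 1, 0, 0, 1, 0, 1]]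

end

end CfsgLib.Spor.SuzType
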