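import Cfsg.Agent.Lib.Spor.SuzType.Classes

/-!
# The reference involution is not conjugate to the centre
-/

set_option autoImplicit false
set_option synthInstance.maxSize 1024

namespace CfsgLib.Spor.SuzType

open Subgroup CfsgLib.Spor.CoOneType

noncomputable section

variable {G : Type*} [Group G] [Finite G] {z : G} {Q : Subgroup G} {v : G → Vec} {ρ : G → Iso6}

namespace Pt

variable {g : G} (F : Pt z Q v ρ g)

include F

/-- A fixed isometry preserving the reference data acts as a transformation at the point. -/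
theorem sieg_of_fix {k : Iso6} (hk : k ∈ Om) (hw : act k w0 = w0)
    (hm₁ : pr (act k (vmk 0 0 m₁)) = m₁) (hm₂ : pr (act k (vmk 0 0 m₂)) = m₂)
    (hc : ∀ x, sieg c₀ (act k x) = act k (sieg c₀ x)) : ∀ x, act k x = sieg (pr (act k f0)) x := by
  have hyc : ∀ u, yc (act k (vmk 0 0 u)) = 0 := fun u => (yc_act hw _).trans (yc_vmk _ _ _)
  let f : W4 → W4 := fun u => pr (act k (vmk 0 0 u))
  have hadd : ∀ u u', f (u + u') = f u + f u' := fun u u' => by
    show pr (act k (vmk 0 0 (u + u'))) = _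
    rw [show vmk 0 0 (u + u') = vmk 0 0 u + vmk 0 0 u' by rw [vmk_add, add_zero], act_add]
    conv_lhs => rw [← vmk_eta (act k (vmk 0 0 u)), ← vmk_eta (act k (vmk 0 0 u')), vmk_add, pr_vmk]
  have hsmul : ∀ (s : ZMod 2) u, f (s • u) = s • f u := fun s u => by
    rcases two_cases s with rfl | rfl
    · rw [zero_smul, zero_smul]
      have h := hadd 0 0
      rw [add_zero] at h
      exact add_eq_left.1 h.symm
    · rw [one_smul, one_smul]
  have hc₀ : f c₀ = c₀ := by
    have h := congrArg pr (hc f0)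
    have e : sieg c₀ f0 = vmk 0 0 c₀ + w0 + f0 := by decide +kernel
    have e2 : pr (sieg c₀ (act k f0)) = pr (act k f0) + c₀ := by
      rw [sieg, pr_vmk, show yc (act k f0) = 1 from (yc_act hw f0).trans (yc_vmk _ _ _), one_smul]
    have e3 : pr (act k (vmk 0 0 c₀ + w0 + f0)) = f c₀ + pr (act k f0) := by
      rw [act_add, act_add, hw]
      conv_lhs => rw [← vmk_eta (act k (vmk 0 0 c₀)), ← vmk_eta (act k f0), w0, vmk_add, vmk_add, pr_vmk, add_zero]
    rw [e2, e, e3, add_comm (f c₀)] at h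
    exact (add_left_cancel h).symm
  have hpol : ∀ u u', pl4 (f u) (f u') = pl4 u u' := fun u u' => by
    have h := pol_act k (vmk 0 0 u) (vmk 0 0 u')
    change pl (act k (vmk 0 0 u)) (act k (vmk 0 0 u')) = pl (vmk 0 0 u) (vmk 0 0 u') at h
    rw [← vmk_eta (act k (vmk 0 0 u)), ← vmk_eta (act k (vmk 0 0 u')), hyc, hyc, pl_vmk, pl_vmk] at h
    simpa using h
  have hq : q4 (f a₀) = 1 := by
    have h := qf_act k (vmk 0 0 a₀)
    rw [← vmk_eta (act k (vmk 0 0 a₀)), hyc, qf_vmk, qf_vmk, ref_pair.1] at h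
    simpa using h
  have h1 : pl4 m₁ (f a₀) = 0 := by
    have h := hpol m₁ a₀
    rw [show f m₁ = m₁ from hm₁, m_facts.2.1] at h
    exact h
  have h2 : pl4 m₂ (f a₀) = 0 := by
    have h := hpol m₂ a₀
    rw [show f m₂ = m₂ from hm₂, m_facts.2.2.2.1] at h
    exact h
  have h3 : pl4 (f a₀) c₀ = 1 := by
    have h := hpol a₀ c₀
    rw [hc₀, ref_pair.2.2.1] at h
    exact h
  have hlin : ∀ u, f u = pl4 u m₂ • m₁ + pl4 u m₁ • m₂ + pl4 u c₀ • f a₀ + pl4 u a₀ • c₀ := fun u => by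
    conv_lhs => rw [span4 u]
    rw [hadd, hadd, hadd, hsmul, hsmul, hsmul, hsmul, hc₀, show f m₁ = m₁ from hm₁, show f m₂ = m₂ from hm₂]
  have hpr : ∀ x, yc x = 0 → pr (act k x) = f (pr x) := fun x hx => by
    conv_lhs => rw [decomp x, hx, zero_smul, add_zero, act_add, act_smul, hw]
    rcases two_cases (xc x) with e | e <;> rw [e]
    · rw [zero_smul, add_zero]
    · rw [one_smul]
      conv_lhs => rw [← vmk_eta (act k (vmk 0 0 (pr x))), w0, vmk_add, pr_vmk, add_zero]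
  rcases sieg_pair _ hq h1 h2 h3 with e | e
  · refine eq_sieg hw fun x hx => ?_
    rw [hpr x hx, hlin, e]
    exact (span4 _).symm
  · exfalso
    have hw' : act (k * E r₄) w0 = w0 := by
      rw [act_mul, act_E]
      conv_rhs => rw [← hw]
      congr 1
    have hs := eq_sieg hw' fun x hx => by
      rw [act_mul, act_E, hpr _ (by rw [yc_vmk]; exact hx), pr_vmk, act4_r₄, hlin, e, ← refl4, add_assoc]
      have hc' : pl4 (pr x + pl4 (pr x) c₀ • c₀) c₀ = pl4 (pr x) c₀ := by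
        rcases two_cases (pl4 (pr x) c₀) with e | e <;> rw [e]
        · rw [zero_smul, add_zero, e]
        · rw [one_smul, pl4_add_left, pl4_self, add_zero, e]
      rw [hc', w4_add_self, add_zero]
    have hmem : k * E r₄ ∈ Om := by
      rw [show k * E r₄ = S (Multiplicative.ofAdd (pr (act (k * E r₄) f0))) from
        iso_ext fun x => by rw [hs x, act_S]]
      exact S_mem _
    exact r₄_notMem (by simpa using mul_mem (inv_mem hk) hmem)

/-- The reference involution lies in no extraspecial group of an involution of `Q`. -/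
theorem form_notInQ {t : G} (ht : F.Form a₀ c₀ t) : ¬ F.InQ t := by
  rintro ⟨k, hkQ, hkne, htk⟩
  set j := k * z * k⁻¹ with hj
  have hzc := F.form_cz ht
  have hjt : t * j = j * t := mem_cz.1 ((F.setup.conj k).le htk)
  have hj2 : j * j = 1 := (F.setup.conj k).zz
  have hj0 : v j ≠ 0 := F.setup.v_ne hkQ (F.setup.conj k).z_ne hkne
  have hjq : qf (v j) = 0 := (F.setup.v_sq j hkQ).2 hj2
  have hfix : sieg c₀ (v j) = v j := by
    rw [← F.form_rho ht, ← F.setup.ρ_act t hzc j hkQ, conj_eq_iff_comm.2 hjt]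
  have hyc : yc (v j) = 0 := by
    rcases two_cases (yc (v j)) with e | e
    · exact e
    · exfalso
      have h := congrArg pr hfix
      rw [sieg, pr_vmk, e, one_smul] at h
      exact ref_pair.2.2.2.2 (add_eq_left.1 h)
  have hperp : pl4 (pr (v j)) c₀ = 0 := by
    have h := congrArg xc hfix
    rw [sieg, xc_vmk, hyc, zero_mul, add_zero] at h
    exact add_eq_left.1 h
  have hqπ : q4 (pr (v j)) = 0 := by
    have h := hjq
    rw [← vmk_eta (v j), qf_vmk, hyc, mul_zero, zero_add] at h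
    exact h
  by_cases hπ : pr (v j) = 0
  · have hw : v j = w0 := by
      rw [← vmk_eta (v j), hyc, hπ]
      rcases two_cases (xc (v j)) with e | e
      · exact absurd (by rw [← vmk_eta (v j), hyc, hπ, e]; decide +kernel) hj0
      · rw [e]; rfl
    have F' : Pt z Q v ρ k := ⟨F.setup, hkQ, hw⟩
    have hR' : t ∈ F'.R' := ⟨htk, hzc⟩
    have hphi : F'.phi t = c₀ := by
      show pr (act (ρ t) f0) = c₀
      rw [F.form_rho ht, sieg_f0]
    have h := F'.square_rule hR'
    rw [F.form_sq ht, ref_pair.1, ref_pair.2.2.1, ref_pair.2.1, CharTwo.add_self_eq_zero, F.zi_zero, hphi,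
      ref_pair.2.1, ← F'.zi_zero] at h
    exact zero_ne_one (F'.zi_inj h).2
  · obtain ⟨h, hh, hhw⟩ := move_singular hj0 w0_ne hjq qf_w0
    obtain ⟨c, hc, rfl⟩ := F.setup.ρ_surj h hh
    have hjc : c * k * z * (c * k)⁻¹ = c * j * c⁻¹ := by rw [hj]; group
    have F' : Pt z Q v ρ (c * k) := ⟨F.setup, by rw [hjc]; exact F.setup.norm hc hkQ,
      by rw [hjc, F.setup.ρ_act c hc j hkQ, hhw]⟩
    obtain ⟨q₁, hq₁, hq₁e⟩ := htk
    replace hq₁e : k * q₁ * k⁻¹ = t := hq₁e
    have hR' : c * t * c⁻¹ ∈ F'.R' := by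
      refine ⟨⟨q₁, hq₁, ?_⟩, Subgroup.mul_mem _ (Subgroup.mul_mem _ hc hzc) (Subgroup.inv_mem _ hc)⟩
      show c * k * q₁ * (c * k)⁻¹ = _
      rw [← hq₁e]; group
    obtain ⟨y, hy1, hy2⟩ := exists_perp_one c₀ ref_pair.2.2.2.2 (pr (v j)) hπ (fun e => by
      rw [e, ref_pair.2.1] at hqπ; exact one_ne_zero hqπ)
    set Y := vmk 0 0 y with hY
    have hx : yc (act (ρ c) Y) = 0 := by
      rw [← pl_w0, ← hhw]
      show QuadraticMap.polar qf _ _ = 0
      rw [pol_act]
      show pl _ _ = 0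
      rw [hY, ← vmk_eta (v j), pl_vmk, hyc]
      simpa using hy2
    have hp := sieg_perp (F'.phi (c * t * c⁻¹)) hx
    rw [← F'.rho_R' hR', F.setup.ρ_mul _ (mul_mem hc hzc) _ (inv_mem hc), F.setup.ρ_mul c hc t hzc,
      F.setup.ρ_inv hc, act_mul, ← act_mul (ρ c)⁻¹, inv_mul_cancel, act_one, act_mul, F.form_rho ht,
      show sieg c₀ Y = Y + w0 by rw [hY, sieg_vmk, hy1, w0, vmk_add]; simp, act_add] at hp
    -- the image of the reference point is a multiple of the reference point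
    have hw0 : pr (act (ρ c) w0) = 0 := by
      conv_lhs at hp => rw [← vmk_eta (act (ρ c) Y), ← vmk_eta (act (ρ c) w0), vmk_add, pr_vmk]
      exact add_eq_left.1 hp
    have hyw : yc (act (ρ c) w0) = 0 := by
      have h := pol_act (ρ c) w0 (v j)
      rw [hhw] at h
      rw [← pl_w0]
      refine h.trans ?_
      show pl _ _ = 0
      rw [pl_comm, pl_w0]; exact hyc
    have hxw : act (ρ c) w0 = act (ρ c) (v j) := by
      rw [hhw, ← vmk_eta (act (ρ c) w0), hw0, hyw]
      rcases two_cases (xc (act (ρ c) w0)) with e | e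
      · exfalso
        refine w0_ne (act_injective (ρ c) ?_)
        rw [act_zero, ← vmk_eta (act (ρ c) w0), hw0, hyw, e]
        decide +kernel
      · rw [e]; rfl
    refine hπ ?_
    rw [← act_injective _ hxw]
    decide +kernel

/-- The reference involution is not conjugate to the centre. -/
theorem form_not_conj {t : G} (ht : F.Form a₀ c₀ t) : ¬ IsConj z t := by
  intro hcon
  obtain ⟨k, hk⟩ := isConj_iff.1 hcon
  have hzc := F.form_cz ht
  have htQ : t ∉ Q := F.form_notMem ht ref_pair.2.2.2.2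
  have htne : t ≠ z := fun e => htQ (e ▸ F.setup.core.mem)
  set Qt := Q.map (MulAut.conj k).toMonoidHom with hQt
  have hQ1 : Q.map (MulAut.conj (1 : G)).toMonoidHom = Q := by
    rw [map_one]; exact Subgroup.map_id Q
  have hback : ∀ a : G, a ∈ Q → a = k * z * k⁻¹ → False := fun a ha e => htQ (by rw [← hk, ← e]; exact ha)
  have hzQt : z ∉ Qt := fun h => htQ (by
    have h' := mutual_conj F.setup (j := 1) (k := k) (by
      rw [show (1 : G) * z * (1 : G)⁻¹ = z by group]; exact h) (by rw [hk]; simpa using htne.symm)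
    rw [hQ1, hk] at h'
    exact h')
  have hinter : ∀ a ∈ Q, a ∈ Qt → a = 1 := by
    intro a ha hat
    by_contra ha1
    have hzt : ∀ {x : G}, x = z → x = t → False := fun e e' => htne (e'.symm.trans e)
    have ha2 : a * a = 1 := by
      rcases F.setup.core.sq_eq a ha with e | e
      · exact e
      · rcases (F.setup.conj k).core.sq_eq a hat with e' | e'
        · exact e'
        · exact (hzt e (e'.trans hk)).elim
    have haz : a ≠ z := fun e => hzQt (e ▸ hat)
    obtain ⟨j, hj⟩ := F.setup.all_conj F.mem F.pt_ne ha ha2 (F.setup.v_ne ha ha1 haz)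
    subst hj
    refine F.form_notInQ ht ⟨j, ha, haz, ?_⟩
    have h := mutual_conj F.setup (j := j) (k := k) hat (fun e => hback _ ha e)
    rwa [hk] at h
  set t' := k⁻¹ * z * k with ht'
  have hkt' : k * t' * k⁻¹ = z := by rw [ht']; group
  have htz : k⁻¹ * t * k = z := by rw [← hk]; group
  have ht'C : t' ∈ centralizer ({z} : Set G) := by
    rw [mem_cz]
    calc t' * z = k⁻¹ * (z * t) * k := by rw [ht', ← htz]; group
      _ = k⁻¹ * (t * z) * k := by rw [mem_cz.1 hzc]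
      _ = z * t' := by rw [ht', ← htz]; group
  have ht'Q : t' ∉ Q := fun h => hzQt ⟨t', h, hkt'⟩
  have ht'2 : t' * t' = 1 := by
    rw [ht', show k⁻¹ * z * k * (k⁻¹ * z * k) = k⁻¹ * (z * z) * k by group, F.setup.zz]; group
  rcases F.classify ht'C ht'2 ht'Q with hh | hh
  · obtain ⟨h, hhC, hht⟩ := hh t ht
    set g' := k * h⁻¹ with hg'
    have hz' : g' * z * g'⁻¹ = t := by
      rw [hg', show k * h⁻¹ * z * (k * h⁻¹)⁻¹ = k * (h⁻¹ * z * h⁻¹⁻¹) * k⁻¹ by group,
        conj_eq_iff_comm.2 (mem_cz.1 (inv_mem hhC)), hk]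
    have hQg : Q.map (MulAut.conj g').toMonoidHom = Qt := conj_map_eq F.setup (hz'.trans hk.symm)
    have ht2 : g' * t * g'⁻¹ = z := by
      rw [← hkt', hg', ← hht]; group
    obtain ⟨q₀, hq₀, r₀, hr₀, ha, hc, hte⟩ := id ht
    obtain ⟨n₁, hn₁, hn₁m⟩ := F.R_surj m₁
    obtain ⟨n₂, hn₂, hn₂m⟩ := F.R_surj m₂
    have hct : ∀ {n : G} {m : W4}, n ∈ F.R → pr (v n) = m → pl4 m a₀ = 0 → pl4 m c₀ = 0 → n * t = t * n := by
      intro n m hn hm h1 h2
      have e1 : n * q₀ = q₀ * n := by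
        have h := F.conj_R hn hq₀
        rw [hm, ha, h1, F.zi_zero, one_mul] at h
        exact conj_eq_iff_comm.1 h
      have e2 : n * r₀ = r₀ * n := by
        have h := F.conj_R' hn hr₀
        rw [hm, hc, h2, F.zi_zero, one_mul] at h
        exact conj_eq_iff_comm.1 h
      rw [hte]
      exact ((show Commute n q₀ from e1).mul_right e2).eq
    have ht1 := hct hn₁ hn₁m m_facts.2.1 m_facts.2.2.1
    have ht2' := hct hn₂ hn₂m m_facts.2.2.2.1 m_facts.2.2.2.2
    -- conjugates in the second extraspecial group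
    have hP : ∀ n ∈ F.R, n * t = t * n →
        g' * n * g'⁻¹ ∈ Qt ∧ g' * n * g'⁻¹ ∈ centralizer ({z} : Set G) := by
      intro n hn hnt
      refine ⟨hQg ▸ ⟨n, hn.1, rfl⟩, mem_cz.2 ?_⟩
      rw [← ht2, show g' * n * g'⁻¹ * (g' * t * g'⁻¹) = g' * (n * t) * g'⁻¹ by group, hnt]; group
    have hcomm : ∀ p ∈ Qt, p ∈ centralizer ({z} : Set G) → ∀ a ∈ Q, a * t = t * a → p * a * p⁻¹ = a := by
      intro p hp hpz a ha hat
      have hd : p * a * p⁻¹ * a⁻¹ ∈ Qt := by
        rw [show p * a * p⁻¹ * a⁻¹ = p * (a * p⁻¹ * a⁻¹) by group]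
        exact mul_mem hp ((F.setup.conj k).norm (by rw [mem_cz, hk]; exact hat) (inv_mem hp))
      exact mul_inv_eq_one.1 (hinter _ (mul_mem (F.setup.norm hpz ha) (inv_mem ha)) hd)
    have hsieg : ∀ p ∈ Qt, p ∈ centralizer ({z} : Set G) → ∀ x, act (ρ p) x = sieg (pr (act (ρ p) f0)) x := by
      intro p hp hpz
      have hpt : p * t = t * p := by
        have := (F.setup.conj k).cz hp
        rwa [hk] at this
      have hfixv : ∀ a ∈ Q, a * t = t * a → act (ρ p) (v a) = v a := fun a ha hat => by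
        rw [← F.setup.ρ_act p hpz a ha, hcomm p hp hpz a ha hat]
      have hfm : ∀ {n : G} {m : W4}, n ∈ F.R → pr (v n) = m → n * t = t * n →
          act (ρ p) w0 = w0 → pr (act (ρ p) (vmk 0 0 m)) = m := by
        intro n m hn hm hnt hw
        have h := hfixv n hn.1 hnt
        rw [F.v_of_R hn, hm] at h
        have e : vmk (xc (v n)) 0 m = vmk 0 0 m + xc (v n) • w0 := by
          rcases two_cases (xc (v n)) with e | e <;> rw [e] <;>
            simp [w0, vmk_add]
        rw [e, act_add, act_smul, hw] at h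
        rw [add_right_cancel h, pr_vmk]
      have hw : act (ρ p) w0 = w0 := by
        rw [← F.val]
        exact hfixv _ F.mem (mem_cz.1 (F.form_ci ht)).symm
      refine F.sieg_of_fix (F.setup.ρ_mem p hpz) hw (hfm hn₁ hn₁m ht1 hw) (hfm hn₂ hn₂m ht2' hw) fun x => ?_
      rw [← F.form_rho ht, ← F.form_rho ht, ← act_mul, ← act_mul, ← F.setup.ρ_mul t hzc p hpz,
        ← F.setup.ρ_mul p hpz t hzc, hpt]
    obtain ⟨hp1, hp1z⟩ := hP n₁ hn₁ ht1
    obtain ⟨hp2, hp2z⟩ := hP n₂ hn₂ ht2'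
    have hρc : ρ (g' * n₁ * g'⁻¹) * ρ (g' * n₂ * g'⁻¹) = ρ (g' * n₂ * g'⁻¹) * ρ (g' * n₁ * g'⁻¹) :=
      iso_ext fun x => by
        rw [act_mul, act_mul, hsieg _ hp1 hp1z, hsieg _ hp2 hp2z, hsieg _ hp2 hp2z (act (ρ (g' * n₁ * g'⁻¹)) x),
          hsieg _ hp1 hp1z x, sieg_sieg, sieg_sieg, add_comm]
    have hn12 : n₁ * n₂ = z * (n₂ * n₁) := by
      have h := F.conj_R hn₁ hn₂
      rw [hn₁m, hn₂m, m_facts.1] at h
      have hz1 : F.zi 1 0 = z := by simp [zi, ZMod.val_one]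
      rw [hz1] at h
      calc n₁ * n₂ = n₁ * n₂ * n₁⁻¹ * n₁ := by group
        _ = _ := by rw [h, mul_assoc]
    have hpp : g' * n₁ * g'⁻¹ * (g' * n₂ * g'⁻¹) = t * (g' * n₂ * g'⁻¹ * (g' * n₁ * g'⁻¹)) := by
      rw [show g' * n₁ * g'⁻¹ * (g' * n₂ * g'⁻¹) = g' * (n₁ * n₂) * g'⁻¹ by group, hn12, ← hz']
      group
    have h1 := congrArg ρ hpp
    rw [F.setup.ρ_mul _ hp1z _ hp2z, F.setup.ρ_mul _ hzc _ (mul_mem hp2z hp1z),
      F.setup.ρ_mul _ hp2z _ hp1z, hρc] at h1
    have h2 : ρ t = 1 := mul_eq_right.1 h1.symm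
    have h3 := congrArg pr (F.form_rho ht f0)
    rw [h2, act_one, sieg_f0] at h3
    exact ref_pair.2.2.2.2 (h3.symm.trans (by decide +kernel))
  · obtain ⟨j, hjQ, hjne, hjt⟩ := hh
    have hne' : t' ≠ j * z * j⁻¹ := fun e => ht'Q (e ▸ hjQ)
    have ht'' : k⁻¹ * z * k⁻¹⁻¹ = t' := by rw [ht', inv_inv]
    have hmem : j * z * j⁻¹ ∈ Q.map (MulAut.conj k⁻¹).toMonoidHom :=
      mutual_conj F.setup (j := k⁻¹) (k := j) (by rw [ht'']; exact hjt) (by rw [ht'']; exact hne')
    obtain ⟨q, hq, hqe⟩ := hmem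
    replace hqe : k⁻¹ * q * k⁻¹⁻¹ = j * z * j⁻¹ := hqe
    have hj' : k * j * z * (k * j)⁻¹ = q := by
      calc k * j * z * (k * j)⁻¹ = k * (j * z * j⁻¹) * k⁻¹ := by group
        _ = q := by rw [← hqe]; group
    have hq' : k * j * z * (k * j)⁻¹ ∈ Qt := ⟨j * z * j⁻¹, hjQ, show k * (j * z * j⁻¹) * k⁻¹ = _ by group⟩
    rw [hj'] at hq'
    refine (F.setup.conj (k * j)).z_ne ?_
    rw [hj']
    exact hinter q hq hq'

end Pt

/-- There are exactly two classes of involutions. -/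
theorem two_classes (S : Setup z Q v ρ) {g : G} (hgQ : g * z * g⁻¹ ∈ Q) (hne : g * z * g⁻¹ ≠ z) :
    ∃ a b : G, orderOf a = 2 ∧ orderOf b = 2 ∧ ¬ IsConj a b ∧
      ∀ x : G, orderOf x = 2 → IsConj x a ∨ IsConj x b := by
  obtain ⟨k, F⟩ := exists_pt S hgQ hne
  obtain ⟨t, ht⟩ := F.exists_form a₀ c₀
  have ht2 : t * t = 1 := by
    rw [F.form_sq ht, ref_pair.1, ref_pair.2.1, ref_pair.2.2.1, CharTwo.add_self_eq_zero, F.zi_zero]
  have ht1 : t ≠ 1 := fun e => F.form_notMem ht ref_pair.2.2.2.2 (e ▸ one_mem Q)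
  haveI : Fact (Nat.Prime 2) := ⟨Nat.prime_two⟩
  refine ⟨z, t, S.core.ord, orderOf_eq_prime (by rw [pow_two, ht2]) ht1, F.form_not_conj ht, fun x hx => ?_⟩
  have hx2 : x * x = 1 := by rw [← pow_two, ← hx, pow_orderOf_eq_one]
  have hx1 : x ≠ 1 := fun e => by rw [e, orderOf_one] at hx; omega
  obtain ⟨c, hc⟩ := conj_into S hx2 hx1
  set y := c * x * c⁻¹ with hy
  have hxy : IsConj x y := isConj_iff.2 ⟨c, rfl⟩
  have hy2 : y * y = 1 := by rw [hy, show c * x * c⁻¹ * (c * x * c⁻¹) = c * (x * x) * c⁻¹ by group, hx2]; group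
  have hy1 : y ≠ 1 := fun e => hx1 (by rw [hy] at e; simpa using e)
  by_cases hyQ : y ∈ Q
  · left
    by_cases hyz : y = z
    · exact hyz ▸ hxy
    · obtain ⟨d, hd⟩ := S.all_conj hgQ hne hyQ hy2 (S.v_ne hyQ hy1 hyz)
      exact hxy.trans (IsConj.symm (isConj_iff.2 ⟨d, hd⟩))
  · rcases F.classify hc hy2 hyQ with hh | hh
    · right
      obtain ⟨d, -, hd⟩ := hh t ht
      exact hxy.trans (isConj_iff.2 ⟨d, hd⟩)
    · left
      obtain ⟨j, hjQ, hjne, hyj⟩ := hh
      have S' := S.conj j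
      have hz' := mutual_mem S hjQ hjne
      have hne' : y ≠ j * z * j⁻¹ := fun e => hyQ (e ▸ hjQ)
      obtain ⟨d, hd⟩ := S'.all_conj (g := j⁻¹) (by
        rw [show j⁻¹ * (j * z * j⁻¹) * j⁻¹⁻¹ = z by group]; exact hz') (by
        rw [show j⁻¹ * (j * z * j⁻¹) * j⁻¹⁻¹ = z by group]; exact hjne.symm) hyj hy2 (S'.v_ne hyj hy1 hne')
      exact hxy.trans (IsConj.symm (isConj_iff.2 ⟨d * j, by rw [← hd]; group⟩))

end

end CfsgLib.Spor.SuzType
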