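import Cfsg.Agent.Lib.Spor.SuzType.KCent

/-!
# The complement in the centralizer of an element of order five or seven
-/

set_option autoImplicit false
set_option synthInstance.maxSize 4096

namespace CfsgLib.Spor.SuzType

open Subgroup CfsgLib.Spor.CoOneType CfsgLib.Invol

noncomputable section

variable {G : Type*} [Group G] [Finite G] {z : G} {Q : Subgroup G} {v : G → Vec} {ρ : G → Iso6}

namespace Pt.Tri

variable {g : G} {F : Pt z Q v ρ g} {t w : G} (T : F.Tri t w)

include T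

theorem four_le_compl {p : ℕ} (h2 : p ≠ 2) {x : G} (hx : x ∈ T.L) {H : Subgroup G} (hC : Compl x p H) (q : ZMod 2 × ZMod 2) :
    T.eE q ∈ H :=
  hC.invol_mem h2 (mem_cz.2 (T.eE_comm_CE (T.L_le hx) q).symm) (T.eE_sq q)

/-- The complement has four groups as involution centralizers. -/
theorem compl_data {p : ℕ} [hp : Fact p.Prime] (h2 : p ≠ 2) {x : G} (hx : x ∈ T.L) (hxo : orderOf x = p)
    (hsq : ¬ p ^ 2 ∣ Nat.card T.K) (h1 : ∀ y ∈ T.K, y * x = x * y → ∃ q, ∃ i : ℤ, y = T.eE q * x ^ i)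
    (hcard : Nat.card ↥(T.K ⊓ centralizer ({x} : Set G)) = 4 * p)
    (hfull : ∀ y ∈ zpowers x, y ≠ 1 → ∃ k ∈ T.K, k * x * k⁻¹ = y) {H : Subgroup G} (hC : Compl x p H) :
    ∃ hyp : SelfCount.Hyp (⟨t, T.eE_t ▸ T.four_le_compl h2 hx hC (1, 0)⟩ : H) 2,
      (Nat.card H = 12 ∨ Nat.card H = 60 ∧ ∃ A : Subgroup H, SelfCount.IsTor A ∧ Nat.card A = 5) ∧
      ∀ A : Subgroup H, SelfCount.IsTor A → A.relIndex (normalizer (A : Set H)) = 2 := by
  classical
  have htH : t ∈ H := T.eE_t ▸ T.four_le_compl h2 hx hC (1, 0)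
  set i : H := ⟨t, htH⟩
  have hyp : SelfCount.Hyp i 2 := hC.hyp htH T.t_ord
    (fun j hj hjo => T.invol_fused h2 hx hxo hsq h1 hfull hj hjo)
    (by rw [inf_comm]; exact hcard.trans (mul_comm _ _))
  have hcomm : ∀ y : H, y * i = i * y → ∃ q, T.eE q = (y : G) := by
    intro y hy
    obtain ⟨q, n, e⟩ := h1 y (mem_cz.2 (congrArg Subtype.val hy)) (mem_cz.1 (hC.le y.2))
    have hn : x ^ n ∈ H := by
      have h := H.mul_mem (T.four_le_compl h2 hx hC q) y.2
      rwa [e, ← mul_assoc, T.eE_sq, one_mul] at h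
    exact ⟨q, by rw [e, hC.inter n hn, mul_one]⟩
  have hsq1 : ∀ y : H, y * i = i * y → y * y = 1 := fun y hy => by
    obtain ⟨q, hq⟩ := hcomm y hy
    exact Subtype.ext (show (y : G) * y = 1 by rw [← hq]; exact T.eE_sq q)
  have hab : ∀ y s : H, y * i = i * y → s * i = i * s → y * s = s * y := fun y s hy hs => by
    obtain ⟨q, hq⟩ := hcomm y hy
    obtain ⟨r, hr⟩ := hcomm s hs
    exact Subtype.ext (show (y : G) * s = s * y by rw [← hq, ← hr, T.eE_add, T.eE_add, add_comm])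
  have hc : Nat.card {j : H // orderOf j = 2 ∧ (j = i ∨ Even (orderOf (i * j)))} = 3 := by
    rw [hyp.card_even (k := 0) (fun y hy => by
      rw [show (4 : ℕ) = 2 * 2 from rfl, pow_mul, pow_two y, hsq1 y hy, one_pow])
      (fun y s _ hy hs hne => absurd (hab y s hy hs) hne), zero_mul, add_zero]
    haveI := Fintype.ofFinite H
    have e : {j : H // orderOf j = 2 ∧ j * i = i * j} ≃ {y : centralizer ({i} : Set H) // ¬ y = 1} :=
      { toFun := fun a => ⟨⟨a.1, mem_cz.2 a.2.2⟩, fun e => invol_ne_one a.2.1 (congrArg Subtype.val e)⟩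
        invFun := fun a => ⟨a.1.1, invol_iff.2 ⟨hsq1 _ (mem_cz.1 a.1.2), fun e => a.2 (Subtype.ext e)⟩, mem_cz.1 a.1.2⟩
        left_inv := fun _ => rfl
        right_inv := fun _ => rfl }
    rw [Nat.card_congr e, Nat.card_eq_fintype_card, Fintype.card_subtype_compl, Fintype.card_subtype_eq,
      ← Nat.card_eq_fintype_card, hyp.card]
    rfl
  have hrel : ∀ A : Subgroup H, SelfCount.IsTor A → A.relIndex (normalizer (A : Set H)) = 2 := by
    intro A hA
    refine le_antisymm (hyp.relIndex_le hA fun S hS huniq => ?_) ?_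
    · haveI := Fintype.ofFinite S
      refine le_trans (Nat.card_le_card_of_injective
        (fun y : S => if (y : H) = 1 then (0 : Fin 2) else 1) fun a b e => ?_) (by simp)
      have h : ∀ y : S, (y : H) ≠ 1 → (y : H) = i := fun y hy =>
        huniq y y.2 (invol_iff.2 ⟨hsq1 _ (mem_cz.1 (hS y.2)), hy⟩)
      refine Subtype.ext ?_
      by_cases ha : (a : H) = 1 <;> by_cases hb : (b : H) = 1 <;> simp only [ha, hb, if_true, if_false] at e
      · rw [ha, hb]
      · exact absurd e (by decide)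
      · exact absurd e (by decide)
      · rw [h a ha, h b hb]
    · refine Nat.le_of_dvd (Nat.pos_of_ne_zero ?_) (hyp.two_dvd_relIndex hA)
      obtain ⟨k, hk⟩ := hyp.exists_relIndex hA
      rw [hk]; positivity
  obtain ⟨M, e, m, hA, hex, hall⟩ := hyp.exists_arith hc
  have hn := hyp.card_group
  refine ⟨hyp, ?_, hrel⟩
  rcases SelfCount.arith_two hA (fun a ha => by
    obtain ⟨A, hA1, hA2, hA3⟩ := hex a ha
    rw [← hA3]; exact hrel A hA1) with e3 | ⟨e15, hM⟩
  · exact Or.inl (by rw [← hn, e3]; rfl)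
  · obtain ⟨A, hA1, hA2, -⟩ := hex 5 (by rw [hM]; decide)
    exact Or.inr ⟨by rw [← hn, e15]; rfl, A, hA1, hA2⟩

end Pt.Tri

end

end CfsgLib.Spor.SuzType
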