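import Cfsg.Agent.Lib.Spor.SuzType.FiveCore
import Cfsg.Agent.Lib.Spor.SuzType.KCompl

/-!
# The centralizer of an element of order five centralizing the centre
-/

set_option autoImplicit false
set_option synthInstance.maxSize 4096

namespace CfsgLib.Spor.SuzType

open Subgroup CfsgLib.Spor.CoOneType CfsgLib.Invol

noncomputable section

variable {G : Type*} [Group G] [Finite G] {z : G} {Q : Subgroup G} {v : G → Vec} {ρ : G → Iso6}

theorem qf_zero_pr : ∀ x : Vec, pr x = 0 → qf x = 0 → x ≠ 0 → x = w0 ∨ x = f0 := by decide +kernel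

theorem qf_pair : ∀ a b : Vec, (a = w0 ∨ a = f0) → pr b = 0 →
    (qf b = 0 ∧ qf (a + b) = 1 ↔ b = a + (w0 + f0)) := by decide +kernel

theorem pr_pair : ∀ a : Vec, (a = w0 ∨ a = f0) → pr a = 0 ∧ pr (a + (w0 + f0)) = 0 := by decide +kernel

theorem partner : ∀ a : Vec, (a = w0 ∨ a = f0) → pl a (a + (w0 + f0)) = 1 := by decide +kernel

theorem zero_pr_count : (Finset.univ.filter fun x : Vec => pr x = 0).card = 4 ∧
    ({0, w0, f0} : Finset Vec).card = 3 ∧ ({w0, f0} : Finset Vec).card = 2 := by decide +kernel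

namespace Pt

variable {g : G} (F : Pt z Q v ρ g)

include F

theorem exists_five : ∃ f ∈ centralizer ({z} : Set G), orderOf f = 5 ∧ ρ f = E (σ 1) := by
  obtain ⟨k, hk, -, hρ⟩ := F.word_lift [1]
  rw [show σw [1] = σ 1 by simp [σw]] at hρ
  have h5 : E (σ 1) ^ 5 = 1 := by rw [← map_pow, show (5 : ℕ) = gord 1 from rfl, σ_pow, map_one]
  have hρk : ρ (k ^ 16) = E (σ 1) := by
    rw [F.setup.ρ_pow hk, hρ, show (16 : ℕ) = 5 * 3 + 1 from rfl, pow_succ, pow_mul, h5, one_pow, one_mul]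
  haveI : Fact (Nat.Prime 5) := ⟨by norm_num⟩
  refine ⟨k ^ 16, pow_mem hk 16, orderOf_eq_prime ?_ ?_, hρk⟩
  · have hQ : k ^ 5 ∈ Q := (F.setup.ρ_ker _ (pow_mem hk 5)).1 (by rw [F.setup.ρ_pow hk, hρ, h5])
    have h4 : (k ^ 5) ^ 4 = 1 := by
      rw [show (4 : ℕ) = 2 * 2 from rfl, pow_mul, pow_two (k ^ 5)]
      rcases F.setup.core.sq_eq _ hQ with e | e <;> rw [e]
      · exact one_pow 2
      · rw [pow_two, F.setup.zz]
    rw [← pow_mul, show 16 * 5 = (5 * 4) * 4 from rfl, pow_mul, pow_mul k 5 4, h4, one_pow]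
  · intro e
    rw [e, F.setup.ρ_one] at hρk
    have h := congrArg (fun u => act u (vmk 0 0 m₁)) hρk
    simp only [act_one, act_E, pr_vmk, xc_vmk, yc_vmk, act4_σ] at h
    exact (show vmk (0 : ZMod 2) 0 m₁ ≠ vmk 0 0 (σf 1 m₁) by decide +kernel) h

variable {f : G} (hfz : f ∈ centralizer ({z} : Set G)) (hfo : orderOf f = 5) (hfρ : ρ f = E (σ 1))

include hfz hfo hfρ

theorem five_Q {q : G} (hq : q ∈ Q) : q * f = f * q ↔ pr (v q) = 0 := by
  constructor
  · intro h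
    refine five_perp _ ?_
    have h1 := F.setup.ρ_act f hfz q hq
    rw [conj_eq_iff_comm.2 h.symm, hfρ, act_E] at h1
    have h2 := congrArg pr h1
    rw [pr_vmk, act4_σ] at h2
    exact h2.symm
  · intro h
    have h1 : v (f * q * f⁻¹) = v q := by
      rw [F.setup.ρ_act f hfz q hq, hfρ, act_E, h, act4, Matrix.mulVec_zero]
      conv_rhs => rw [← vmk_eta (v q), h]
    rcases (F.setup.v_eq (F.setup.norm hfz hq) hq).1 h1 with e | e
    · exact (conj_eq_iff_comm.1 e).symm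
    · exfalso
      have hfc : f * z * f⁻¹ = z := conj_eq_iff_comm.2 (mem_cz.1 hfz)
      have step : ∀ u : G, f * (u * z) * f⁻¹ = f * u * f⁻¹ * z := fun u => by
        calc f * (u * z) * f⁻¹ = f * u * f⁻¹ * (f * z * f⁻¹) := by group
          _ = _ := by rw [hfc]
      have h5 : f ^ 5 * q * (f ^ 5)⁻¹ = q * z := by
        calc f ^ 5 * q * (f ^ 5)⁻¹ = f * (f * (f * (f * (f * q * f⁻¹) * f⁻¹) * f⁻¹) * f⁻¹) * f⁻¹ := by
              rw [pow_succ, pow_succ, pow_succ, pow_two]; group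
          _ = q * z * z * z * z * z := by simp only [e, step]
          _ = q * z := by rw [mul_assoc (q * z) z z, F.setup.zz, mul_one, mul_assoc (q * z) z z, F.setup.zz, mul_one]
      have hf5 : f ^ 5 = 1 := hfo ▸ pow_orderOf_eq_one f
      rw [hf5, inv_one, mul_one, one_mul] at h5
      exact F.setup.z_ne (left_eq_mul.1 h5)

theorem five_cent {y : G} (hy : y ∈ centralizer ({z} : Set G)) (hyf : y * f = f * y) :
    ∃ i : ℤ, ∃ q ∈ Q, pr (v q) = 0 ∧ y = q * f ^ i := by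
  obtain ⟨i, hi⟩ := cent_five (F.setup.ρ_mem y hy) (by
    rw [← hfρ, ← F.setup.ρ_mul y hy f hfz, ← F.setup.ρ_mul f hfz y hy, hyf])
  replace hi : E (σ 1) ^ i = ρ y := hi
  have hρi : ρ (f ^ i) = E (σ 1) ^ i := by
    rcases Int.eq_nat_or_neg i with ⟨n, rfl | rfl⟩
    · rw [zpow_natCast, zpow_natCast, F.setup.ρ_pow hfz, hfρ]
    · rw [zpow_neg, zpow_neg, zpow_natCast, zpow_natCast, F.setup.ρ_inv (pow_mem hfz n), F.setup.ρ_pow hfz, hfρ]
  have hfi : f ^ i ∈ centralizer ({z} : Set G) := zpow_mem hfz i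
  have hQ : y * (f ^ i)⁻¹ ∈ Q := (F.setup.ρ_ker _ (mul_mem hy (inv_mem hfi))).1 (by
    rw [F.setup.ρ_mul _ hy _ (inv_mem hfi), F.setup.ρ_inv hfi, hρi, hi, mul_inv_cancel])
  refine ⟨i, _, hQ, (F.five_Q hfz hfo hfρ hQ).1 ?_, by group⟩
  exact ((show Commute y f from hyf).mul_left ((Commute.refl f).zpow_left i).inv_left).eq

theorem card_five_cent : Nat.card ↥(centralizer ({f} : Set G) ⊓ centralizer ({z} : Set G)) = 40 := by
  classical
  have hfc : f ∈ centralizer ({f} : Set G) := mem_cz.2 rfl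
  have h8 : Nat.card {q : G // q ∈ Q ∧ pr (v q) = 0} = 8 := by
    have h := F.setup.card_lifts (Finset.univ.filter fun x : Vec => pr x = 0)
    rw [zero_pr_count.1] at h
    refine Eq.trans (Nat.card_congr (Equiv.subtypeEquivRight fun q => ?_)) h
    simp
  have hmem : ∀ q : {q : G // q ∈ Q ∧ pr (v q) = 0}, q.1 ∈ centralizer ({f} : Set G) := fun q =>
    mem_cz.2 ((F.five_Q hfz hfo hfρ q.2.1).2 q.2.2)
  rw [show 40 = Nat.card ({q : G // q ∈ Q ∧ pr (v q) = 0} × zpowers f) by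
    rw [Nat.card_prod, h8, Nat.card_zpowers, hfo]]
  refine (Nat.card_eq_of_bijective (fun a : {q : G // q ∈ Q ∧ pr (v q) = 0} × zpowers f =>
    (⟨a.1.1 * a.2.1, Subgroup.mul_mem _ ⟨hmem a.1, F.setup.le a.1.2.1⟩
      ⟨zpowers_le.2 hfc a.2.2, zpowers_le.2 hfz a.2.2⟩⟩ :
      ↥(centralizer ({f} : Set G) ⊓ centralizer ({z} : Set G)))) ⟨?_, ?_⟩).symm
  · rintro ⟨⟨q, hq⟩, ⟨a, i, rfl⟩⟩ ⟨⟨q', hq'⟩, ⟨a', i', rfl⟩⟩ h
    replace h : q * f ^ i = q' * f ^ i' := congrArg Subtype.val h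
    have e : f ^ (i - i') = q⁻¹ * q' := by
      calc f ^ (i - i') = q⁻¹ * (q * f ^ i) * f ^ (-i') := by group
        _ = q⁻¹ * q' := by rw [h]; group
    have hQ : f ^ (i - i') ∈ Q := e ▸ mul_mem (inv_mem hq.1) hq'.1
    have h1 : f ^ (i - i') = 1 := by
      refine orderOf_eq_one_iff.1 (Nat.eq_one_of_dvd_coprimes (a := 5) (b := 128) (by norm_num)
        (hfo ▸ orderOf_dvd_of_pow_eq_one (n := orderOf f) ?_) ?_)
      · rw [← zpow_natCast, ← zpow_mul, mul_comm, zpow_mul, zpow_natCast, pow_orderOf_eq_one, one_zpow]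
      · rw [← F.setup.card, ← Subgroup.orderOf_mk _ hQ]
        exact orderOf_dvd_natCard _
    rw [h1, eq_comm, inv_mul_eq_one] at e
    subst e
    exact Prod.ext rfl (Subtype.ext (mul_left_cancel h))
  · rintro ⟨y, hy⟩
    obtain ⟨i, q, hq, hq0, rfl⟩ := F.five_cent hfz hfo hfρ hy.2 (mem_cz.1 hy.1)
    exact ⟨(⟨q, hq, hq0⟩, ⟨f ^ i, i, rfl⟩), rfl⟩

theorem five_full : ∀ y ∈ zpowers f, y ≠ 1 → ∃ c ∈ centralizer ({z} : Set G), c * f * c⁻¹ = y := by
  haveI : Fact (Nat.Prime 5) := ⟨by norm_num⟩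
  obtain ⟨h, hh, hsq⟩ := exists_squaring
  obtain ⟨a, ha, rfl⟩ := F.setup.ρ_surj h hh
  -- the preimage of the group generated by the image
  let H : Subgroup G :=
    { carrier := {y | y ∈ centralizer ({z} : Set G) ∧ ρ y ∈ zpowers (E (σ 1))}
      one_mem' := ⟨one_mem _, F.setup.ρ_one ▸ one_mem _⟩
      mul_mem' := fun {x y} hx hy => ⟨mul_mem hx.1 hy.1, by rw [F.setup.ρ_mul _ hx.1 _ hy.1]; exact mul_mem hx.2 hy.2⟩
      inv_mem' := fun {x} hx => ⟨inv_mem hx.1, by rw [F.setup.ρ_inv hx.1]; exact inv_mem hx.2⟩ }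
  have hfH : f ∈ H := ⟨hfz, hfρ ▸ mem_zpowers _⟩
  have hafH : a * f * a⁻¹ ∈ H := ⟨mul_mem (mul_mem ha hfz) (inv_mem ha), by
    rw [F.setup.ρ_mul _ (mul_mem ha hfz) _ (inv_mem ha), F.setup.ρ_mul _ ha _ hfz, F.setup.ρ_inv ha, hfρ, hsq]
    exact mul_mem (mem_zpowers _) (mem_zpowers _)⟩
  have hsqH : ¬ 5 ^ 2 ∣ Nat.card H := fun hd => by
    have h := hd.trans (card_dvd_of_le (show H ≤ centralizer ({z} : Set G) from fun x hx => hx.1))
    rw [F.setup.card_cz] at h
    norm_num at h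
  obtain ⟨b, hb, hbf⟩ := conj_zpowers_of_not_sq hsqH hfH hafH hfo (by
    rw [show a * f * a⁻¹ = MulAut.conj a f from rfl, MulEquiv.orderOf_eq, hfo])
  have hE1 : ∀ n : ℤ, ρ (f ^ n) = E (σ 1) ^ n := fun n => by
    rcases Int.eq_nat_or_neg n with ⟨m, rfl | rfl⟩
    · rw [zpow_natCast, zpow_natCast, F.setup.ρ_pow hfz, hfρ]
    · rw [zpow_neg, zpow_neg, zpow_natCast, zpow_natCast, F.setup.ρ_inv (pow_mem hfz m), F.setup.ρ_pow hfz, hfρ]
  set c := b * a with hc
  have hcz : c ∈ centralizer ({z} : Set G) := mul_mem hb.1 ha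
  obtain ⟨i, hi⟩ := hbf
  replace hi : f ^ i = c * f * c⁻¹ := by rw [show f ^ i = b * (a * f * a⁻¹) * b⁻¹ from hi, hc]; group
  have h2 : c * f * c⁻¹ = f ^ 2 := by
    obtain ⟨n, hn⟩ := hb.2
    replace hn : E (σ 1) ^ n = ρ b := hn
    have e : E (σ 1) ^ i = E (σ 1) ^ (2 : ℤ) := by
      rw [← hE1, hi, F.setup.ρ_mul _ (mul_mem hcz hfz) _ (inv_mem hcz), F.setup.ρ_mul _ hcz _ hfz,
        F.setup.ρ_inv hcz, hfρ, hc, F.setup.ρ_mul _ hb.1 _ ha,
        show ρ b * ρ a * E (σ 1) * (ρ b * ρ a)⁻¹ = ρ b * (ρ a * E (σ 1) * (ρ a)⁻¹) * (ρ b)⁻¹ by group, hsq, ← hn]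
      group
    have hE5 : orderOf (E (σ 1)) = 5 := by
      refine orderOf_eq_prime (by rw [← map_pow, show (5 : ℕ) = gord 1 from rfl, σ_pow, map_one]) fun e1 => ?_
      have h := congrArg (fun u => act u (vmk 0 0 m₁)) e1
      simp only [act_one, act_E, pr_vmk, xc_vmk, yc_vmk, act4_σ] at h
      exact (show vmk (0 : ZMod 2) 0 (σf 1 m₁) ≠ vmk 0 0 m₁ by decide +kernel) h
    have h5 := orderOf_dvd_sub_iff_zpow_eq_zpow.2 e
    rw [hE5, ← hfo, orderOf_dvd_sub_iff_zpow_eq_zpow] at h5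
    rw [← hi, h5]
    exact zpow_natCast f 2
  have hk : ∀ k : ℕ, c ^ k * f * (c ^ k)⁻¹ = f ^ (2 ^ k) := by
    intro k
    induction k with
    | zero => simp
    | succ k ih =>
      calc c ^ (k + 1) * f * (c ^ (k + 1))⁻¹ = c * (c ^ k * f * (c ^ k)⁻¹) * c⁻¹ := by rw [pow_succ']; group
        _ = f ^ (2 ^ (k + 1)) := by rw [ih, ← conj_pow, h2, ← pow_mul, pow_succ' 2 k]
  intro y hy hy1
  classical
  obtain ⟨n, hn, rfl⟩ := (Submonoid.mem_powers_iff _ _).1 (mem_powers_iff_mem_zpowers.2 hy)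
  have h4 : ∃ k : Fin 4, n % 5 = 2 ^ k.1 % 5 := by
    have hne : n % 5 ≠ 0 := fun e => hy1 (by rw [← pow_mod_orderOf, hfo, e, pow_zero])
    rcases (show n % 5 = 1 ∨ n % 5 = 2 ∨ n % 5 = 3 ∨ n % 5 = 4 by omega) with e | e | e | e
    exacts [⟨0, e⟩, ⟨1, e⟩, ⟨3, e⟩, ⟨2, e⟩]
  obtain ⟨k, hk'⟩ := h4
  refine ⟨c ^ k.1, pow_mem hcz _, ?_⟩
  rw [hk, ← pow_mod_orderOf f (2 ^ k.1), hfo, ← hk']
  exact (by rw [← hfo, pow_mod_orderOf] : f ^ (n % 5) = f ^ n)

theorem five_invol {j : G} (hj : j ∈ centralizer ({f} : Set G)) (hjo : orderOf j = 2) : IsConj z j := by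
  haveI : Fact (Nat.Prime 2) := ⟨Nat.prime_two⟩
  set X := centralizer ({f} : Set G)
  set D := Q.subgroupOf X
  have hQp : IsPGroup 2 Q := IsPGroup.of_card (n := 7) F.setup.card
  have hDp : IsPGroup 2 D := hQp.comap_of_injective X.subtype X.subtype_injective
  have hidx : ¬ 2 ∣ D.index := by
    refine not_dvd_index_of_normalizer hDp ?_
    rintro ⟨y, hyX⟩ hyN ⟨k, hk⟩
    replace hk : y ^ 2 ^ k = 1 := congrArg Subtype.val hk
    obtain ⟨u, hu, huv⟩ := F.setup.v_surj (w0 + f0)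
    have huX : u ∈ X := mem_cz.2 ((F.five_Q hfz hfo hfρ hu).2 (by rw [huv, pr_add, pr_w0, pr_f0, add_zero]))
    have huu : u * u = z := (F.setup.core.sq_eq u hu).resolve_left fun e => by
      have := (F.setup.v_sq u hu).2 e
      rw [huv, qf_w0f0] at this
      exact one_ne_zero this
    have hyu : y * u * y⁻¹ ∈ Q := mem_subgroupOf.1 ((mem_normalizer_iff.1 hyN ⟨u, huX⟩).1 (mem_subgroupOf.2 hu))
    have hyz : y ∈ centralizer ({z} : Set G) := by
      refine mem_cz.2 (conj_eq_iff_comm.1 ?_)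
      have e : y * u * y⁻¹ * (y * u * y⁻¹) = y * z * y⁻¹ := by rw [← huu]; group
      rcases F.setup.core.sq_eq _ hyu with e' | e' <;> rw [e] at e'
      · exact absurd (conj_eq_one_iff.1 e') F.setup.z_ne
      · exact e'
    obtain ⟨i, q, hq, hq0, rfl⟩ := F.five_cent hfz hfo hfρ hyz (mem_cz.1 hyX)
    have hcq : Commute q (f ^ i) := ((show Commute q f from (F.five_Q hfz hfo hfρ hq).2 hq0)).zpow_right i
    have h2 : (f ^ i) ^ 2 ^ (k + 7) = 1 := by
      have hq2 : q ^ 2 ^ (k + 7) = 1 := by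
        rw [pow_add, mul_comm, pow_mul, show q ^ 2 ^ 7 = 1 from
          orderOf_dvd_iff_pow_eq_one.1 (by
            rw [show (2 : ℕ) ^ 7 = Nat.card Q from F.setup.card.symm, ← Subgroup.orderOf_mk q hq]
            exact orderOf_dvd_natCard _), one_pow]
      have hyy : (q * f ^ i) ^ 2 ^ (k + 7) = 1 := by rw [pow_add, pow_mul, hk, one_pow]
      rwa [hcq.mul_pow, hq2, one_mul] at hyy
    have hi1 : f ^ i = 1 := by
      refine orderOf_eq_one_iff.1 (Nat.eq_one_of_dvd_coprimes (Nat.Coprime.pow_right (k + 7) (by norm_num : Nat.Coprime 5 2))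
        (hfo ▸ orderOf_dvd_of_pow_eq_one (n := orderOf f) ?_) (orderOf_dvd_of_pow_eq_one h2))
      rw [← zpow_natCast, ← zpow_mul, mul_comm, zpow_mul, zpow_natCast, pow_orderOf_eq_one, one_zpow]
    exact mem_subgroupOf.2 (show q * f ^ i ∈ Q by rw [hi1, mul_one]; exact hq)
  obtain ⟨k, hk⟩ := exists_conj_le_sylow (p := 2) (Q := zpowers (⟨j, hj⟩ : X))
    (IsPGroup.of_card (n := 1) (by rw [Nat.card_zpowers, orderOf_mk, hjo, pow_one])) (hDp.toSylow hidx)
  have hQ : (k : G) * j * (k : G)⁻¹ ∈ Q :=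
    mem_subgroupOf.1 (show k * ⟨j, hj⟩ * k⁻¹ ∈ D from hk _ (mem_zpowers _))
  have ho := invol_conj hjo (k : G)
  exact (F.class_of_mem_Q hQ (invol_mul_self ho) (invol_ne_one ho)).trans
    (isConj_iff.2 ⟨(k : G), rfl⟩).symm

theorem five_fused {j : G} (hj : j ∈ centralizer ({f} : Set G)) (hjo : orderOf j = 2) :
    ∃ c ∈ centralizer ({f} : Set G), c * z * c⁻¹ = j := by
  haveI : Fact (Nat.Prime 5) := ⟨by norm_num⟩
  exact fuse_cent (by rw [F.setup.card_cz]; norm_num) hfz hfo (F.five_full hfz hfo hfρ)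
    (F.five_invol hfz hfo hfρ hj hjo) (mem_cz.1 hj)

/-- The complement has dihedral involution centralizers of order eight. -/
theorem five_compl {H : Subgroup G} (hC : Compl f 5 H) (h5 : 5 ∣ Nat.card H) :
    ∃ hz : z ∈ H, SelfCount.Hyp (⟨z, hz⟩ : H) 3 ∧ Nat.card H = 360 ∧
      (∃ A : Subgroup H, SelfCount.IsTor A ∧ Nat.card A = 5) ∧
      ∀ A : Subgroup H, SelfCount.IsTor A → Nat.card A = 5 → A.relIndex (normalizer (A : Set H)) = 2 := by
  classical
  haveI : Fact (Nat.Prime 5) := ⟨by norm_num⟩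
  haveI := Fintype.ofFinite H
  have hzH : z ∈ H := hC.invol_mem (by norm_num) (mem_cz.2 (mem_cz.1 hfz).symm) F.setup.zz
  set i : H := ⟨z, hzH⟩
  have hyp : SelfCount.Hyp i 3 := hC.hyp hzH F.setup.core.ord (fun j hj hjo => F.five_fused hfz hfo hfρ hj hjo)
    (by rw [F.card_five_cent hfz hfo hfρ]; norm_num)
  have hmemH : ∀ q ∈ Q, pr (v q) = 0 → q ∈ H := fun q hq h0 => by
    refine hC.mem q (mem_cz.2 ((F.five_Q hfz hfo hfρ hq).2 h0)) 4 ?_ (by norm_num)
    rw [show (4 : ℕ) = 2 * 2 from rfl, pow_mul, pow_two q]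
    rcases F.setup.core.sq_eq _ hq with e | e <;> rw [e]
    · exact one_pow 2
    · rw [pow_two, F.setup.zz]
  have hD : ∀ y : H, y * i = i * y → (y : G) ∈ Q ∧ pr (v (y : G)) = 0 := by
    intro y hy
    obtain ⟨n, q, hq, hq0, e⟩ := F.five_cent hfz hfo hfρ (mem_cz.2 (congrArg Subtype.val hy)) (mem_cz.1 (hC.le y.2))
    have hn : f ^ n ∈ H := by
      have h := H.mul_mem (H.inv_mem (hmemH q hq hq0)) y.2
      rwa [e, inv_mul_cancel_left] at h
    rw [e, hC.inter n hn, mul_one]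
    exact ⟨hq, hq0⟩
  have hz' : ∀ q ∈ Q, ∀ hq : q ∈ H, (⟨q, hq⟩ : H) * i = i * ⟨q, hq⟩ := fun q hqQ hq =>
    Subtype.ext (F.setup.cz hqQ)
  have hexp : ∀ y : H, y * i = i * y → y ^ 4 = 1 := fun y hy => by
    refine Subtype.ext ?_
    rw [SubmonoidClass.coe_pow, show (4 : ℕ) = 2 * 2 from rfl, pow_mul, pow_two (y : G)]
    rcases F.setup.core.sq_eq _ (hD y hy).1 with e | e <;> rw [e]
    · exact one_pow 2
    · rw [pow_two, F.setup.zz]; rfl
  have hwo : ∀ y : H, orderOf y = 2 → y * i = i * y → y ≠ i → v (y : G) = w0 ∨ v (y : G) = f0 := by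
    intro y hy hyi hne
    obtain ⟨hQ, h0⟩ := hD y hyi
    refine qf_zero_pr _ h0 ((F.setup.v_sq _ hQ).2 (congrArg Subtype.val (invol_mul_self hy))) fun e => ?_
    rcases (F.setup.v_ker _ hQ).1 e with e | e
    · exact invol_ne_one hy (Subtype.ext e)
    · exact hne (Subtype.ext e)
  have hk : ∀ y s : H, orderOf y = 2 → y * i = i * y → s * i = i * s → y * s ≠ s * y →
      Nat.card {u : H // u * i = i * u ∧ u * u = 1 ∧ y * u * (y * u) = i} = 2 := by
    intro y s hy hyi hsi hne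
    have hy0 := hwo y hy hyi fun e => hne (by rw [e]; exact hsi.symm)
    set a := v (y : G)
    have h2 := F.setup.card_lifts {a + (w0 + f0)}
    rw [Finset.card_singleton, mul_one] at h2
    obtain ⟨hyQ, hy1⟩ := hD y hyi
    have hiff : ∀ u : G, u ∈ Q → pr (v u) = 0 → ((u * u = 1 ∧ (y : G) * u * ((y : G) * u) = z) ↔ v u = a + (w0 + f0)) := by
      intro u hu hu0
      rw [← qf_pair a (v u) hy0 hu0, ← F.setup.v_sq u hu]
      refine and_congr_right fun _ => ?_
      rw [← F.setup.v_mul _ hyQ u hu]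
      have hm := mul_mem hyQ hu
      constructor
      · intro e
        rcases two_cases (qf (v ((y : G) * u))) with h | h
        · exact absurd (((F.setup.v_sq _ hm).1 h).symm.trans e) F.setup.z_ne.symm
        · exact h
      · intro h
        refine (F.setup.core.sq_eq _ hm).resolve_left fun e => ?_
        rw [(F.setup.v_sq _ hm).2 e] at h
        exact zero_ne_one h
    refine Eq.trans (Nat.card_congr
      { toFun := fun u => (⟨(u.1 : G), (hD u.1 u.2.1).1, Finset.mem_singleton.2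
          ((hiff _ (hD u.1 u.2.1).1 (hD u.1 u.2.1).2).1 ⟨congrArg Subtype.val u.2.2.1, congrArg Subtype.val u.2.2.2⟩)⟩ :
          {b : G // b ∈ Q ∧ v b ∈ ({a + (w0 + f0)} : Finset Vec)})
        invFun := fun b =>
          have h0 : pr (v b.1) = 0 := by rw [Finset.mem_singleton.1 b.2.2]; exact (pr_pair a hy0).2
          ⟨⟨b.1, hmemH _ b.2.1 h0⟩, hz' _ b.2.1 _,
            Subtype.ext ((hiff _ b.2.1 h0).2 (Finset.mem_singleton.1 b.2.2)).1,
            Subtype.ext ((hiff _ b.2.1 h0).2 (Finset.mem_singleton.1 b.2.2)).2⟩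
        left_inv := fun _ => rfl
        right_inv := fun _ => rfl }) h2
  have hpr2 : ∀ x ∈ ({w0, f0} : Finset Vec), pr x = 0 ∧ qf x = 0 ∧ x ≠ 0 := by decide +kernel
  have hnc : Nat.card {y : H // orderOf y = 2 ∧ y * i = i * y ∧ ∃ s : H, s * i = i * s ∧ y * s ≠ s * y} = 4 := by
    have h4 := F.setup.card_lifts {w0, f0}
    rw [zero_pr_count.2.2] at h4
    refine Eq.trans (Nat.card_congr
      { toFun := fun y => (⟨(y.1 : G), (hD y.1 y.2.2.1).1, by
          obtain ⟨hyo, hyi, s, hsi, hne⟩ := y.2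
          rcases hwo y.1 hyo hyi fun e => hne (by rw [e]; exact hsi.symm) with e | e <;> simp [e]⟩ :
          {b : G // b ∈ Q ∧ v b ∈ ({w0, f0} : Finset Vec)})
        invFun := fun b =>
          have hb := hpr2 _ b.2.2
          have hab : v b.1 = w0 ∨ v b.1 = f0 := by simpa using b.2.2
          ⟨⟨b.1, hmemH _ b.2.1 hb.1⟩, invol_iff.2 ⟨Subtype.ext ((F.setup.v_sq _ b.2.1).1 hb.2.1),
              fun e => hb.2.2 (by rw [show b.1 = 1 from congrArg Subtype.val e, F.setup.v_one])⟩,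
            hz' _ b.2.1 _, by
              obtain ⟨c, hc, hcv⟩ := F.setup.v_surj (v b.1 + (w0 + f0))
              have hc0 : pr (v c) = 0 := by rw [hcv]; exact (pr_pair _ hab).2
              refine ⟨⟨c, hmemH c hc hc0⟩, hz' c hc _, fun e => ?_⟩
              have h := (F.setup.v_comm _ b.2.1 _ hc).2 (congrArg Subtype.val e)
              rw [hcv] at h
              exact one_ne_zero ((partner _ hab).symm.trans h)⟩
        left_inv := fun _ => rfl
        right_inv := fun _ => rfl }) h4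
  have hcm : Nat.card {y : H // orderOf y = 2 ∧ y * i = i * y} = 5 := by
    have h6 := F.setup.card_lifts {0, w0, f0}
    rw [zero_pr_count.2.1] at h6
    haveI := Fintype.ofFinite G
    let e : {y : H // orderOf y = 2 ∧ y * i = i * y} ≃
        {b : {b : G // b ∈ Q ∧ v b ∈ ({0, w0, f0} : Finset Vec)} //
          ¬ b = ⟨1, one_mem _, by simp [F.setup.v_one]⟩} :=
      { toFun := fun y => ⟨⟨(y.1 : G), (hD y.1 y.2.2).1, by
          by_cases hyi : y.1 = i
          · rw [show (y.1 : G) = z from congrArg Subtype.val hyi, F.setup.v_z]; simp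
          · rcases hwo y.1 y.2.1 y.2.2 hyi with e | e <;> simp [e]⟩,
          fun e => invol_ne_one y.2.1 (Subtype.ext (congrArg Subtype.val e :))⟩
        invFun := fun b =>
          have hb : pr (v b.1.1) = 0 ∧ qf (v b.1.1) = 0 := by
            have := b.1.2.2
            revert this
            generalize v b.1.1 = x
            revert x
            decide +kernel
          ⟨⟨b.1.1, hmemH _ b.1.2.1 hb.1⟩, invol_iff.2 ⟨Subtype.ext ((F.setup.v_sq _ b.1.2.1).1 hb.2),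
            fun e => b.2 (Subtype.ext (congrArg Subtype.val e :))⟩, hz' _ b.1.2.1 _⟩
        left_inv := fun _ => rfl
        right_inv := fun _ => rfl }
    rw [Nat.card_congr e, Nat.card_eq_fintype_card, Fintype.card_subtype_compl, Fintype.card_subtype_eq,
      ← Nat.card_eq_fintype_card, h6]
  obtain ⟨M, e, m, hA, hex, hall⟩ := hyp.exists_arith (c := 13) (by rw [hyp.card_even hexp hk, hcm, hnc])
  have hn := hyp.card_group
  have h5n : 5 ∣ Nat.card {y : H // orderOf y = 2} := by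
    rw [← hn] at h5
    exact (show Nat.Coprime 5 (2 ^ 3) by norm_num).dvd_of_dvd_mul_right h5
  obtain ⟨hn45, hM, he5, -⟩ := SelfCount.arith_three hA h5n (fun a ha => by
    obtain ⟨A, hA1, -, hA3⟩ := hex a ha
    rw [← hA3]
    refine hyp.relIndex_le hA1 fun S hS huniq => ?_
    have hd := card_dvd_of_le hS
    rw [hyp.card] at hd
    obtain ⟨k, hk3, hSk⟩ := (Nat.dvd_prime_pow Nat.prime_two).1 hd
    rw [hSk]
    interval_cases k <;> norm_num
    exfalso
    have hSeq := eq_of_le_of_card_ge hS (by rw [hyp.card, hSk])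
    obtain ⟨b, hb, hbv⟩ := F.setup.v_surj f0
    have hbH := hmemH b hb (by rw [hbv]; exact pr_f0)
    have e := huniq ⟨b, hbH⟩ (hSeq ▸ mem_cz.2 (hz' b hb hbH)) (invol_iff.2
      ⟨Subtype.ext ((F.setup.v_sq b hb).1 (by rw [hbv]; exact qf_f0)),
        fun e => f0_ne (by rw [← hbv, show b = 1 from congrArg Subtype.val e, F.setup.v_one])⟩)
    exact f0_ne (by rw [← hbv, show b = z from congrArg Subtype.val e, F.setup.v_z]))
  refine ⟨hzH, hyp, by rw [← hn, hn45]; rfl, ?_, fun A hA1 hA5 => ?_⟩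
  · obtain ⟨A, hA1, hA2, -⟩ := hex 5 (by rw [hM]; decide)
    exact ⟨A, hA1, hA2⟩
  · rw [(hall A hA1).2, hA5, he5]

end Pt

end

end CfsgLib.Spor.SuzType
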