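import Cfsg.Agent.Lib.Invol.SelfCountLocal
import Cfsg.Agent.Lib.Invol.RetractTransfer
import Cfsg.Agent.Lib.Spor.SuzType.Automizer

/-!
# Centralizers and normalizers of elements of prime order
-/

set_option autoImplicit false
set_option synthInstance.maxSize 4096

namespace CfsgLib.Spor.SuzType

open Subgroup CfsgLib.Invol

noncomputable section

variable {G : Type*} [Group G] [Finite G]

/-- An involution centralizing an element of prime order is fused in the centralizer of that element. -/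
theorem fuse_cent {p : ℕ} [hp : Fact p.Prime] {i i' x : G}
    (hsq : ¬ p ^ 2 ∣ Nat.card (centralizer ({i} : Set G))) (hxi : x ∈ centralizer ({i} : Set G)) (hx : orderOf x = p)
    (hfull : ∀ y ∈ zpowers x, y ≠ 1 → ∃ c ∈ centralizer ({i} : Set G), c * x * c⁻¹ = y)
    (hc : IsConj i i') (hi' : i' * x = x * i') :
    ∃ g ∈ centralizer ({x} : Set G), g * i * g⁻¹ = i' := by
  obtain ⟨g, rfl⟩ := isConj_iff.1 hc
  have hy : g⁻¹ * x * g ∈ centralizer ({i} : Set G) := by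
    refine mem_cz.2 ?_
    calc g⁻¹ * x * g * i = g⁻¹ * (x * (g * i * g⁻¹)) * g := by group
      _ = g⁻¹ * (g * i * g⁻¹ * x) * g := by rw [← hi']
      _ = i * (g⁻¹ * x * g) := by group
  have hyo : orderOf (g⁻¹ * x * g) = p := by
    rw [show g⁻¹ * x * g = MulAut.conj g⁻¹ x by simp [MulAut.conj_apply], MulEquiv.orderOf_eq, hx]
  obtain ⟨c, hcm, hcy⟩ := conj_zpowers_of_not_sq hsq hxi hy hx hyo
  obtain ⟨d, hd, hdy⟩ := hfull _ hcy (fun e => by
    rw [conj_eq_one_iff] at e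
    rw [e, orderOf_one] at hyo
    exact hp.out.ne_one hyo.symm)
  refine ⟨g * c⁻¹ * d, mem_cz.2 (conj_eq_iff_comm.1 ?_), ?_⟩
  · rw [show g * c⁻¹ * d * x * (g * c⁻¹ * d)⁻¹ = g * c⁻¹ * (d * x * d⁻¹) * c * g⁻¹ by group, hdy]
    group
  · rw [show g * c⁻¹ * d * i * (g * c⁻¹ * d)⁻¹ = g * c⁻¹ * (d * i * d⁻¹) * c * g⁻¹ by group,
      conj_eq_iff_comm.2 (mem_cz.1 hd),
      show g * c⁻¹ * i * c * g⁻¹ = g * (c⁻¹ * i * c⁻¹⁻¹) * g⁻¹ by group,
      conj_eq_iff_comm.2 (mem_cz.1 (inv_mem hcm))]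

/-- A subgroup transitive on the generators of a subgroup of prime order which it normalises. -/
theorem card_of_full {p : ℕ} [hp : Fact p.Prime] {x : G} (hx : orderOf x = p) {N : Subgroup G}
    (hN : ∀ n ∈ N, n * x * n⁻¹ ∈ zpowers x) (hfull : ∀ y ∈ zpowers x, y ≠ 1 → ∃ n ∈ N, n * x * n⁻¹ = y) :
    Nat.card N = (p - 1) * Nat.card ↥(N ⊓ centralizer ({x} : Set G)) := by
  classical
  haveI := Fintype.ofFinite G
  rw [← card_orbit_mul N x]
  congr 1
  have hx1 : x ≠ 1 := fun e => hp.out.ne_one (by rw [← hx, e, orderOf_one])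
  have e : {y : G // ∃ n ∈ N, n * x * n⁻¹ = y} ≃ {y : zpowers x // ¬ y = 1} :=
    { toFun := fun a => ⟨⟨a.1, by obtain ⟨n, hn, e⟩ := a.2; exact e ▸ hN n hn⟩, fun h => by
        obtain ⟨n, hn, e⟩ := a.2
        exact hx1 (conj_eq_one_iff.1 (e.trans (congrArg Subtype.val h)))⟩
      invFun := fun a => ⟨a.1.1, hfull _ a.1.2 fun e => a.2 (Subtype.ext e)⟩
      left_inv := fun _ => rfl
      right_inv := fun _ => rfl }
  rw [Nat.card_congr e, Nat.card_eq_fintype_card, Fintype.card_subtype_compl, Fintype.card_subtype_eq,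
    ← Nat.card_eq_fintype_card, Nat.card_zpowers, hx]

/-- The normalizer when all generators are conjugate. -/
theorem card_normalizer_of_full {p : ℕ} [hp : Fact p.Prime] {x : G} (hx : orderOf x = p)
    (hfull : ∀ y ∈ zpowers x, y ≠ 1 → ∃ n : G, n * x * n⁻¹ = y) :
    Nat.card (normalizer (zpowers x : Set G)) = (p - 1) * Nat.card (centralizer ({x} : Set G)) := by
  rw [card_of_full hx (fun n hn => mem_normalizer_zpowers.1 hn) fun y hy hy1 => by
    obtain ⟨n, hn⟩ := hfull y hy hy1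
    exact ⟨n, mem_normalizer_zpowers.2 (hn ▸ hy), hn⟩]
  congr 1
  exact Nat.card_congr (Equiv.subtypeEquivRight fun y => ⟨fun h => h.2,
    fun h => ⟨mem_normalizer_zpowers.2 (by rw [conj_eq_iff_comm.2 (mem_cz.1 h)]; exact mem_zpowers x), h⟩⟩)

/-- The element is central in `centralizer {x}` and has a complement there. -/
structure Compl (x : G) (p : ℕ) (H : Subgroup G) : Prop where
  prime : p.Prime
  ord : orderOf x = p
  le : H ≤ centralizer ({x} : Set G)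
  norm : ∀ g ∈ centralizer ({x} : Set G), ∀ h ∈ H, g * h * g⁻¹ ∈ H
  split : ∀ y ∈ centralizer ({x} : Set G), ∃ i : ℤ, ∃ h ∈ H, y = x ^ i * h
  inter : ∀ i : ℤ, x ^ i ∈ H → x ^ i = 1
  mem : ∀ y ∈ centralizer ({x} : Set G), ∀ m : ℕ, y ^ m = 1 → p.Coprime m → y ∈ H

/-- A complement exists when a Sylow subgroup retracts onto the element. -/
theorem exists_compl {p : ℕ} [hp : Fact p.Prime] {x : G} (hx : orderOf x = p) {T : Subgroup G}
    (hT : T ≤ centralizer ({x} : Set G)) (hxT : x ∈ T) (φ : T →* zpowers x)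
    (hφ : φ ⟨x, hxT⟩ = ⟨x, mem_zpowers x⟩)
    (hidx : ¬ p ∣ (T.subgroupOf (centralizer ({x} : Set G))).index) :
    ∃ H : Subgroup G, Compl x p H := by
  set X := centralizer ({x} : Set G)
  haveI : IsMulCommutative (zpowers x) := inferInstance
  let _ : CommGroup (zpowers x) := { (inferInstance : Group (zpowers x)) with mul_comm := fun a b => mul_comm' a b }
  have hxX : x ∈ X := mem_cz.2 rfl
  obtain ⟨Φ, hΦ⟩ := exists_retract (G := X) (T := T.subgroupOf X)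
    (φ.comp (subgroupOfEquivOfLe hT).toMonoidHom)
    (by rw [Nat.card_zpowers, hx]; exact hp.out.coprime_iff_not_dvd.2 hidx)
  have hΦx : Φ ⟨x, hxX⟩ = ⟨x, mem_zpowers x⟩ := by
    rw [hΦ ⟨x, hxX⟩ (mem_subgroupOf.2 hxT) fun g => Subtype.ext (mem_cz.1 g.2)]
    exact hφ
  have hΦi : ∀ i : ℤ, ((Φ (⟨x, hxX⟩ ^ i) : zpowers x) : G) = x ^ i := fun i => by
    rw [map_zpow, hΦx, SubgroupClass.coe_zpow]
  refine ⟨Φ.ker.map X.subtype, ⟨hp.out, hx, map_subtype_le _, ?_, ?_, ?_, ?_⟩⟩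
  · rintro g hg _ ⟨h, hh, rfl⟩
    exact ⟨⟨g, hg⟩ * h * ⟨g, hg⟩⁻¹, (inferInstance : Φ.ker.Normal).conj_mem _ hh _, rfl⟩
  · intro y hy
    obtain ⟨i, hi⟩ := (Φ ⟨y, hy⟩).2
    refine ⟨i, (x ^ i)⁻¹ * y, ⟨(⟨x, hxX⟩ ^ i)⁻¹ * ⟨y, hy⟩, ?_, rfl⟩, by group⟩
    show Φ _ = 1
    rw [map_mul, map_inv, inv_mul_eq_one]
    exact Subtype.ext ((hΦi i).trans hi)
  · rintro i ⟨h, hh, he⟩
    have e : h = ⟨x, hxX⟩ ^ i := Subtype.ext (he.trans (SubgroupClass.coe_zpow (⟨x, hxX⟩ : X) i).symm)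
    rw [← hΦi i, ← e, show Φ h = 1 from hh, OneMemClass.coe_one]
  · intro y hy m hm hpm
    refine ⟨⟨y, hy⟩, ?_, rfl⟩
    show Φ ⟨y, hy⟩ = 1
    have h1 : orderOf (Φ ⟨y, hy⟩) ∣ p := by
      have := orderOf_dvd_natCard (Φ ⟨y, hy⟩)
      rwa [Nat.card_zpowers, hx] at this
    have h2 : orderOf (Φ ⟨y, hy⟩) ∣ m := orderOf_dvd_of_pow_eq_one (by
      rw [← map_pow, show (⟨y, hy⟩ : X) ^ m = 1 from Subtype.ext hm, map_one])
    exact orderOf_eq_one_iff.1 (Nat.eq_one_of_dvd_coprimes hpm h1 h2)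

theorem card_cent_sub {H : Subgroup G} (i : H) :
    Nat.card (centralizer ({i} : Set H)) = Nat.card ↥(H ⊓ centralizer ({(i : G)} : Set G)) :=
  Nat.card_congr
    { toFun := fun a => ⟨a.1.1, a.1.2, mem_cz.2 (congrArg Subtype.val (mem_cz.1 a.2))⟩
      invFun := fun a => ⟨⟨a.1, a.2.1⟩, mem_cz.2 (Subtype.ext (mem_cz.1 a.2.2))⟩
      left_inv := fun _ => rfl
      right_inv := fun _ => rfl }

namespace Compl

variable {x : G} {p : ℕ} {H : Subgroup G}

theorem self_mem (_hC : Compl x p H) : x ∈ centralizer ({x} : Set G) := mem_cz.2 rfl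

theorem card_split (hC : Compl x p H) {A : Subgroup G} (hA : A ≤ centralizer ({x} : Set G)) (hxA : x ∈ A) :
    Nat.card A = p * Nat.card ↥(A ⊓ H) := by
  rw [← hC.ord, ← Nat.card_zpowers, ← Nat.card_prod]
  refine (Nat.card_eq_of_bijective (fun q : zpowers x × ↥(A ⊓ H) =>
    (⟨q.1.1 * q.2.1, mul_mem (zpowers_le.2 hxA q.1.2) q.2.2.1⟩ : A)) ⟨?_, ?_⟩).symm
  · rintro ⟨⟨a, i, rfl⟩, b, hb⟩ ⟨⟨a', i', rfl⟩, b', hb'⟩ h
    replace h : x ^ i * b = x ^ i' * b' := congrArg Subtype.val h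
    have e : x ^ (i - i') = b' * b⁻¹ := by
      calc x ^ (i - i') = x ^ (-i') * (x ^ i * b) * b⁻¹ := by group
        _ = b' * b⁻¹ := by rw [h]; group
    have h1 := hC.inter _ (e ▸ H.mul_mem hb'.2 (H.inv_mem hb.2))
    have e2 : x ^ i = x ^ i' := by
      calc x ^ i = x ^ i' * x ^ (i - i') := by group
        _ = x ^ i' := by rw [h1, mul_one]
    rw [e2] at h
    obtain rfl := mul_left_cancel h
    exact Prod.ext (Subtype.ext e2) rfl
  · rintro ⟨y, hy⟩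
    obtain ⟨i, h, hh, rfl⟩ := hC.split y (hA hy)
    refine ⟨⟨⟨x ^ i, i, rfl⟩, ⟨h, ?_, hh⟩⟩, rfl⟩
    have h2 : (x ^ i)⁻¹ * (x ^ i * h) ∈ A := Subgroup.mul_mem _ (Subgroup.inv_mem _ (Subgroup.zpow_mem _ hxA i)) hy
    rwa [inv_mul_cancel_left] at h2

theorem card_cent (hC : Compl x p H) : Nat.card (centralizer ({x} : Set G)) = p * Nat.card H := by
  rw [hC.card_split le_rfl hC.self_mem]
  congr 1
  exact Nat.card_congr (Equiv.subtypeEquivRight fun y => ⟨fun h => h.2, fun h => ⟨hC.le h, h⟩⟩)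

theorem invol_mem (hC : Compl x p H) (h2 : p ≠ 2) {j : G} (hj : j ∈ centralizer ({x} : Set G)) (hj2 : j * j = 1) :
    j ∈ H :=
  hC.mem j hj 2 (by rw [pow_two, hj2]) ((Nat.coprime_primes hC.prime Nat.prime_two).2 h2)

/-- The count applies to the complement. -/
theorem hyp (hC : Compl x p H) {i : G} (hi : i ∈ H) (hio : orderOf i = 2) {s : ℕ}
    (hall : ∀ j ∈ centralizer ({x} : Set G), orderOf j = 2 → ∃ g ∈ centralizer ({x} : Set G), g * i * g⁻¹ = j)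
    (hcard : Nat.card ↥(centralizer ({x} : Set G) ⊓ centralizer ({i} : Set G)) = p * 2 ^ s) :
    SelfCount.Hyp (⟨i, hi⟩ : H) s := by
  refine ⟨by rw [orderOf_mk, hio], fun j hj => ?_, ?_⟩
  · obtain ⟨g, hg, e⟩ := hall j (hC.le j.2) (by rw [Subgroup.orderOf_coe, hj])
    obtain ⟨k, h, hh, rfl⟩ := hC.split g hg
    refine isConj_iff.2 ⟨⟨h, hh⟩, Subtype.ext ?_⟩
    show h * i * h⁻¹ = j
    have hc : Commute x (h * i * h⁻¹) := (mem_cz.1 (hC.le (mul_mem (mul_mem hh hi) (inv_mem hh)))).symm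
    rw [← e, show x ^ k * h * i * (x ^ k * h)⁻¹ = x ^ k * (h * i * h⁻¹) * (x ^ k)⁻¹ by group]
    exact (conj_eq_iff_comm.2 (hc.zpow_left k).eq).symm
  · rw [card_cent_sub]
    refine Nat.eq_of_mul_eq_mul_left hC.prime.pos ?_
    rw [← hcard, hC.card_split (A := centralizer ({x} : Set G) ⊓ centralizer ({i} : Set G)) inf_le_left
      ⟨hC.self_mem, mem_cz.2 (mem_cz.1 (hC.le hi)).symm⟩]
    congr 1
    exact Nat.card_congr (Equiv.subtypeEquivRight fun y =>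
      ⟨fun h => ⟨⟨hC.le h.1, h.2⟩, h.1⟩, fun h => ⟨h.2, h.1.2⟩⟩)

end Compl

end

end CfsgLib.Spor.SuzType
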