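import Cfsg.Agent.Lib.Spor.SuzType.Order
import Cfsg.Agent.Lib.Spor.SuzType.PrimeLocal

/-!
# An element of order five in the centralizer of the centre
-/

set_option autoImplicit false
set_option synthInstance.maxSize 4096

namespace CfsgLib.Spor.SuzType

open Subgroup Matrix CfsgLib.Spor.CoOneType CfsgLib.Invol CfsgLib.Perm.Trans.Quad

noncomputable section

theorem five_perp : ∀ u : W4, σf 1 u = u → u = 0 := by decide +kernel

theorem five_orbit : ∀ u : W4, q4 u = 0 → u ≠ 0 → ∃ i : Fin 5, wf (List.replicate i.1 1) m₁ = u := by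
  decide +kernel

theorem five_span : ∀ u : W4, ∃ s : Fin 4 → ZMod 2,
    u = ∑ i : Fin 4, s i • wf (List.replicate i.1 1) m₁ := by decide +kernel

theorem fix_zero_vecs : ∀ x : Vec, pr x = 0 → x = 0 ∨ x = w0 ∨ x = f0 ∨ x = w0 + f0 := by decide +kernel

theorem qf_w0f0 : qf (w0 + f0) = 1 := by decide +kernel

/-- A reflection is outside the simple subgroup. -/
theorem refl_notMem {e : Vec} (he : qf e = 1) {s : Iso6} (hs : IsReflAct e s) : s ∉ Om := by
  intro hmem
  obtain ⟨g, -, hge⟩ := SuzType.move_value he (show qf (vmk 0 0 c₀) = 1 by decide +kernel)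
  refine r₄_notMem ?_
  have h : E r₄ = g * s * g⁻¹ := iso_ext fun x => by rw [E_r₄_refl x, isReflAct_of_conj hs x, hge]
  rw [h]
  exact (inferInstance : Om.Normal).conj_mem _ hmem g

/-- The exchange of the two fixed points, as a linear map. -/
def swLin : Vec →ₗ[ZMod 2] Vec :=
  AddMonoidHom.toZModLinearMap 2 (AddMonoidHom.mk' (fun v => vmk (yc v) (xc v) (pr v)) fun v w => by
    rw [vmk_add]; rfl)

theorem swLin_sq : ∀ x : Vec, vmk (yc (vmk (yc x) (xc x) (pr x))) (xc (vmk (yc x) (xc x) (pr x)))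
    (pr (vmk (yc x) (xc x) (pr x))) = x := by decide +kernel

theorem swLin_q : ∀ x : Vec, qf (vmk (yc x) (xc x) (pr x)) = qf x := by decide +kernel

theorem swLin_refl : ∀ x : Vec, vmk (yc x) (xc x) (pr x) = x + pl x (w0 + f0) • (w0 + f0) := by decide +kernel

/-- The exchange of the two fixed points. -/
def sw : Iso6 :=
  ⟨⟨LinearMap.toMatrix' swLin, LinearMap.toMatrix' swLin,
    by rw [← LinearMap.toMatrix'_comp, show swLin.comp swLin = LinearMap.id from LinearMap.ext swLin_sq,
      LinearMap.toMatrix'_id],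
    by rw [← LinearMap.toMatrix'_comp, show swLin.comp swLin = LinearMap.id from LinearMap.ext swLin_sq,
      LinearMap.toMatrix'_id]⟩,
    mem_iso.2 fun x => by
      show qf (LinearMap.toMatrix' swLin *ᵥ x) = qf x
      rw [LinearMap.toMatrix'_mulVec]
      exact swLin_q x⟩

theorem act_sw (x : Vec) : act sw x = vmk (yc x) (xc x) (pr x) := LinearMap.toMatrix'_mulVec swLin x

theorem sw_refl : IsReflAct (w0 + f0) sw := fun x => by rw [act_sw]; exact swLin_refl x

theorem sw_notMem : sw ∉ Om := refl_notMem qf_w0f0 sw_refl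

theorem sw_comm_E (h : Iso4) : sw * E h = E h * sw :=
  iso_ext fun x => by rw [act_mul, act_mul, act_sw, act_E, act_sw, act_E, xc_vmk, yc_vmk, pr_vmk, xc_vmk, yc_vmk, pr_vmk]

/-- A matrix squaring the generator of order five. -/
def sdat : Fin 4 → Fin 4 → ZMod 2 := ![![0, 1, 0, 0], ![1, 1, 1, 0], ![0, 1, 0, 1], ![0, 1, 1, 1]]

/-- The matrix. -/
def smat : Matrix CoOneType.Ix4 CoOneType.Ix4 (ZMod 2) := Matrix.of fun i j => sdat (pos i) (pos j)

theorem smat_pow : smat * smat ^ 3 = 1 ∧ smat ^ 3 * smat = 1 := by decide +kernel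

theorem smat_q : ∀ x : W4, q4 (smat *ᵥ x) = q4 x := by decide +kernel

theorem smat_sq : smat * gmat 1 = gmat 1 * gmat 1 * smat := by decide +kernel

/-- The isometry squaring the generator of order five. -/
def h₄ : Iso4 := ⟨⟨smat, smat ^ 3, smat_pow.1, smat_pow.2⟩, mem_iso.2 fun x => smat_q x⟩

theorem h₄_conj : h₄ * σ 1 * h₄⁻¹ = σ 1 * σ 1 := by
  rw [mul_inv_eq_iff_eq_mul]
  exact Subtype.ext (Units.ext smat_sq)

theorem act_E_pow (n : ℕ) (u : W4) : act (E (σ 1) ^ n) (vmk 0 0 u) = vmk 0 0 (wf (List.replicate n 1) u) := by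
  induction n with
  | zero => rw [pow_zero, act_one]; rfl
  | succ n ih => rw [pow_succ', act_mul, ih, act_E, xc_vmk, yc_vmk, pr_vmk, act4_σ]; rfl

theorem act_eq_zero_iff (k : Iso6) {x : Vec} : act k x = 0 ↔ x = 0 :=
  ⟨fun h => act_injective k (h.trans (act_zero k).symm), fun h => by rw [h, act_zero]⟩

theorem perp_fix : ∀ x : Vec, pl x w0 = 0 → pl x f0 = 0 → x = vmk 0 0 (pr x) := by decide +kernel

/-- The centralizer of the generator of order five in the simple group. -/
theorem cent_five {h : Iso6} (hh : h ∈ Om) (hc : h * E (σ 1) = E (σ 1) * h) : h ∈ zpowers (E (σ 1)) := by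
  classical
  have hfix : ∀ x : Vec, pr x = 0 → pr (act h x) = 0 := fun x hx => by
    refine five_perp _ ?_
    have e : act (E (σ 1)) x = x := by rw [act_E, hx, act4, Matrix.mulVec_zero]; conv_rhs => rw [← vmk_eta x, hx]
    have h2 : act (E (σ 1)) (act h x) = act h x := by rw [← act_mul, ← hc, act_mul, e]
    rw [act_E] at h2
    have h3 := congrArg pr h2
    rwa [pr_vmk, act4_σ] at h3
  -- the two fixed singular points
  have hsing : ∀ x : Vec, x = w0 ∨ x = f0 → act h x = w0 ∨ act h x = f0 := by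
    intro x hx
    have hq : qf (act h x) = 0 := by rw [qf_act]; rcases hx with rfl | rfl <;> [exact qf_w0; exact qf_f0]
    have hp : pr (act h x) = 0 := hfix x (by rcases hx with rfl | rfl <;> [exact pr_w0; exact pr_f0])
    rcases fix_zero_vecs _ hp with e | e | e | e
    · rcases hx with rfl | rfl
      · exact absurd ((act_eq_zero_iff h).1 e) w0_ne
      · exact absurd ((act_eq_zero_iff h).1 e) f0_ne
    · exact Or.inl e
    · exact Or.inr e
    · rw [e, qf_w0f0] at hq; exact absurd hq one_ne_zero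
  have hW : ∀ u : W4, act h (vmk 0 0 u) = vmk 0 0 (pr (act h (vmk 0 0 u))) := by
    intro u
    have hne : ∀ {a b : Vec}, (a = w0 ∨ a = f0) → (b = w0 ∨ b = f0) → a ≠ b → (a = w0 ∧ b = f0) ∨ (a = f0 ∧ b = w0) := by
      rintro a b (rfl | rfl) (rfl | rfl) hab
      · exact absurd rfl hab
      · exact Or.inl ⟨rfl, rfl⟩
      · exact Or.inr ⟨rfl, rfl⟩
      · exact absurd rfl hab
    have h0 : pl (act h (vmk 0 0 u)) (act h w0) = 0 ∧ pl (act h (vmk 0 0 u)) (act h f0) = 0 := by
      constructor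
      · rw [show pl (act h (vmk 0 0 u)) (act h w0) = pl (vmk 0 0 u) w0 from pol_act h _ _, w0, pl_vmk, pl4_zero_right]; ring
      · rw [show pl (act h (vmk 0 0 u)) (act h f0) = pl (vmk 0 0 u) f0 from pol_act h _ _, f0, pl_vmk, pl4_zero_right]; ring
    rcases hne (hsing w0 (Or.inl rfl)) (hsing f0 (Or.inr rfl))
      (fun e => (show w0 ≠ f0 by decide +kernel) (act_injective h e)) with ⟨e1, e2⟩ | ⟨e1, e2⟩ <;>
      rw [e1, e2] at h0
    · exact perp_fix _ h0.1 h0.2
    · exact perp_fix _ h0.2 h0.1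
  -- the image of one singular point of the four-space
  obtain ⟨i, hi⟩ := five_orbit (pr (act h (vmk 0 0 m₁))) (by
      have h2 : qf (act h (vmk 0 0 m₁)) = 0 := by rw [qf_act]; decide +kernel
      rw [hW, qf_vmk] at h2
      simpa using h2) (fun e => (show vmk 0 0 m₁ ≠ 0 by decide +kernel) ((act_eq_zero_iff h).1 (by
      rw [hW, e]; decide +kernel)))
  set k := (E (σ 1) ^ i.1)⁻¹ * h with hk
  have hm : act k (vmk 0 0 m₁) = vmk 0 0 m₁ := by
    rw [hk, act_mul, hW, ← hi, ← act_E_pow, ← act_mul, inv_mul_cancel, act_one]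
  have hkc : Commute k (E (σ 1)) :=
    (((Commute.refl (E (σ 1))).pow_left i.1).inv_left).mul_left (show Commute h (E (σ 1)) from hc)
  have hall : ∀ u : W4, act k (vmk 0 0 u) = vmk 0 0 u := by
    intro u
    have hj : ∀ n : ℕ, act k (vmk 0 0 (wf (List.replicate n 1) m₁)) = vmk 0 0 (wf (List.replicate n 1) m₁) := fun n => by
      rw [← act_E_pow, ← act_mul, (hkc.pow_right n).eq, act_mul, hm]
    obtain ⟨s, hs⟩ := five_span u
    have hadd : ∀ u u' : W4, act k (vmk 0 0 u) = vmk 0 0 u → act k (vmk 0 0 u') = vmk 0 0 u' →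
        act k (vmk 0 0 (u + u')) = vmk 0 0 (u + u') := fun u u' e e' => by
      rw [show vmk (0 : ZMod 2) 0 (u + u') = vmk 0 0 u + vmk 0 0 u' by rw [vmk_add, add_zero], act_add, e, e']
    have h00 : act k (vmk 0 0 (0 : W4)) = vmk 0 0 (0 : W4) := by
      rw [show vmk (0 : ZMod 2) 0 (0 : W4) = 0 by decide +kernel, act_zero]
    rw [hs]
    refine Finset.sum_induction _ (fun u : W4 => act k (vmk 0 0 u) = vmk 0 0 u) hadd h00 fun j _ => ?_
    rcases two_cases (s j) with e | e <;> rw [e]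
    · rw [zero_smul]; exact h00
    · rw [one_smul]; exact hj _
  have hd : ∀ x : Vec, x = xc x • w0 + yc x • f0 + vmk 0 0 (pr x) := by decide +kernel
  have hkw : ∀ a : Vec, a = w0 ∨ a = f0 → act k a = act h a := by
    intro a ha
    have e : ∀ b : Vec, (b = w0 ∨ b = f0) → act ((E (σ 1) ^ i.1)⁻¹) b = b := by
      intro b hb
      rw [← map_pow, ← map_inv, act_E,
        show pr b = 0 by rcases hb with rfl | rfl <;> [exact pr_w0; exact pr_f0], act4, Matrix.mulVec_zero]
      rcases hb with rfl | rfl <;> decide +kernel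
    rw [hk, act_mul, e _ (hsing a ha)]
  have hkk : ∀ x, act k x = xc x • act h w0 + yc x • act h f0 + vmk 0 0 (pr x) := fun x => by
    conv_lhs => rw [hd x]
    rw [act_add, act_add, act_smul, act_smul, hall, hkw w0 (Or.inl rfl), hkw f0 (Or.inr rfl)]
  have hkm : k ∈ Om := mul_mem (inv_mem (pow_mem (mem_om_of_odd (gord_odd 1) (by rw [← map_pow, σ_pow, map_one])) _)) hh
  have hk1 : k = 1 := by
    rcases hsing w0 (Or.inl rfl) with e1 | e1 <;> rcases hsing f0 (Or.inr rfl) with e2 | e2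
    · exact absurd (act_injective h (e1.trans e2.symm)) (by decide +kernel)
    · exact iso_ext fun x => by rw [hkk, e1, e2, act_one, ← hd x]
    · refine absurd hkm (refl_notMem qf_w0f0 fun x => ?_)
      rw [hkk, e1, e2]
      revert x
      decide +kernel
    · exact absurd (act_injective h (e1.trans e2.symm)) (by decide +kernel)
  exact ⟨(i.1 : ℤ), by
    show E (σ 1) ^ (i.1 : ℤ) = h
    rw [zpow_natCast]; exact eq_of_inv_mul_eq_one (hk ▸ hk1)⟩

/-- Some member of the simple subgroup squares the generator of order five. -/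
theorem exists_squaring : ∃ h ∈ Om, h * E (σ 1) * h⁻¹ = E (σ 1) * E (σ 1) := by
  have e : E h₄ * E (σ 1) * (E h₄)⁻¹ = E (σ 1) * E (σ 1) := by rw [← map_mul, ← map_inv, ← map_mul, h₄_conj, map_mul]
  by_cases hm : E h₄ ∈ Om
  · exact ⟨_, hm, e⟩
  · refine ⟨E h₄ * sw, (Subgroup.mul_mem_iff_of_index_two om_index).2 (by simp [hm, sw_notMem]), ?_⟩
    rw [show E h₄ * sw * E (σ 1) * (E h₄ * sw)⁻¹ = E h₄ * (sw * E (σ 1) * sw⁻¹) * (E h₄)⁻¹ by group,
      conj_eq_iff_comm.2 (sw_comm_E _), e]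

end

end CfsgLib.Spor.SuzType
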