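import Cfsg.Agent.Lib.Spor.SuzType.FiveQuot

/-!
# Sylow five subgroups of a group of Suzuki type: classes and normalizer
-/

set_option autoImplicit false
set_option synthInstance.maxSize 4096

namespace CfsgLib.Spor.SuzType

open Subgroup CfsgLib.Spor.CoOneType CfsgLib.Invol

noncomputable section

variable {G : Type*} [Group G] [Finite G] {z : G} {Q : Subgroup G} {v : G → Vec} {ρ : G → Iso6}

theorem map_conj_zpowers (g x : G) :
    (zpowers x).map (MulAut.conj g).toMonoidHom = zpowers (g * x * g⁻¹) := by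
  rw [MonoidHom.map_zpowers]; rfl

/-- Classes of subgroups of order five, and the normalizer of a Sylow five subgroup. -/
theorem five_main {g : G} {F : Pt z Q v ρ g} {t w : G} (T : F.Tri t w) (P : Sylow 5 G) :
    (∃ A B : Subgroup G, Nat.card A = 5 ∧ Nat.card B = 5 ∧ (∀ g : G, A.map (MulAut.conj g).toMonoidHom ≠ B) ∧
      ∀ C : Subgroup G, Nat.card C = 5 → ∃ g : G, C.map (MulAut.conj g).toMonoidHom = A ∨
        C.map (MulAut.conj g).toMonoidHom = B) ∧
      Nat.card (P : Subgroup G) = 25 ∧ Nat.card ↥(normalizer ((P : Subgroup G) : Set G)) = 600 ∧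
      Nonempty (↥(normalizer ((P : Subgroup G) : Set G)) ⧸ (P : Subgroup G).subgroupOf (normalizer ((P : Subgroup G) : Set G)) ≃*
        Multiplicative (ZMod 4) × Equiv.Perm (Fin 3)) := by
  classical
  haveI : Fact (Nat.Prime 5) := ⟨by norm_num⟩
  obtain ⟨P₀, f, f', D⟩ := exists_five_data T
  have hPc : Nat.card (P : Subgroup G) = 25 := by
    rw [P.card_eq_multiplicity, T.card_eq, show (448345497600 : ℕ) = 5 ^ 2 * 17933819904 by norm_num,
      Nat.factorization_mul (by norm_num) (by norm_num), Finsupp.add_apply, Nat.Prime.factorization_pow (by norm_num),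
      Finsupp.single_eq_same, Nat.factorization_eq_zero_of_not_dvd (by norm_num)]
    rfl
  have hP0 : IsPGroup 5 P₀ := IsPGroup.of_card (n := 2) (by rw [D.basis.card]; norm_num)
  obtain ⟨a, ha⟩ := exists_conj_le_sylow (p := 5) (Q := P₀) hP0 P
  have hmap : P₀.map (MulAut.conj a).toMonoidHom = (P : Subgroup G) := by
    refine eq_of_le_of_card_ge ?_ (by rw [hPc, card_map_of_injective (MulAut.conj a).injective, D.basis.card])
    rintro _ ⟨u, hu, rfl⟩
    exact ha u hu
  refine ⟨?_, hPc, ?_, ?_⟩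
  · refine ⟨zpowers f, zpowers f', by rw [Nat.card_zpowers, D.basis.ordx], by rw [Nat.card_zpowers, D.basis.ordy],
      fun k h => ?_, fun C hC => ?_⟩
    · rw [map_conj_zpowers] at h
      exact D.notconj k (h ▸ mem_zpowers _)
    obtain ⟨c, hc⟩ := exists_prime_orderOf_dvd_card' 5 (G := C) (by rw [hC])
    have hCc : C = zpowers (c : G) := (eq_of_le_of_card_ge (zpowers_le.2 c.2) (by
      rw [hC, Nat.card_zpowers, Subgroup.orderOf_coe, hc])).symm
    obtain ⟨b, hb⟩ := exists_conj_le_sylow (p := 5) (Q := zpowers (c : G))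
      (IsPGroup.of_card (n := 1) (by rw [Nat.card_zpowers, Subgroup.orderOf_coe, hc, pow_one])) P
    have hu : a⁻¹ * (b * c * b⁻¹) * a ∈ P₀ := by
      have h : b * (c : G) * b⁻¹ ∈ (P : Subgroup G) := hb _ (mem_zpowers (c : G))
      rw [← hmap, mem_map_equiv, MulAut.conj_symm_apply] at h
      exact h
    have hu1 : a⁻¹ * (b * c * b⁻¹) * a ≠ 1 := fun e => by
      have h : orderOf (MulAut.conj (a⁻¹ * b) (c : G)) = 1 := by
        rw [show MulAut.conj (a⁻¹ * b) (c : G) = a⁻¹ * (b * c * b⁻¹) * a by simp [MulAut.conj_apply, mul_assoc], e,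
          orderOf_one]
      rw [MulEquiv.orderOf_eq, Subgroup.orderOf_coe, hc] at h
      omega
    rcases D.cover _ hu hu1 with ⟨n, -, e⟩ | ⟨n, -, e⟩
    · refine ⟨n⁻¹ * a⁻¹ * b, Or.inl ?_⟩
      rw [hCc, map_conj_zpowers, show n⁻¹ * a⁻¹ * b * c * (n⁻¹ * a⁻¹ * b)⁻¹ = n⁻¹ * (a⁻¹ * (b * c * b⁻¹) * a) * n by group, ← e]
      congr 1; group
    · refine ⟨n⁻¹ * a⁻¹ * b, Or.inr ?_⟩
      rw [hCc, map_conj_zpowers, show n⁻¹ * a⁻¹ * b * c * (n⁻¹ * a⁻¹ * b)⁻¹ = n⁻¹ * (a⁻¹ * (b * c * b⁻¹) * a) * n by group, ← e]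
      congr 1; group
  · rw [← hmap, ← map_equiv_normalizer_eq, card_map_of_injective (MulAut.conj a).injective, D.norm]
  · obtain ⟨e₀⟩ := D.quot_iso
    have hN : (normalizer (P₀ : Set G)).map (MulAut.conj a).toMonoidHom = normalizer ((P : Subgroup G) : Set G) := by
      rw [← hmap, ← map_equiv_normalizer_eq]
    let e : normalizer (P₀ : Set G) ≃* normalizer ((P : Subgroup G) : Set G) :=
      ((normalizer (P₀ : Set G)).equivMapOfInjective _ (MulAut.conj a).injective).trans (MulEquiv.subgroupCongr hN)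
    haveI : (P₀.subgroupOf (normalizer (P₀ : Set G))).Normal := normal_in_normalizer
    haveI : ((P : Subgroup G).subgroupOf (normalizer ((P : Subgroup G) : Set G))).Normal := normal_in_normalizer
    refine ⟨(QuotientGroup.congr _ _ e ?_).symm.trans e₀⟩
    ext x
    constructor
    · rintro ⟨u, hu, rfl⟩
      exact mem_subgroupOf.2 (hmap ▸ ⟨(u : G), mem_subgroupOf.1 hu, rfl⟩ : MulAut.conj a (u : G) ∈ (P : Subgroup G))
    · intro hx
      obtain ⟨u, hu, e'⟩ := (hmap.symm ▸ mem_subgroupOf.1 hx : (x : G) ∈ P₀.map (MulAut.conj a).toMonoidHom)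
      exact ⟨⟨u, le_normalizer hu⟩, mem_subgroupOf.2 hu, Subtype.ext e'⟩

end

end CfsgLib.Spor.SuzType
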