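import Cfsg.Agent.Lib.Spor.SuzType.FiveSylow

/-!
# The automizer of the Sylow five subgroup
-/

set_option autoImplicit false
set_option synthInstance.maxSize 4096

namespace CfsgLib.Spor.SuzType

open Subgroup CfsgLib.Invol

noncomputable section

theorem perm_three_inverts : ∀ a b : Equiv.Perm (Fin 3), a * a = 1 → a ≠ 1 → b * b * b = 1 → b ≠ 1 →
    a * b * a⁻¹ = b⁻¹ := by decide +kernel

/-- A central cyclic subgroup of order four with symmetric quotient of degree three splits off. -/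
theorem mulEquiv_four_perm_three {W : Type*} [Group W] [Finite W] {Ω : Type*} [Finite Ω]
    (π : W →* Equiv.Perm Ω) (hW : Nat.card W = 24) (hΩ : Nat.card Ω = 3) (hcen : π.ker ≤ center W)
    [IsCyclic π.ker] (hker : Nat.card π.ker = 4) {ε : W} (hε : ε * ε = 1) (hπε : π ε ≠ 1) :
    Nonempty (W ≃* Multiplicative (ZMod 4) × Equiv.Perm (Fin 3)) := by
  classical
  haveI : Fact (Nat.Prime 3) := ⟨Nat.prime_three⟩
  haveI : Fact (Nat.Prime 2) := ⟨Nat.prime_two⟩
  haveI := Fintype.ofFinite Ω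
  obtain ⟨x, hx⟩ := exists_prime_orderOf_dvd_card' 3 (G := W) (by rw [hW]; norm_num)
  have hx1 : x ∉ π.ker := fun h => by
    have := orderOf_dvd_natCard (⟨x, h⟩ : π.ker)
    rw [orderOf_mk, hx, hker] at this
    norm_num at this
  have hπx : orderOf (π x) = 3 := orderOf_eq_prime (by rw [← map_pow, ← hx, pow_orderOf_eq_one, map_one]) hx1
  have hπε2 : orderOf (π ε) = 2 := orderOf_eq_prime (by rw [pow_two, ← map_mul, hε, map_one]) hπε
  have hP6 : Nat.card (Equiv.Perm Ω) = 6 := by rw [Nat.card_perm, hΩ]; rfl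
  -- the element of order three is inverted
  have hinv : ε * x * ε⁻¹ = x⁻¹ := by
    have hk2 : π ε * π x * (π ε)⁻¹ = (π x)⁻¹ := by
      let e := ((Fintype.equivFin Ω).trans (finCongr (by rw [← Nat.card_eq_fintype_card, hΩ]) : _ ≃ Fin 3)).permCongrHom
      apply e.injective
      rw [map_mul, map_mul, map_inv, map_inv]
      refine perm_three_inverts _ _ ?_ (fun h => hπε (e.injective (h.trans (map_one e).symm))) ?_
        (fun h => hx1 (e.injective (h.trans (map_one e).symm)))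
      · rw [← map_mul, ← map_mul, hε, map_one, map_one]
      · rw [← map_mul, ← map_mul, ← pow_two, ← pow_succ, orderOf_dvd_iff_pow_eq_one.1 (dvd_of_eq hπx), map_one]
    have hd : ε * x * ε⁻¹ * x ∈ π.ker := by
      rw [MonoidHom.mem_ker, map_mul, map_mul, map_mul, map_inv, hk2, inv_mul_cancel]
    set d := ε * x * ε⁻¹ * x
    have hdc : Commute d x⁻¹ := (Subgroup.mem_center_iff.1 (hcen hd) x⁻¹).symm
    have hx3 : x ^ 3 = 1 := hx ▸ pow_orderOf_eq_one x
    have hd3 : d ^ 3 = 1 := by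
      have e : (d * x⁻¹) ^ 3 = d ^ 3 * x⁻¹ ^ 3 := hdc.mul_pow 3
      rw [show d * x⁻¹ = ε * x * ε⁻¹ by simp [d], conj_pow, hx3, inv_pow, hx3, inv_one, mul_one, mul_one,
        mul_inv_cancel] at e
      exact e.symm
    have hd1 : d = 1 := by
      refine orderOf_eq_one_iff.1 (Nat.eq_one_of_dvd_coprimes (show Nat.Coprime 3 4 by norm_num)
        (orderOf_dvd_of_pow_eq_one hd3) ?_)
      rw [← hker, ← Subgroup.orderOf_mk d hd]
      exact orderOf_dvd_natCard _
    exact eq_inv_of_mul_eq_one_left hd1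
  set S := zpowers x ⊔ zpowers ε
  have hnorm : zpowers ε ≤ normalizer (zpowers x : Set W) := by
    rw [zpowers_le, mem_normalizer_zpowers, hinv]
    exact inv_mem (mem_zpowers x)
  have hS : ∀ s ∈ S, ∃ i j : ℤ, s = x ^ i * ε ^ j := by
    intro s hs
    rw [← SetLike.mem_coe, Subgroup.coe_mul_of_right_le_normalizer_left _ _ hnorm] at hs
    obtain ⟨a, ⟨i, rfl⟩, b, ⟨j, rfl⟩, rfl⟩ := Set.mem_mul.1 hs
    exact ⟨i, j, rfl⟩
  have hεz : ∀ j : ℤ, ε ^ j = 1 ∨ ε ^ j = ε := fun j => by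
    rcases Int.even_or_odd j with ⟨k, rfl⟩ | ⟨k, rfl⟩
    · exact Or.inl (by rw [← two_mul, zpow_mul, zpow_two, hε, one_zpow])
    · exact Or.inr (by rw [zpow_add_one, zpow_mul, zpow_two, hε, one_zpow, one_mul])
  have hSinj : ∀ s ∈ S, π s = 1 → s = 1 := by
    intro s hs h1
    obtain ⟨i, j, rfl⟩ := hS s hs
    rw [map_mul, map_zpow] at h1
    rcases hεz j with e | e <;> rw [e] at h1 ⊢
    · rw [map_one, mul_one] at h1
      rw [mul_one, ← orderOf_dvd_iff_zpow_eq_one, hx, ← hπx, orderOf_dvd_iff_zpow_eq_one]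
      exact h1
    · exfalso
      have h2 : π ε ∈ zpowers (π x) := by
        rw [eq_inv_of_mul_eq_one_right h1]
        exact inv_mem (zpow_mem (mem_zpowers _) i)
      have := orderOf_dvd_natCard (⟨_, h2⟩ : zpowers (π x))
      rw [orderOf_mk, hπε2, Nat.card_zpowers, hπx] at this
      norm_num at this
  let fS : S →* Equiv.Perm Ω := π.comp S.subtype
  have hfS : Function.Injective fS := by
    rw [injective_iff_map_eq_one]
    exact fun s hs => Subtype.ext (hSinj s s.2 hs)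
  have hS6 : Nat.card S = 6 := by
    refine le_antisymm (hP6 ▸ Nat.card_le_card_of_injective fS hfS) (Nat.le_of_dvd Nat.card_pos ?_)
    refine Nat.Coprime.mul_dvd_of_dvd_of_dvd (m := 3) (n := 2) (by norm_num) ?_ ?_
    · rw [← hx, ← orderOf_mk x (show x ∈ S from Subgroup.mem_sup_left (mem_zpowers x))]
      exact orderOf_dvd_natCard _
    · rw [← hπε2]
      refine (orderOf_map_dvd fS ⟨ε, Subgroup.mem_sup_right (mem_zpowers ε)⟩).trans (orderOf_dvd_natCard _)
  let eS : S ≃* Equiv.Perm Ω :=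
    MulEquiv.ofBijective fS ((Nat.bijective_iff_injective_and_card _).2 ⟨hfS, hS6.trans hP6.symm⟩)
  let m : π.ker × S →* W :=
    MonoidHom.mk' (fun q => (q.1 : W) * q.2) fun a b => by
      show (a.1 : W) * b.1 * ((a.2 : W) * b.2) = a.1 * a.2 * (b.1 * b.2)
      exact (show Commute (b.1 : W) (a.2 : W) from (Subgroup.mem_center_iff.1 (hcen b.1.2) a.2).symm).mul_mul_mul_comm _ _
  have hm : Function.Injective m := by
    rw [injective_iff_map_eq_one]
    rintro ⟨⟨d, hd⟩, ⟨s, hs⟩⟩ e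
    replace e : d * s = 1 := e
    have hs1 : s = 1 := hSinj s hs (by
      have h := congrArg π e
      rwa [map_mul, MonoidHom.mem_ker.1 hd, one_mul, map_one] at h)
    subst hs1
    rw [mul_one] at e
    exact Prod.ext (Subtype.ext e) (Subtype.ext rfl)
  let eW : π.ker × S ≃* W := MulEquiv.ofBijective m
    ((Nat.bijective_iff_injective_and_card _).2 ⟨hm, by rw [Nat.card_prod, hker, hS6, hW]⟩)
  let eΩ : Ω ≃ Fin 3 := (Fintype.equivFin Ω).trans (finCongr (by rw [← Nat.card_eq_fintype_card, hΩ]))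
  exact ⟨eW.symm.trans (MulEquiv.prodCongr
    (mulEquivOfCyclicCardEq (by rw [hker, Nat.card_congr Multiplicative.toAdd, Nat.card_zmod]))
    (eS.trans eΩ.permCongrHom))⟩

variable {G : Type*} [Group G] [Finite G]

theorem eq_zpow_of_gen {a b : G} (ha : orderOf a = 5) {i : ℤ} (hi : a ^ i ≠ 1) {c : ℤ} (h : (a ^ i) ^ c = 1)
    (hb : b ∈ zpowers a) : b ^ c = 1 := by
  have h2 : b ∈ zpowers (a ^ i) :=
    zpowers_le.2 ((zpow_eq_one_or_gen ha i).resolve_left hi) hb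
  obtain ⟨k, rfl⟩ := h2
  show ((a ^ i) ^ k) ^ c = 1
  rw [← zpow_mul, mul_comm, zpow_mul, h, one_zpow]

namespace FiveData

variable {P : Subgroup G} {f f' : G} (D : FiveData P f f')

include D

/-- The structure of the automizer. -/
theorem quot_iso : Nonempty (normalizer (P : Set G) ⧸ P.subgroupOf (normalizer (P : Set G)) ≃*
    Multiplicative (ZMod 4) × Equiv.Perm (Fin 3)) := by
  classical
  haveI : Fact (Nat.Prime 5) := ⟨by norm_num⟩
  haveI : Fact (Nat.Prime 2) := ⟨Nat.prime_two⟩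
  set N := normalizer (P : Set G) with hNdef
  haveI : (P.subgroupOf N).Normal := normal_in_normalizer
  have hPN : P ≤ N := le_normalizer
  have hfP := D.basis.memx
  have hfo := D.basis.ordx
  have hP := D.basis.card
  set S := (normalizer (zpowers f : Set G)).subgroupOf N with hSdef
  have hS : S.index = 3 := by
    have h1 : Nat.card S = 200 := by
      rw [← D.normf]
      exact Nat.card_congr
        { toFun := fun a => ⟨a.1.1, a.1.2, mem_subgroupOf.1 a.2⟩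
          invFun := fun a => ⟨⟨a.1, a.2.1⟩, mem_subgroupOf.2 a.2.2⟩
          left_inv := fun _ => rfl
          right_inv := fun _ => rfl }
    have h := S.card_mul_index
    rw [h1, D.norm] at h
    omega
  set π0 := MulAction.toPermHom ↥N (↥N ⧸ S) with hπ0
  have hker : ∀ n : N, π0 n = 1 ↔ ∀ m : N, m * n * m⁻¹ ∈ S := fun n => by
    rw [← MonoidHom.mem_ker, hπ0, ← normalCore_eq_ker]; rfl
  have hPle : P.subgroupOf N ≤ π0.ker := by
    intro n hn
    refine (hker n).2 fun m => mem_subgroupOf.2 (mem_normalizer_zpowers.2 ?_)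
    have hu : ((m * n * m⁻¹ : N) : G) ∈ P := (mem_normalizer_iff.1 m.2 n).1 (mem_subgroupOf.1 hn)
    rw [conj_eq_iff_comm.2 (comm_of_card hP hu hfP)]
    exact mem_zpowers f
  -- the elements of the kernel preserve each line of the orbit
  have hline : ∀ n : N, π0 n = 1 → ∀ y : G, (∃ m ∈ N, m * f * m⁻¹ = y) → (n : G) * y * (n : G)⁻¹ ∈ zpowers y := by
    rintro n hn _ ⟨m, hm, rfl⟩
    obtain ⟨i, hi⟩ := mem_normalizer_zpowers.1 (mem_subgroupOf.1 ((hker n).1 hn ⟨m, hm⟩⁻¹))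
    refine ⟨i, ?_⟩
    show (m * f * m⁻¹) ^ i = _
    rw [conj_zpow, show f ^ i = (m⁻¹ * n * m⁻¹⁻¹) * f * (m⁻¹ * n * m⁻¹⁻¹)⁻¹ from hi]
    group
  set O := {y : G // ∃ n ∈ N, n * f * n⁻¹ = y}
  have hO : Nat.card O = 12 := by
    have h := card_orbit_mul N f
    rw [show N ⊓ centralizer ({f} : Set G) = centralizer ({f} : Set G) ⊓ N from inf_comm _ _, D.centf, D.norm] at h
    show Nat.card {y : G // ∃ n ∈ N, n * f * n⁻¹ = y} = 12
    omega
  have hfO : ∃ n ∈ N, n * f * n⁻¹ = f := ⟨1, one_mem _, by group⟩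
  have hOP : ∀ y, (∃ n ∈ N, n * f * n⁻¹ = y) → y ∈ P ∧ orderOf y = 5 := by
    rintro _ ⟨n, hn, rfl⟩
    exact ⟨(mem_normalizer_iff.1 hn f).1 hfP,
      by rw [show n * f * n⁻¹ = MulAut.conj n f from rfl, MulEquiv.orderOf_eq, hfo]⟩
  obtain ⟨y₂, hy₂, hy₂f⟩ : ∃ y, (∃ n ∈ N, n * f * n⁻¹ = y) ∧ y ∉ zpowers f := by
    by_contra hc
    push Not at hc
    have h := Nat.card_le_card_of_injective (fun y : O => (⟨y.1, hc y.1 y.2⟩ : zpowers f))
      fun a b e => Subtype.ext (congrArg Subtype.val e :)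
    rw [hO, Nat.card_zpowers, hfo] at h
    omega
  have B : Basis P f y₂ := ⟨hP, hfP, (hOP _ hy₂).1, hfo, (hOP _ hy₂).2, hy₂f⟩
  obtain ⟨y₃, hy₃, hy₃f, hy₃2⟩ : ∃ y, (∃ n ∈ N, n * f * n⁻¹ = y) ∧ y ∉ zpowers f ∧ y ∉ zpowers y₂ := by
    by_contra hc
    push Not at hc
    have h := Nat.card_le_card_of_injective (fun y : O =>
      if hy : y.1 ∈ zpowers f then (Sum.inl ⟨y.1, hy⟩ : zpowers f ⊕ zpowers y₂) else Sum.inr ⟨y.1, hc y.1 y.2 hy⟩)
      fun a b e => by
        simp only at e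
        split_ifs at e with h1 h2 <;> simp only [Sum.inl.injEq, Sum.inr.injEq, Subtype.mk.injEq, reduceCtorEq] at e <;>
          exact Subtype.ext e
    rw [hO, Nat.card_sum, Nat.card_zpowers, Nat.card_zpowers, hfo, B.ordy] at h
    omega
  -- the kernel consists of scalars
  have hscal : ∀ n : N, π0 n = 1 → ∃ c : ℤ, ∀ u ∈ P, (n : G) * u * (n : G)⁻¹ = u ^ c := by
    intro n hn
    obtain ⟨c₁, h1⟩ := hline n hn f hfO
    obtain ⟨c₂, h2⟩ := hline n hn y₂ hy₂
    obtain ⟨c₃, h3⟩ := hline n hn y₃ hy₃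
    replace h1 : f ^ c₁ = (n : G) * f * (n : G)⁻¹ := h1
    replace h2 : y₂ ^ c₂ = (n : G) * y₂ * (n : G)⁻¹ := h2
    replace h3 : y₃ ^ c₃ = (n : G) * y₃ * (n : G)⁻¹ := h3
    obtain ⟨a, b, e⟩ := B.split (hOP _ hy₃).1
    have ha : f ^ a ≠ 1 := fun h => hy₃2 ⟨b, show y₂ ^ b = y₃ by rw [e, h, one_mul]⟩
    have hb : y₂ ^ b ≠ 1 := fun h => hy₃f ⟨a, show f ^ a = y₃ by rw [e, h, mul_one]⟩
    have hcalc : (f ^ a) ^ c₁ * (y₂ ^ b) ^ c₂ = (f ^ a) ^ c₃ * (y₂ ^ b) ^ c₃ := by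
      rw [← (B.commute a b).mul_zpow, ← e, h3, e, ← zpow_mul, mul_comm a, zpow_mul, h1, ← zpow_mul, mul_comm b,
        zpow_mul, h2, conj_zpow, conj_zpow]
      group
    have hsplit : f ^ (a * c₁ - a * c₃) * y₂ ^ (b * c₂ - b * c₃) = 1 := by
      rw [zpow_sub, zpow_sub, zpow_mul, zpow_mul, zpow_mul, zpow_mul]
      have hc : Commute ((f ^ a) ^ c₃)⁻¹ ((y₂ ^ b) ^ c₂) := (((B.commute a b).zpow_zpow c₃ c₂)).inv_left
      calc (f ^ a) ^ c₁ * ((f ^ a) ^ c₃)⁻¹ * ((y₂ ^ b) ^ c₂ * ((y₂ ^ b) ^ c₃)⁻¹)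
          = (f ^ a) ^ c₁ * (((f ^ a) ^ c₃)⁻¹ * (y₂ ^ b) ^ c₂) * ((y₂ ^ b) ^ c₃)⁻¹ := by group
        _ = (f ^ a) ^ c₁ * ((y₂ ^ b) ^ c₂ * ((f ^ a) ^ c₃)⁻¹) * ((y₂ ^ b) ^ c₃)⁻¹ := by rw [hc.eq]
        _ = (f ^ a) ^ c₁ * (y₂ ^ b) ^ c₂ * ((y₂ ^ b) ^ c₃ * (f ^ a) ^ c₃)⁻¹ := by group
        _ = 1 := by rw [hcalc, ((B.commute a b).zpow_zpow c₃ c₃).eq, mul_inv_cancel]
    obtain ⟨q1, q2⟩ := B.indep hsplit
    have e1 : f ^ c₁ = f ^ c₃ := by
      have h := eq_zpow_of_gen hfo ha (c := c₁ - c₃) (by rw [← zpow_mul, mul_sub]; exact q1) (mem_zpowers f)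
      rwa [zpow_sub, mul_inv_eq_one] at h
    have e2 : y₂ ^ c₂ = y₂ ^ c₃ := by
      have h := eq_zpow_of_gen B.ordy hb (c := c₂ - c₃) (by rw [← zpow_mul, mul_sub]; exact q2) (mem_zpowers y₂)
      rwa [zpow_sub, mul_inv_eq_one] at h
    refine ⟨c₃, fun u hu => ?_⟩
    obtain ⟨i, j, rfl⟩ := B.split hu
    rw [show (n : G) * (f ^ i * y₂ ^ j) * (n : G)⁻¹ =
        (n : G) * f ^ i * (n : G)⁻¹ * ((n : G) * y₂ ^ j * (n : G)⁻¹) by group,
      ← conj_zpow, ← conj_zpow, ← h1, ← h2, e1, e2, (B.commute i j).mul_zpow, ← zpow_mul, ← zpow_mul, mul_comm c₃ i,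
      mul_comm c₃ j, zpow_mul, zpow_mul]
  have hfix : ∀ n : N, π0 n = 1 → Commute (n : G) f → (n : G) ∈ P := by
    intro n hn hnf
    obtain ⟨c, hc⟩ := hscal n hn
    have hf : f ^ c = f := (hc f hfP).symm.trans (conj_eq_iff_comm.2 hnf.eq)
    refine D.cent _ fun u hu => conj_eq_iff_comm.1 ?_
    rw [hc u hu]
    have h5 : (5 : ℤ) ∣ c - 1 := by
      have h := orderOf_dvd_sub_iff_zpow_eq_zpow.2 (show f ^ c = f ^ (1 : ℤ) by rw [zpow_one]; exact hf)
      rwa [hfo] at h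
    obtain ⟨k, hk⟩ := h5
    rw [show c = 5 * k + 1 by omega, zpow_add_one, zpow_mul, zpow_ofNat, B.exp5 hu, one_zpow, one_mul]
  set W := ↥N ⧸ P.subgroupOf N
  let π : W →* Equiv.Perm (↥N ⧸ S) := QuotientGroup.lift (P.subgroupOf N) π0 hPle
  have hW : Nat.card W = 24 := by
    have h := (P.subgroupOf N).card_mul_index
    rw [Nat.card_congr (subgroupOfEquivOfLe hPN).toEquiv, hP, D.norm] at h
    show (P.subgroupOf N).index = 24
    omega
  have hΩ : Nat.card (↥N ⧸ S) = 3 := hS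
  have hmk : ∀ w : π.ker, ∃ n : N, π0 n = 1 ∧ (QuotientGroup.mk n : W) = w.1 := by
    rintro ⟨w, hw⟩
    obtain ⟨n, rfl⟩ := QuotientGroup.mk_surjective w
    exact ⟨n, hw, rfl⟩
  have hcen : π.ker ≤ center W := by
    intro w hw
    obtain ⟨n, rfl⟩ := QuotientGroup.mk_surjective w
    obtain ⟨c, hc⟩ := hscal n hw
    refine Subgroup.mem_center_iff.2 fun u => ?_
    obtain ⟨m, rfl⟩ := QuotientGroup.mk_surjective u
    rw [← QuotientGroup.mk_mul, ← QuotientGroup.mk_mul, QuotientGroup.eq, mem_subgroupOf]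
    refine D.cent _ fun u hu => conj_eq_iff_comm.1 ?_
    have hmu : (m : G) * u * (m : G)⁻¹ ∈ P := (mem_normalizer_iff.1 m.2 u).1 hu
    have key : (n : G) * ((m : G) * u * (m : G)⁻¹) * (n : G)⁻¹ = (m : G) * ((n : G) * u * (n : G)⁻¹) * (m : G)⁻¹ := by
      rw [hc _ hmu, hc _ hu, conj_zpow]
    calc ((m * n)⁻¹ * (n * m) : N) * u * (((m * n)⁻¹ * (n * m) : N) : G)⁻¹
        = (n : G)⁻¹ * (m : G)⁻¹ * ((n : G) * ((m : G) * u * (m : G)⁻¹) * (n : G)⁻¹) * ((m : G) * (n : G)) := by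
          simp only [Subgroup.coe_mul, Subgroup.coe_inv]; group
      _ = u := by rw [key]; group
  have hK : ∀ n : π0.ker, ((n : N) : G) ∈ normalizer (zpowers f : Set G) := fun n =>
    mem_normalizer_zpowers.2 (hline n n.2 f hfO)
  let ι : π0.ker →* ↥(normalizer (zpowers f : Set G)) :=
    MonoidHom.mk' (fun n => ⟨((n : N) : G), hK n⟩) fun _ _ => rfl
  let ψ : π0.ker →* MulAut (zpowers f) := (zpowers f).normalizerMonoidHom.comp ι
  have hψ : ∀ n, ψ n = 1 ↔ Commute ((n : N) : G) f := fun n => by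
    rw [← MonoidHom.mem_ker]
    show ι n ∈ (zpowers f).normalizerMonoidHom.ker ↔ _
    rw [normalizerMonoidHom_ker, mem_subgroupOf]
    exact ⟨fun h => (mem_centralizer_iff.1 h f (mem_zpowers f)).symm, fun h => mem_centralizer_iff.2 fun u hu => by
      obtain ⟨i, rfl⟩ := hu
      exact (h.zpow_right i).eq.symm⟩
  let r : π0.ker →* π.ker :=
    MonoidHom.mk' (fun n => ⟨QuotientGroup.mk (n : N), n.2⟩) fun _ _ => rfl
  have hr : Function.Surjective r := fun w => by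
    obtain ⟨n, hn, e⟩ := hmk w
    exact ⟨⟨n, hn⟩, Subtype.ext e⟩
  have hrker : r.ker ≤ ψ.ker := fun n hn => (hψ n).2 (by
    have h : (QuotientGroup.mk (n : N) : W) = 1 := congrArg Subtype.val hn
    exact comm_of_card hP (mem_subgroupOf.1 ((QuotientGroup.eq_one_iff _).1 h)) hfP)
  let χ : π.ker →* MulAut (zpowers f) := (MonoidHom.liftOfSurjective r hr) ⟨ψ, hrker⟩
  have hχ : Function.Injective χ := by
    rw [injective_iff_map_eq_one]
    intro w hw
    obtain ⟨n, rfl⟩ := hr w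
    have h1 : ψ n = 1 := by
      rw [← hw]
      exact (MonoidHom.liftOfRightInverse_comp_apply r _ (Function.rightInverse_surjInv hr) ⟨ψ, hrker⟩ n).symm
    exact Subtype.ext ((QuotientGroup.eq_one_iff _).2 (mem_subgroupOf.2 (hfix n n.2 ((hψ n).1 h1))))
  haveI : IsCyclic (ZMod (Nat.card (zpowers f)))ˣ := by
    rw [Nat.card_zpowers, hfo]; exact ZMod.isCyclic_units_prime (by norm_num)
  haveI : IsCyclic (MulAut (zpowers f)) :=
    (IsCyclic.mulAutMulEquiv (zpowers f)).isCyclic.2 inferInstance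
  haveI : IsCyclic π.ker := isCyclic_of_injective χ hχ
  have hker4 : Nat.card π.ker = 4 := by
    have hle : Nat.card π.ker ≤ 4 := by
      refine (Nat.card_le_card_of_injective χ hχ).trans (le_of_eq ?_)
      rw [IsCyclic.card_mulAut, Nat.card_zpowers, hfo, Nat.totient_prime (by norm_num)]
    have h := π.ker.card_mul_index
    rw [index_ker, hW] at h
    have hr6 : Nat.card π.range ≤ 6 := (Subgroup.card_le_card_group _).trans (by rw [Nat.card_perm, hΩ]; rfl)
    nlinarith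
  obtain ⟨e₀, he₀⟩ := exists_prime_orderOf_dvd_card' 2 (G := ↥(centralizer ({f} : Set G) ⊓ N)) (by rw [D.centf]; norm_num)
  have heo : orderOf (e₀ : G) = 2 := by rw [Subgroup.orderOf_coe, he₀]
  exact mulEquiv_four_perm_three π hW hΩ hcen hker4 (ε := (QuotientGroup.mk ⟨(e₀ : G), e₀.2.2⟩ : W))
    (by rw [← QuotientGroup.mk_mul, ← QuotientGroup.mk_one]; exact congrArg _ (Subtype.ext (invol_mul_self heo)))
    fun h1 => by
      have hp := hfix ⟨(e₀ : G), e₀.2.2⟩ h1 (mem_cz.1 e₀.2.1)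
      have := D.basis.exp5 hp
      rw [pow_succ, pow_succ, pow_succ, pow_two, invol_mul_self heo, one_mul, invol_mul_self heo, one_mul] at this
      exact invol_ne_one heo this

end FiveData

end

end CfsgLib.Spor.SuzType
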