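import Cfsg.Agent.Lib.Spor.SuzType.PrimeLocal

/-!
# Subgroups of order twenty five inside the centralizer of an element of order five
-/

set_option autoImplicit false
set_option synthInstance.maxSize 4096

namespace CfsgLib.Spor.SuzType

open Subgroup CfsgLib.Invol

noncomputable section

variable {G : Type*} [Group G] [Finite G]

theorem zpow_eq_one_or_gen {x : G} (hx : orderOf x = 5) (i : ℤ) : x ^ i = 1 ∨ x ∈ zpowers (x ^ i) := by
  rcases (Nat.dvd_prime (by norm_num : (5 : ℕ).Prime)).1 (hx ▸ orderOf_dvd_of_pow_eq_one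
    (show (x ^ i) ^ orderOf x = 1 by rw [← zpow_natCast, ← zpow_mul, mul_comm, zpow_mul, zpow_natCast,
      pow_orderOf_eq_one, one_zpow])) with h | h
  · exact Or.inl (orderOf_eq_one_iff.1 h)
  · refine Or.inr ?_
    rw [eq_of_le_of_card_ge (zpowers_le.2 (zpow_mem (mem_zpowers x) i) : zpowers (x ^ i) ≤ zpowers x)
      (by rw [Nat.card_zpowers, Nat.card_zpowers, hx, h])]
    exact mem_zpowers x

theorem comm_of_card {P : Subgroup G} (hP : Nat.card P = 25) {a b : G} (ha : a ∈ P) (hb : b ∈ P) : a * b = b * a := by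
  haveI : Fact (Nat.Prime 5) := ⟨by norm_num⟩
  haveI := IsPGroup.isMulCommutative_of_card_eq_prime_sq (p := 5) (G := P) (by rw [hP]; norm_num)
  exact congrArg Subtype.val (mul_comm' (⟨a, ha⟩ : P) ⟨b, hb⟩)

/-- A basis of a subgroup of order twenty five. -/
structure Basis (P : Subgroup G) (x y : G) : Prop where
  card : Nat.card P = 25
  memx : x ∈ P
  memy : y ∈ P
  ordx : orderOf x = 5
  ordy : orderOf y = 5
  out : y ∉ zpowers x

namespace Basis

variable {P : Subgroup G} {x y : G} (B : Basis P x y)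

include B

theorem commute (i j : ℤ) : Commute (x ^ i) (y ^ j) :=
  comm_of_card B.card (zpow_mem B.memx i) (zpow_mem B.memy j)

theorem indep {i j : ℤ} (h : x ^ i * y ^ j = 1) : x ^ i = 1 ∧ y ^ j = 1 := by
  rcases zpow_eq_one_or_gen B.ordy j with e | e
  · exact ⟨by rwa [e, mul_one] at h, e⟩
  · exfalso
    refine B.out (zpowers_le.2 ?_ e)
    rw [eq_inv_of_mul_eq_one_right h]
    exact inv_mem (zpow_mem (mem_zpowers x) i)

/-- The product map. -/
def prodHom : zpowers x × zpowers y →* P :=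
  MonoidHom.mk' (fun q => ⟨(q.1 : G) * q.2, mul_mem (zpowers_le.2 B.memx q.1.2) (zpowers_le.2 B.memy q.2.2)⟩)
    fun a b => Subtype.ext (show (a.1 : G) * b.1 * ((a.2 : G) * b.2) = a.1 * a.2 * (b.1 * b.2) by
      have h : Commute (b.1 : G) (a.2 : G) :=
        comm_of_card B.card (zpowers_le.2 B.memx b.1.2) (zpowers_le.2 B.memy a.2.2)
      exact h.mul_mul_mul_comm _ _)

theorem prodHom_bijective : Function.Bijective B.prodHom := by
  refine (Nat.bijective_iff_injective_and_card _).2 ⟨?_, ?_⟩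
  · rw [injective_iff_map_eq_one]
    rintro ⟨⟨a, i, rfl⟩, ⟨b, j, rfl⟩⟩ e
    obtain ⟨h1, h2⟩ := B.indep (show x ^ i * y ^ j = 1 from congrArg Subtype.val e)
    exact Prod.ext (Subtype.ext h1) (Subtype.ext h2)
  · rw [Nat.card_prod, Nat.card_zpowers, Nat.card_zpowers, B.ordx, B.ordy, B.card]

theorem split {u : G} (hu : u ∈ P) : ∃ i j : ℤ, u = x ^ i * y ^ j := by
  obtain ⟨⟨⟨a, i, rfl⟩, ⟨b, j, rfl⟩⟩, e⟩ := B.prodHom_bijective.2 ⟨u, hu⟩
  exact ⟨i, j, (congrArg Subtype.val e).symm⟩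

theorem exp5 {u : G} (hu : u ∈ P) : u ^ 5 = 1 := by
  obtain ⟨i, j, rfl⟩ := B.split hu
  have hx : ∀ {a : G}, orderOf a = 5 → ∀ n : ℤ, (a ^ n) ^ 5 = 1 := fun {a} ha n => by
    rw [← zpow_natCast, ← zpow_mul, mul_comm, zpow_mul, zpow_natCast, ← ha, pow_orderOf_eq_one, one_zpow]
  rw [(B.commute i j).mul_pow, hx B.ordx, hx B.ordy, one_mul]

theorem ord_eq {u : G} (hu : u ∈ P) (hu1 : u ≠ 1) : orderOf u = 5 := by
  haveI : Fact (Nat.Prime 5) := ⟨by norm_num⟩
  exact orderOf_eq_prime (B.exp5 hu) hu1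

theorem le_cent {a : G} (ha : a ∈ P) : P ≤ centralizer ({a} : Set G) :=
  fun _ hu => mem_cz.2 (comm_of_card B.card hu ha)

theorem exists_proj : ∃ φ : P →* zpowers x, φ ⟨x, B.memx⟩ = ⟨x, mem_zpowers x⟩ := by
  let e := MulEquiv.ofBijective B.prodHom B.prodHom_bijective
  refine ⟨(MonoidHom.fst _ _).comp e.symm.toMonoidHom, ?_⟩
  have h : e.symm ⟨x, B.memx⟩ = (⟨x, mem_zpowers x⟩, 1) := by
    rw [e.symm_apply_eq]
    exact Subtype.ext (mul_one x).symm
  show (e.symm ⟨x, B.memx⟩).1 = _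
  rw [h]

theorem exists_compl (h125 : ¬ 5 ^ 3 ∣ Nat.card G) :
    ∃ H : Subgroup G, Compl x 5 H ∧ 5 ∣ Nat.card H := by
  haveI : Fact (Nat.Prime 5) := ⟨by norm_num⟩
  obtain ⟨φ, hφ⟩ := B.exists_proj
  have hle := B.le_cent B.memx
  obtain ⟨H, hC⟩ := CfsgLib.Spor.SuzType.exists_compl B.ordx hle B.memx φ hφ (fun hd => by
    have h := (P.subgroupOf (centralizer ({x} : Set G))).card_mul_index
    rw [Nat.card_congr (subgroupOfEquivOfLe hle).toEquiv, B.card] at h
    exact h125 ((show 5 ^ 3 = 25 * 5 from rfl) ▸ ((mul_dvd_mul_left 25 hd).trans (h ▸ card_subgroup_dvd_card _))))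
  refine ⟨H, hC, ?_⟩
  have h := hC.card_split hle B.memx
  rw [B.card] at h
  have h5 : Nat.card ↥(P ⊓ H) = 5 := by omega
  exact h5 ▸ card_dvd_of_le inf_le_right

/-- The subgroup is self-centralizing; its normalizer meets the centralizer of the element in order fifty. -/
theorem local_data {H : Subgroup G} (hC : Compl x 5 H) (hsq : ¬ 5 ^ 2 ∣ Nat.card H) {i : H} {s : ℕ}
    (hyp : SelfCount.Hyp i s) (hex : ∃ A : Subgroup H, SelfCount.IsTor A ∧ Nat.card A = 5)
    (hrel : ∀ A : Subgroup H, SelfCount.IsTor A → Nat.card A = 5 → A.relIndex (normalizer (A : Set H)) = 2) :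
    (∀ g : G, (∀ u ∈ P, g * u = u * g) → g ∈ P) ∧
      Nat.card ↥(centralizer ({x} : Set G) ⊓ normalizer (P : Set G)) = 50 := by
  haveI : Fact (Nat.Prime 5) := ⟨by norm_num⟩
  have hle := B.le_cent B.memx
  have h5 : Nat.card ↥(P ⊓ H) = 5 := by
    have h := hC.card_split hle B.memx
    rw [B.card] at h
    omega
  set Y : Subgroup H := (P ⊓ H).subgroupOf H with hY
  have hYc : Nat.card Y = 5 := by rw [hY, Nat.card_congr (subgroupOfEquivOfLe inf_le_right).toEquiv, h5]
  obtain ⟨A, hA, hA5⟩ := hex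
  obtain ⟨a, ha⟩ := exists_prime_orderOf_dvd_card' 5 (G := A) (by rw [hA5])
  obtain ⟨u, hu⟩ := exists_prime_orderOf_dvd_card' 5 (G := Y) (by rw [hYc])
  have hao : orderOf (a : H) = 5 := by rw [Subgroup.orderOf_coe, ha]
  have huo : orderOf (u : H) = 5 := by rw [Subgroup.orderOf_coe, hu]
  obtain ⟨l, -, hl⟩ := conj_zpowers_of_not_sq (H := (⊤ : Subgroup H)) (p := 5) (by rwa [Subgroup.card_top])
    (mem_top (u : H)) (mem_top (a : H)) huo hao
  have hYu : zpowers (u : H) = Y := eq_of_le_of_card_ge (zpowers_le.2 u.2) (by rw [hYc, Nat.card_zpowers, huo])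
  have hYA : Y = A.map (MulAut.conj l).toMonoidHom := by
    have h1 : zpowers (l * a * l⁻¹) = Y := eq_of_le_of_card_ge (zpowers_le.2 (hYu ▸ hl)) (by
      rw [hYc, Nat.card_zpowers, show l * a * l⁻¹ = MulAut.conj l (a : H) from rfl, MulEquiv.orderOf_eq, hao])
    rw [← h1]
    exact eq_of_le_of_card_ge (zpowers_le.2 ⟨a, a.2, rfl⟩) (by
      rw [card_map_of_injective (MulAut.conj l).injective, hA5, Nat.card_zpowers,
        show l * a * l⁻¹ = MulAut.conj l (a : H) from rfl, MulEquiv.orderOf_eq, hao])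
  have hYt : SelfCount.IsTor Y := hYA ▸ hyp.tor_conj hA l
  have hu1 : (u : H) ≠ 1 := fun e => by rw [e, orderOf_one] at huo; omega
  have hcent : Y = centralizer ({(u : H)} : Set H) := hyp.tor_cent hYt u.2 hu1
  have huP : ((u : H) : G) ∈ P := (mem_subgroupOf.1 u.2).1
  refine ⟨fun g hg => ?_, ?_⟩
  · have hgX : g ∈ centralizer ({x} : Set G) := mem_cz.2 (hg x B.memx)
    obtain ⟨k, h, hh, rfl⟩ := hC.split g hgX
    have hxu : Commute x ((u : H) : G) := comm_of_card B.card B.memx huP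
    have hcu : Commute h ((u : H) : G) := by
      have h1 : Commute (x ^ k * h) ((u : H) : G) := hg _ huP
      have h2 := ((hxu.zpow_left k).inv_left).mul_left h1
      rwa [inv_mul_cancel_left] at h2
    have hhY : (⟨h, hh⟩ : H) ∈ Y := by rw [hcent]; exact mem_cz.2 (Subtype.ext hcu.eq)
    exact mul_mem (zpow_mem B.memx k) (mem_subgroupOf.1 hhY).1
  · have hPN : P ≤ normalizer (P : Set G) := le_normalizer
    rw [hC.card_split inf_le_left ⟨hC.self_mem, hPN B.memx⟩, show (50 : ℕ) = 5 * (5 * 2) from rfl]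
    congr 1
    rw [← hrel Y hYt hYc, ← hYc, ← hyp.card_normalizer]
    have hmem : ∀ h : H, (h : G) ∈ normalizer (P : Set G) ↔ h ∈ normalizer (Y : Set H) := by
      intro h
      constructor
      · intro hn
        refine mem_normalizer_iff.2 fun n => ?_
        have := (mem_normalizer_iff.1 hn (n : G))
        exact ⟨fun hn' => mem_subgroupOf.2 ⟨this.1 (mem_subgroupOf.1 hn').1, (h * n * h⁻¹).2⟩,
          fun hn' => mem_subgroupOf.2 ⟨this.2 (mem_subgroupOf.1 hn').1, n.2⟩⟩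
      · intro hn
        refine mem_normalizer_of_conj_map_eq (eq_of_le_of_card_ge ?_
          (by rw [card_map_of_injective (MulAut.conj (h : G)).injective]))
        rintro _ ⟨w, hw, rfl⟩
        obtain ⟨k, b, hb, rfl⟩ := hC.split w (hle hw)
        have hbP : b ∈ P := by
          have h2 := P.mul_mem (P.inv_mem (zpow_mem B.memx k)) hw
          rwa [inv_mul_cancel_left] at h2
        have hconj : (h : G) * b * (h : G)⁻¹ ∈ P :=
          (mem_subgroupOf.1 ((mem_normalizer_iff.1 hn ⟨b, hb⟩).1 (mem_subgroupOf.2 ⟨hbP, hb⟩))).1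
        have hxh : Commute (h : G) (x ^ k) := (show Commute (h : G) x from mem_cz.1 (hC.le h.2)).zpow_right k
        show (h : G) * (x ^ k * b) * (h : G)⁻¹ ∈ P
        rw [show (h : G) * (x ^ k * b) * (h : G)⁻¹ = (h : G) * x ^ k * (h : G)⁻¹ * ((h : G) * b * (h : G)⁻¹) by group,
          conj_eq_iff_comm.2 hxh.eq]
        exact mul_mem (zpow_mem B.memx k) hconj
    exact Nat.card_congr
      { toFun := fun c => ⟨⟨c.1, c.2.2⟩, (hmem ⟨c.1, c.2.2⟩).1 c.2.1.2⟩
        invFun := fun c => ⟨c.1.1, ⟨hC.le c.1.2, (hmem c.1).2 c.2⟩, c.1.2⟩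
        left_inv := fun _ => rfl
        right_inv := fun _ => rfl }

end Basis

/-- Conjugation preserves the intersection of a centralizer and a normalizer. -/
theorem card_cent_norm_conj (a x : G) (P : Subgroup G) :
    Nat.card ↥(centralizer ({a * x * a⁻¹} : Set G) ⊓ normalizer ((P.map (MulAut.conj a).toMonoidHom : Subgroup G) : Set G)) =
      Nat.card ↥(centralizer ({x} : Set G) ⊓ normalizer (P : Set G)) := by
  rw [show centralizer ({a * x * a⁻¹} : Set G) = (centralizer ({x} : Set G)).map (MulAut.conj a).toMonoidHom from ?_,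
    ← map_equiv_normalizer_eq, ← map_inf _ _ _ (MulAut.conj a).injective,
    card_map_of_injective (MulAut.conj a).injective]
  ext y
  rw [mem_map_equiv, MulAut.conj_symm_apply, mem_cz, mem_cz]
  constructor <;> intro h
  · calc a⁻¹ * y * a * x = a⁻¹ * (y * (a * x * a⁻¹)) * a := by group
      _ = a⁻¹ * (a * x * a⁻¹ * y) * a := by rw [h]
      _ = x * (a⁻¹ * y * a) := by group
  · calc y * (a * x * a⁻¹) = a * (a⁻¹ * y * a * x) * a⁻¹ := by group
      _ = a * (x * (a⁻¹ * y * a)) * a⁻¹ := by rw [h]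
      _ = a * x * a⁻¹ * y := by group

end

end CfsgLib.Spor.SuzType
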