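import Cfsg.Agent.Lib.Spor.SuzType.Five
import Cfsg.Agent.Lib.Spor.SuzType.Pair

/-!
# The Sylow five subgroup in a group of Suzuki type
-/

set_option autoImplicit false
set_option synthInstance.maxSize 4096

namespace CfsgLib.Spor.SuzType

open Subgroup CfsgLib.Spor.CoOneType CfsgLib.Invol

noncomputable section

variable {G : Type*} [Group G] [Finite G] {z : G} {Q : Subgroup G} {v : G → Vec} {ρ : G → Iso6}

/-- What is needed about a Sylow five subgroup. -/
structure FiveData (P : Subgroup G) (f f' : G) : Prop where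
  basis : Basis P f f'
  notconj : ∀ g : G, g * f * g⁻¹ ∉ zpowers f'
  cent : ∀ g : G, (∀ u ∈ P, g * u = u * g) → g ∈ P
  centf : Nat.card ↥(centralizer ({f} : Set G) ⊓ normalizer (P : Set G)) = 50
  normf : Nat.card ↥(normalizer (P : Set G) ⊓ normalizer (zpowers f : Set G)) = 200
  norm : Nat.card (normalizer (P : Set G)) = 600
  cover : ∀ u ∈ P, u ≠ 1 → (∃ n ∈ normalizer (P : Set G), n * f * n⁻¹ = u) ∨
    ∃ n ∈ normalizer (P : Set G), n * f' * n⁻¹ = u

/-- The data exist. -/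
theorem exists_five_data {g : G} {F : Pt z Q v ρ g} {t w : G} (T : F.Tri t w) :
    ∃ (P : Subgroup G) (f f' : G), FiveData P f f' := by
  classical
  haveI : Fact (Nat.Prime 5) := ⟨by norm_num⟩
  haveI := Fintype.ofFinite G
  have hG := T.card_eq
  have h125 : ¬ 5 ^ 3 ∣ Nat.card G := by rw [hG]; norm_num
  obtain ⟨f, hfz, hfo, hfρ⟩ := F.exists_five
  obtain ⟨x, hxL, hxo⟩ := T.exists_order (p := 5) (by norm_num)
  obtain ⟨h1, hcard, -, hfull⟩ := T.five_K hxL hxo
  -- a Sylow subgroup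
  obtain ⟨S, hS⟩ := (IsPGroup.of_card (n := 1) (p := 5) (by rw [Nat.card_zpowers, hfo, pow_one]) :
    IsPGroup 5 (zpowers f)).exists_le_sylow
  set P := (S : Subgroup G) with hPdef
  have hP : Nat.card P = 25 := by
    rw [hPdef, S.card_eq_multiplicity, hG, show (448345497600 : ℕ) = 5 ^ 2 * 17933819904 by norm_num,
      Nat.factorization_mul (by norm_num) (by norm_num), Finsupp.add_apply, Nat.Prime.factorization_pow (by norm_num),
      Finsupp.single_eq_same, Nat.factorization_eq_zero_of_not_dvd (by norm_num)]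
    rfl
  obtain ⟨a, ha⟩ := exists_conj_le_sylow (p := 5) (Q := zpowers x)
    (IsPGroup.of_card (n := 1) (by rw [Nat.card_zpowers, hxo, pow_one])) S
  set f' := a * x * a⁻¹ with hf'
  have hf'P : f' ∈ P := ha _ (mem_zpowers x)
  have hf'o : orderOf f' = 5 := by rw [hf', show a * x * a⁻¹ = MulAut.conj a x from rfl, MulEquiv.orderOf_eq, hxo]
  have hfP : f ∈ P := hS (mem_zpowers f)
  have hnc : ∀ k : G, k * f * k⁻¹ ∉ zpowers f' := by
    rintro k ⟨i, hi⟩
    replace hi : f' ^ i = k * f * k⁻¹ := hi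
    rw [hf', conj_zpow] at hi
    have hxt : Commute t (x ^ i) := ((show Commute x t from mem_cz.1 (T.L_le hxL).1).zpow_left i).symm
    have hxi : x ^ i = a⁻¹ * k * f * (a⁻¹ * k)⁻¹ := by
      rw [show x ^ i = a⁻¹ * (a * x ^ i * a⁻¹) * a by group, hi]; group
    rw [hxi] at hxt
    have hj : (a⁻¹ * k)⁻¹ * t * (a⁻¹ * k) ∈ centralizer ({f} : Set G) := by
      refine mem_cz.2 ?_
      calc (a⁻¹ * k)⁻¹ * t * (a⁻¹ * k) * f
          = (a⁻¹ * k)⁻¹ * (t * (a⁻¹ * k * f * (a⁻¹ * k)⁻¹)) * (a⁻¹ * k) := by group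
        _ = (a⁻¹ * k)⁻¹ * (a⁻¹ * k * f * (a⁻¹ * k)⁻¹ * t) * (a⁻¹ * k) := by rw [hxt.eq]
        _ = f * ((a⁻¹ * k)⁻¹ * t * (a⁻¹ * k)) := by group
    exact T.not_conj_z ((F.five_invol hfz hfo hfρ hj (by
      rw [show (a⁻¹ * k)⁻¹ * t * (a⁻¹ * k) = MulAut.conj (a⁻¹ * k)⁻¹ t by simp [MulAut.conj_apply, mul_assoc],
        MulEquiv.orderOf_eq, T.t_ord])).trans (isConj_iff.2 ⟨a⁻¹ * k, by group⟩))
  have hout : f' ∉ zpowers f := fun hm => by
    have h := eq_of_le_of_card_ge (zpowers_le.2 hm)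
      (by rw [Nat.card_zpowers, Nat.card_zpowers, hfo, hf'o])
    exact hnc 1 (by rw [h]; simp)
  have B : Basis P f f' := ⟨hP, hfP, hf'P, hfo, hf'o, hout⟩
  -- the first element
  obtain ⟨H, hC, h5⟩ := B.exists_compl h125
  obtain ⟨_, hyp, hH, hex, hrel⟩ := F.five_compl hfz hfo hfρ hC h5
  obtain ⟨hcentP, hcentf⟩ := B.local_data hC (by rw [hH]; norm_num) hyp hex hrel
  -- the second element
  set P' := P.map (MulAut.conj a⁻¹).toMonoidHom with hP'
  have hmem' : ∀ u : G, u ∈ P → a⁻¹ * u * a ∈ P' := fun u hu =>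
    ⟨u, hu, by simp [MulAut.conj_apply]⟩
  have hPP' : P'.map (MulAut.conj a).toMonoidHom = P := by
    rw [hP', Subgroup.map_map]
    ext u
    simp [Subgroup.mem_map, MulAut.conj_apply, mul_assoc]
  have B' : Basis P' x (a⁻¹ * f * a) := by
    refine ⟨by rw [hP', card_map_of_injective (MulAut.conj a⁻¹).injective, hP], ?_, hmem' f hfP, hxo, ?_, ?_⟩
    · have := hmem' f' hf'P
      rwa [hf', show a⁻¹ * (a * x * a⁻¹) * a = x by group] at this
    · rw [show a⁻¹ * f * a = MulAut.conj a⁻¹ f by simp [MulAut.conj_apply], MulEquiv.orderOf_eq, hfo]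
    · rintro ⟨i, hi⟩
      refine hnc 1 ⟨i, ?_⟩
      show f' ^ i = 1 * f * 1⁻¹
      rw [hf', conj_zpow, show x ^ i = a⁻¹ * f * a from hi]; group
  obtain ⟨H', hC', h5'⟩ := B'.exists_compl h125
  obtain ⟨hyp', hH', hrel'⟩ :=
    T.compl_data (by norm_num) hxL hxo (by rw [T.card_K]; norm_num) h1 hcard hfull hC'
  obtain ⟨hH60, hex'⟩ := hH'.resolve_left fun e => by rw [e] at h5'; norm_num at h5'
  obtain ⟨-, hcentx⟩ := B'.local_data hC' (by rw [hH60]; norm_num) hyp' hex' (fun A hA _ => hrel' A hA)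
  have hcentf' : Nat.card ↥(centralizer ({f'} : Set G) ⊓ normalizer (P : Set G)) = 50 := by
    rw [← hcentx, ← card_cent_norm_conj a x P', hPP']
  -- all generators in the normalizer
  set N := normalizer (P : Set G) with hN
  have hPN : P ≤ N := le_normalizer
  have hfullN : ∀ y ∈ zpowers f, y ≠ 1 → ∃ n ∈ N ⊓ normalizer (zpowers f : Set G), n * f * n⁻¹ = y := by
    intro y hy hy1
    obtain ⟨c, -, hc⟩ := F.five_full hfz hfo hfρ y hy hy1
    set X := centralizer ({f} : Set G)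
    have hPX := B.le_cent hfP
    have hyX : ∀ d ∈ X, d * y = y * d := fun d hd => by
      obtain ⟨i, rfl⟩ := hy
      exact (show Commute d f from mem_cz.1 hd).zpow_right i
    have hcP : P.map (MulAut.conj c).toMonoidHom ≤ X := by
      rintro _ ⟨u, hu, rfl⟩
      refine mem_cz.2 ?_
      have hfy : f ∈ zpowers y := by
        obtain ⟨i, rfl⟩ := hy
        exact (zpow_eq_one_or_gen hfo i).resolve_left hy1
      obtain ⟨j, hj⟩ := hfy
      rw [← hj, ← hc]
      have h : Commute u f := comm_of_card hP hu hfP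
      have h2 := (Commute.map h (MulAut.conj c).toMonoidHom).zpow_right j
      exact h2.eq
    have hidx : ¬ 5 ∣ (P.subgroupOf X).index := fun hd => by
      have h := (P.subgroupOf X).card_mul_index
      rw [Nat.card_congr (subgroupOfEquivOfLe hPX).toEquiv, hP] at h
      exact h125 ((show 5 ^ 3 = 25 * 5 from rfl) ▸ ((mul_dvd_mul_left 25 hd).trans (h ▸ card_subgroup_dvd_card _)))
    have hp2 : IsPGroup 5 P := IsPGroup.of_card (n := 2) (by rw [hP]; norm_num)
    obtain ⟨d, hd⟩ := exists_conj_le_sylow (p := 5) (Q := (P.map (MulAut.conj c).toMonoidHom).subgroupOf X)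
      ((hp2.map _).comap_of_injective X.subtype X.subtype_injective)
      ((hp2.comap_of_injective X.subtype X.subtype_injective).toSylow hidx)
    have hny : ((d : G) * c) * f * ((d : G) * c)⁻¹ = y := by
      rw [show (d : G) * c * f * ((d : G) * c)⁻¹ = (d : G) * (c * f * c⁻¹) * (d : G)⁻¹ by group, hc]
      exact conj_eq_iff_comm.2 (hyX d d.2)
    refine ⟨(d : G) * c, ⟨?_, mem_normalizer_zpowers.2 (hny.symm ▸ hy)⟩, hny⟩
    refine mem_normalizer_of_conj_map_eq (eq_of_le_of_card_ge ?_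
      (by rw [card_map_of_injective (MulAut.conj ((d : G) * c)).injective]))
    rintro _ ⟨u, hu, rfl⟩
    have hmm : MulAut.conj c u ∈ P.map (MulAut.conj c).toMonoidHom := ⟨u, hu, rfl⟩
    have h2 := mem_subgroupOf.1 (show d * ⟨_, hcP hmm⟩ * d⁻¹ ∈ P.subgroupOf X from hd _ (mem_subgroupOf.2 hmm))
    show MulAut.conj ((d : G) * c) u ∈ P
    rw [map_mul, MulAut.mul_apply]
    exact h2
  have h200 : Nat.card ↥(N ⊓ normalizer (zpowers f : Set G)) = 200 := by
    rw [card_of_full (N := N ⊓ normalizer (zpowers f : Set G)) hfo (fun n hn => mem_normalizer_zpowers.1 hn.2) hfullN,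
      show (200 : ℕ) = (5 - 1) * 50 from rfl, ← hcentf]
    congr 1
    exact Nat.card_congr (Equiv.subtypeEquivRight fun c => ⟨fun h => ⟨h.2, h.1.1⟩, fun h =>
      ⟨⟨h.2, mem_normalizer_zpowers.2 (by rw [conj_eq_iff_comm.2 (mem_cz.1 h.1)]; exact mem_zpowers f)⟩, h.1⟩⟩)
  -- the two orbits
  have ho1 := card_orbit_mul N f
  have ho2 := card_orbit_mul N f'
  rw [show N ⊓ centralizer ({f} : Set G) = centralizer ({f} : Set G) ⊓ N from inf_comm _ _, hcentf] at ho1
  rw [show N ⊓ centralizer ({f'} : Set G) = centralizer ({f'} : Set G) ⊓ N from inf_comm _ _, hcentf'] at ho2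
  have horb : ∀ u ∈ P, u ≠ 1 → ∀ n ∈ N, n * u * n⁻¹ ∈ P ∧ n * u * n⁻¹ ≠ 1 := fun u hu hu1 n hn =>
    ⟨(mem_normalizer_iff.1 hn u).1 hu, fun e => hu1 (conj_eq_one_iff.1 e)⟩
  have hf1 : f ≠ 1 := fun e => by rw [e, orderOf_one] at hfo; omega
  have hf'1 : f' ≠ 1 := fun e => by rw [e, orderOf_one] at hf'o; omega
  let J : {u : G // ∃ n ∈ N, n * f * n⁻¹ = u} ⊕ {u : G // ∃ n ∈ N, n * f' * n⁻¹ = u} → {u : P // ¬ u = 1} :=
    Sum.elim
      (fun u => ⟨⟨u.1, by obtain ⟨n, hn, e⟩ := u.2; exact e ▸ (horb f hfP hf1 n hn).1⟩, fun e1 => by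
        obtain ⟨n, hn, e⟩ := u.2
        exact (horb f hfP hf1 n hn).2 (e.trans (congrArg Subtype.val e1 :))⟩)
      (fun u => ⟨⟨u.1, by obtain ⟨n, hn, e⟩ := u.2; exact e ▸ (horb f' hf'P hf'1 n hn).1⟩, fun e1 => by
        obtain ⟨n, hn, e⟩ := u.2
        exact (horb f' hf'P hf'1 n hn).2 (e.trans (congrArg Subtype.val e1 :))⟩)
  have hJ : Function.Injective J := by
    rintro (⟨u, n, hn, hu⟩ | ⟨u, n, hn, hu⟩) (⟨v', n', hn', hv⟩ | ⟨v', n', hn', hv⟩) e <;>
      replace e : u = v' := congrArg (fun q : {u : P // ¬ u = 1} => ((q : P) : G)) e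
    · subst e; rfl
    · refine absurd (⟨1, ?_⟩ : n'⁻¹ * n * f * (n'⁻¹ * n)⁻¹ ∈ zpowers f') (hnc _)
      show f' ^ (1 : ℤ) = _
      rw [zpow_one, show n'⁻¹ * n * f * (n'⁻¹ * n)⁻¹ = n'⁻¹ * (n * f * n⁻¹) * n' by group, hu, e, ← hv]
      group
    · refine absurd (⟨1, ?_⟩ : n⁻¹ * n' * f * (n⁻¹ * n')⁻¹ ∈ zpowers f') (hnc _)
      show f' ^ (1 : ℤ) = _
      rw [zpow_one, show n⁻¹ * n' * f * (n⁻¹ * n')⁻¹ = n⁻¹ * (n' * f * n'⁻¹) * n by group, hv, ← e, ← hu]
      group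
    · subst e; rfl
  have hle := Nat.card_le_card_of_injective J hJ
  have h24 : Nat.card {u : P // ¬ u = 1} = 24 := by
    rw [Nat.card_eq_fintype_card, Fintype.card_subtype_compl, Fintype.card_subtype_eq, ← Nat.card_eq_fintype_card, hP]
  rw [Nat.card_sum, h24] at hle
  have hdvd : 200 ∣ Nat.card N := h200 ▸ card_dvd_of_le inf_le_left
  have hmod := card_sylow_modEq_one 5 G
  rw [Sylow.card_eq_index_normalizer S, show (S : Set G) = (P : Set G) from rfl, ← hN] at hmod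
  have hmul := N.card_mul_index
  rw [hG] at hmul
  change N.index % 5 = 1 % 5 at hmod
  have h600 : Nat.card N = 600 := by
    have h1 : Nat.card N ≤ 600 := by omega
    have h2 : 0 < Nat.card N := Nat.card_pos
    obtain ⟨m, hm⟩ := hdvd
    rw [hm] at h1 h2 hmul ⊢
    have hm3 : m ≤ 3 := by omega
    interval_cases m <;> omega
  refine ⟨P, f, f', B, hnc, hcentP, hcentf, h200, h600, fun u hu hu1 => ?_⟩
  have hbij : Function.Bijective J :=
    (Nat.bijective_iff_injective_and_card _).2 ⟨hJ, by rw [Nat.card_sum, h24]; omega⟩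
  obtain ⟨q, hq⟩ := hbij.2 ⟨⟨u, hu⟩, fun e => hu1 (congrArg Subtype.val e)⟩
  rcases q with ⟨w', hw⟩ | ⟨w', hw⟩
  · obtain rfl : w' = u := congrArg (fun q : {u : P // ¬ u = 1} => ((q : P) : G)) hq
    exact Or.inl hw
  · obtain rfl : w' = u := congrArg (fun q : {u : P // ¬ u = 1} => ((q : P) : G)) hq
    exact Or.inr hw

end

end CfsgLib.Spor.SuzType
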