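import Cfsg.Agent.Lib.Spor.SuzType.Distinct
import Mathlib.Data.Finset.Card

/-!
# The two-group at a point: products, commutators and conjugation on parameters
-/

set_option autoImplicit false
set_option synthInstance.maxSize 4096

namespace CfsgLib.Spor.SuzType

open Subgroup CfsgLib.Spor.CoOneType

noncomputable section

variable {G : Type*} [Group G] [Finite G] {z : G} {Q : Subgroup G} {v : G → Vec} {ρ : G → Iso6}

/-- The square of an element, on parameters. -/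
def sqp (p : W4 × W4) : ZMod 2 × ZMod 2 := (q4 p.1 + pl4 p.1 p.2, q4 p.2 + pl4 p.1 p.2)

/-- The commutator of two elements, on parameters. -/
def cmp (p p' : W4 × W4) : ZMod 2 × ZMod 2 :=
  (pl4 p.1 p'.1 + pl4 p.1 p'.2 + pl4 p'.1 p.2, pl4 p.2 p'.2 + pl4 p.1 p'.2 + pl4 p'.1 p.2)

theorem sqp_add (p p' : W4 × W4) : sqp (p + p') = sqp p + sqp p' + cmp p p' := by
  obtain ⟨a, c⟩ := p
  obtain ⟨a', c'⟩ := p'
  simp only [sqp, cmp, Prod.mk_add_mk, Prod.fst_add, Prod.snd_add, q4_add, SuzType.pl4_add_left,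
    SuzType.pl4_add_right]
  refine Prod.ext ?_ ?_ <;> simp only <;> ring

theorem pair_add_self (p : ZMod 2 × ZMod 2) : p + p = 0 :=
  Prod.ext (CharTwo.add_self_eq_zero _) (CharTwo.add_self_eq_zero _)

theorem cmp_comm (p p' : W4 × W4) : cmp p p' = cmp p' p := by
  simp only [cmp, SuzType.pl4_comm p'.1 p.1, SuzType.pl4_comm p'.2 p.2]
  refine Prod.ext ?_ ?_ <;> simp only <;> ring

theorem pr_add (x y : Vec) : pr (x + y) = pr x + pr y := by
  conv_lhs => rw [← vmk_eta x, ← vmk_eta y, vmk_add, pr_vmk]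

theorem yc_add (x y : Vec) : yc (x + y) = yc x + yc y := rfl

theorem pr_w0 : pr w0 = 0 := by decide +kernel

theorem pr_f0 : pr f0 = 0 := by decide +kernel

theorem pr_smul_w0 (s : ZMod 2) : pr (s • w0) = 0 := by
  rcases two_cases s with rfl | rfl
  · rw [zero_smul]; decide +kernel
  · rw [one_smul, pr_w0]

/-- The map induced on the four-space. -/
def hp (k : Iso6) (u : W4) : W4 := pr (act k (vmk 0 0 u))

theorem hp_add (k : Iso6) (a c : W4) : hp k (a + c) = hp k a + hp k c := by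
  show pr (act k _) = _
  rw [show vmk 0 0 (a + c) = vmk 0 0 a + vmk 0 0 c by rw [vmk_add, add_zero], act_add, pr_add]
  rfl

theorem hp_zero (k : Iso6) : hp k 0 = 0 := by
  have h := hp_add k 0 0
  rw [add_zero] at h
  exact add_eq_left.1 h.symm

theorem hp_pl {k : Iso6} (hw : act k w0 = w0) (a c : W4) : pl4 (hp k a) (hp k c) = pl4 a c := by
  have h := pol_act k (vmk 0 0 a) (vmk 0 0 c)
  change pl (act k (vmk 0 0 a)) (act k (vmk 0 0 c)) = pl (vmk 0 0 a) (vmk 0 0 c) at h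
  rw [← vmk_eta (act k (vmk 0 0 a)), ← vmk_eta (act k (vmk 0 0 c)), yc_act hw, yc_act hw, yc_vmk, yc_vmk,
    pl_vmk, pl_vmk] at h
  simpa [hp] using h

theorem hp_q {k : Iso6} (hw : act k w0 = w0) (a : W4) : q4 (hp k a) = q4 a := by
  have h := qf_act k (vmk 0 0 a)
  rw [← vmk_eta (act k (vmk 0 0 a)), yc_act hw, yc_vmk, qf_vmk, qf_vmk] at h
  simpa [hp] using h

theorem pr_act_perp {k : Iso6} (hw : act k w0 = w0) {x : Vec} (hx : yc x = 0) : pr (act k x) = hp k (pr x) := by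
  conv_lhs => rw [decomp x, hx, zero_smul, add_zero, act_add, act_smul, hw, pr_add, pr_smul_w0, add_zero]
  rfl

theorem sieg_yc_one : ∀ (c : W4) (w : Vec), yc w = 1 →
    sieg c w = w + (pl4 (pr w) c + q4 c) • w0 + vmk 0 0 c := by decide +kernel

namespace Pt

variable {g : G} (F : Pt z Q v ρ g)

/-- An element of the four group from a pair. -/
abbrev zp (F : Pt z Q v ρ g) (p : ZMod 2 × ZMod 2) : G := F.zi p.1 p.2

/-- A chosen element with given parameters. -/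
def el' (F : Pt z Q v ρ g) (p : W4 × W4) : G := Classical.choose (F.exists_form p.1 p.2)

include F

theorem el'_form (p : W4 × W4) : F.Form p.1 p.2 (F.el' p) := Classical.choose_spec (F.exists_form p.1 p.2)

theorem zp_zero : F.zp 0 = 1 := F.zi_zero

theorem zp_add (p p' : ZMod 2 × ZMod 2) : F.zp p * F.zp p' = F.zp (p + p') := F.zi_add _ _ _ _

theorem zp_inj {p p' : ZMod 2 × ZMod 2} (h : F.zp p = F.zp p') : p = p' :=
  Prod.ext (F.zi_inj h).1 (F.zi_inj h).2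

theorem zp_sq (p : ZMod 2 × ZMod 2) : F.zp p * F.zp p = 1 := by rw [F.zp_add, pair_add_self, F.zp_zero]

theorem zp_inv (p : ZMod 2 × ZMod 2) : (F.zp p)⁻¹ = F.zp p := inv_eq_of_mul_eq_one_right (F.zp_sq p)

theorem zp_z : F.zp (1, 0) = z := by simp [zp, zi, ZMod.val_one]

theorem zp_pt : F.zp (0, 1) = F.pt := by simp [zp, zi, ZMod.val_one]

theorem form_comm_zp {a c : W4} {x : G} (hx : F.Form a c x) (p : ZMod 2 × ZMod 2) : x * F.zp p = F.zp p * x :=
  F.zi_comm (F.form_cz hx) (F.form_ci hx) _ _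

theorem pr_zi (s t : ZMod 2) : pr (v (F.zi s t)) = 0 := by
  rw [zi, F.setup.v_mul _ (pow_mem F.setup.core.mem _) _ (pow_mem F.mem _)]
  rcases two_cases s with rfl | rfl <;> rcases two_cases t with rfl | rfl <;>
    simp [ZMod.val_one, F.setup.v_one, F.setup.v_z, F.val] <;> decide +kernel

theorem form_one : F.Form 0 0 (1 : G) :=
  ⟨1, one_mem _, 1, one_mem _, by rw [← F.zi_zero]; exact F.pr_zi 0 0, by rw [← F.zi_zero]; exact F.phi_zi 0 0,
    (one_mul 1).symm⟩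

theorem form_zp {a c : W4} {x : G} (hx : F.Form a c x) (p : ZMod 2 × ZMod 2) : F.Form a c (F.zp p * x) := by
  obtain ⟨q, hq, r, hr, rfl, rfl, rfl⟩ := hx
  exact ⟨F.zp p * q, mul_mem (F.zi_R _ _) hq, r, hr, by rw [F.pr_mul (F.zi_R _ _) hq, F.pr_zi, zero_add], rfl,
    (mul_assoc _ _ _).symm⟩

theorem form_zp_self (p : ZMod 2 × ZMod 2) : F.Form 0 0 (F.zp p) := by
  simpa using F.form_zp F.form_one p

theorem form_mul {a c a' c' : W4} {x y : G} (hx : F.Form a c x) (hy : F.Form a' c' y) :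
    F.Form (a + a') (c + c') (x * y) := by
  obtain ⟨q, hq, r, hr, rfl, rfl, rfl⟩ := hx
  obtain ⟨q', hq', r', hr', rfl, rfl, rfl⟩ := hy
  have h : q * r * (q' * r') = F.zi (pl4 (pr (v q')) (F.phi r)) (pl4 (pr (v q')) (F.phi r)) * (q * q' * (r * r')) := by
    rw [show q * r * (q' * r') = q * (r * q') * r' by group, F.swap_rule hq' hr,
      ← mul_assoc q, F.central_R hq]
    group
  rw [h]
  exact F.form_zp ⟨q * q', mul_mem hq hq', r * r', mul_mem hr hr', F.pr_mul hq hq', F.phi_mul hr hr', rfl⟩ (_, _)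

theorem form_params {a c a' c' : W4} {x : G} (hx : F.Form a c x) (hy : F.Form a' c' x) : a = a' ∧ c = c' := by
  have hc : c = c' := by
    have h := congrArg pr ((F.form_rho hx f0).symm.trans (F.form_rho hy f0))
    rwa [sieg_f0, sieg_f0] at h
  refine ⟨?_, hc⟩
  obtain ⟨q, hq, r, hr, rfl, rfl, rfl⟩ := hx
  obtain ⟨q', hq', r', hr', rfl, -, e⟩ := hy
  have h2 : q'⁻¹ * q = r' * r⁻¹ := by
    rw [eq_mul_inv_iff_mul_eq, mul_assoc, e, inv_mul_cancel_left]
  obtain ⟨s, t, hst⟩ := F.inter (mul_mem (inv_mem hq'.1) hq.1) (h2 ▸ mul_mem hr'.1 (inv_mem hr.1))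
  rw [eq_mul_of_inv_mul_eq hst, F.pr_mul hq' (F.zi_R s t), F.pr_zi, add_zero]

theorem form_sqp {p : W4 × W4} {x : G} (hx : F.Form p.1 p.2 x) : x * x = F.zp (sqp p) := F.form_sq hx

theorem form_inv {a c : W4} {x : G} (hx : F.Form a c x) : F.Form a c x⁻¹ := by
  have h := F.form_sqp (p := (a, c)) hx
  have e : x⁻¹ = F.zp (sqp (a, c)) * x := by
    refine inv_eq_of_mul_eq_one_right ?_
    rw [← mul_assoc, F.form_comm_zp hx, mul_assoc, h, F.zp_sq]
  rw [e]
  exact F.form_zp hx _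

theorem form_unique {a c : W4} {x y : G} (hx : F.Form a c x) (hy : F.Form a c y) : ∃ p, y = F.zp p * x := by
  obtain ⟨q, hq, r, hr, rfl, rfl, rfl⟩ := hx
  obtain ⟨q', hq', r', hr', hqa, hrc, rfl⟩ := hy
  obtain ⟨s, t, e1⟩ : ∃ s t, q⁻¹ * q' = F.zi s t := F.zi_of_zero (mul_mem (inv_mem hq) hq') (by
    rw [F.pr_mul (inv_mem hq) hq', F.setup.v_inv hq.1, hqa, w4_add_self])
  obtain ⟨s', t', e2⟩ : ∃ s t, r⁻¹ * r' = F.zi s t := F.phi_zero (mul_mem (inv_mem hr) hr') (by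
    have h1 := F.phi_mul hr (mul_mem (inv_mem hr) hr')
    rw [mul_inv_cancel_left, hrc] at h1
    exact add_eq_left.1 h1.symm)
  refine ⟨(s + s', t + t'), ?_⟩
  rw [eq_mul_of_inv_mul_eq e1, eq_mul_of_inv_mul_eq e2]
  calc q * F.zi s t * (r * F.zi s' t') = F.zi s t * q * (r * F.zi s' t') := by rw [F.central_R hq]
    _ = F.zi s t * ((q * r) * F.zi s' t') := by group
    _ = F.zi s t * (F.zi s' t' * (q * r)) := by
      rw [F.zi_comm (mul_mem (F.setup.le hq.1) hr.2) (mul_mem hq.2 (F.R'_ci hr))]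
    _ = _ := by rw [← mul_assoc, F.zi_add]

/-- The commutator rule for elements with parameters. -/
theorem form_comm {p p' : W4 × W4} {x y : G} (hx : F.Form p.1 p.2 x) (hy : F.Form p'.1 p'.2 y) :
    x * y = F.zp (cmp p p') * (y * x) := by
  have hxy : F.Form (p + p').1 (p + p').2 (x * y) := F.form_mul hx hy
  have h12 := F.form_sqp hxy
  rw [sqp_add] at h12
  have h3 : x * y * (x * y) = F.zp (cmp p p') * (x * x * (y * y)) := by
    rw [h12, F.form_sqp hx, F.form_sqp hy, F.zp_add, F.zp_add, add_comm]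
  have h4 : y * x = F.zp (cmp p p') * (x * y) := by
    refine mul_left_cancel (a := x) (mul_right_cancel (b := y) ?_)
    calc x * (y * x) * y = x * y * (x * y) := by group
      _ = F.zp (cmp p p') * (x * x * (y * y)) := h3
      _ = F.zp (cmp p p') * x * (x * y) * y := by group
      _ = _ := by rw [← F.form_comm_zp hx]; group
  rw [h4, ← mul_assoc, F.zp_sq, one_mul]

theorem form_commute {p p' : W4 × W4} {x y : G} (hx : F.Form p.1 p.2 x) (hy : F.Form p'.1 p'.2 y) :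
    x * y = y * x ↔ cmp p p' = 0 := by
  have h := F.form_comm hx hy
  constructor
  · intro e
    refine F.zp_inj ?_
    rw [F.zp_zero]
    rw [e] at h
    exact (mul_eq_right.1 h.symm)
  · intro e
    rw [h, e, F.zp_zero, one_mul]

theorem card_forms (P : Finset (W4 × W4)) :
    Nat.card {x : G // ∃ p ∈ P, F.Form p.1 p.2 x} = 4 * P.card := by
  have e : Nat.card {x : G // ∃ p ∈ P, F.Form p.1 p.2 x} = Nat.card ((ZMod 2 × ZMod 2) × P) := by
    refine (Nat.card_eq_of_bijective (fun q : (ZMod 2 × ZMod 2) × P =>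
      (⟨F.zp q.1 * F.el' q.2.1, q.2.1, q.2.2, F.form_zp (F.el'_form _) _⟩ : {x : G // ∃ p ∈ P, F.Form p.1 p.2 x}))
      ⟨?_, ?_⟩).symm
    · rintro ⟨s, p, hp⟩ ⟨s', p', hp'⟩ h
      replace h : F.zp s * F.el' p = F.zp s' * F.el' p' := congrArg Subtype.val h
      have h1 := F.form_zp (F.el'_form p) s
      rw [h] at h1
      obtain ⟨e1, e2⟩ := F.form_params h1 (F.form_zp (F.el'_form p') s')
      obtain rfl : p = p' := Prod.ext e1 e2
      rw [F.zp_inj (mul_right_cancel h)]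
    · rintro ⟨x, p, hp, hx⟩
      obtain ⟨s, rfl⟩ := F.form_unique (F.el'_form p) hx
      exact ⟨(s, ⟨p, hp⟩), rfl⟩
  rw [e, Nat.card_prod, Nat.card_prod, Nat.card_zmod, Nat.card_eq_fintype_card, Fintype.card_coe]

/-- The elements with parameters in an additively closed set. -/
def fsub (P : W4 × W4 → Prop) (h0 : P 0) (hadd : ∀ p p', P p → P p' → P (p + p')) : Subgroup G where
  carrier := {x | ∃ p, P p ∧ F.Form p.1 p.2 x}
  one_mem' := ⟨0, h0, F.form_one⟩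
  mul_mem' := by
    rintro x y ⟨p, hp, hx⟩ ⟨p', hp', hy⟩
    exact ⟨p + p', hadd p p' hp hp', F.form_mul hx hy⟩
  inv_mem' := by
    rintro x ⟨p, hp, hx⟩
    exact ⟨p, hp, F.form_inv hx⟩

theorem mem_R_form {x : G} (hx : x ∈ F.R) : F.Form (pr (v x)) 0 x :=
  ⟨x, hx, 1, one_mem _, rfl, by rw [← F.zi_zero]; exact F.phi_zi 0 0, (mul_one x).symm⟩

theorem mem_R'_form {x : G} (hx : x ∈ F.R') : F.Form 0 (F.phi x) x :=
  ⟨1, one_mem _, x, hx, by rw [← F.zi_zero]; exact F.pr_zi 0 0, rfl, (one_mul x).symm⟩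

theorem form_mem_Qi {c : W4} {x : G} (hx : F.Form 0 c x) : x ∈ F.Qi := by
  obtain ⟨q, hq, r, hr, hqa, -, rfl⟩ := hx
  obtain ⟨s, t, rfl⟩ := F.zi_of_zero hq hqa
  exact mul_mem (F.zi_mem s t).2 hr.1

theorem form_mem_Q {a : W4} {x : G} (hx : F.Form a 0 x) : x ∈ Q ∧ pr (v x) = a ∧ yc (v x) = 0 := by
  obtain ⟨q, hq, r, hr, hqa, hrc, rfl⟩ := hx
  obtain ⟨s, t, rfl⟩ := F.phi_zero hr hrc
  have hm : q * F.zi s t ∈ F.R := mul_mem hq (F.zi_R s t)
  exact ⟨hm.1, by rw [F.pr_mul hq (F.zi_R s t), hqa, F.pr_zi, add_zero], (F.mem_R.1 hm).2⟩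

theorem exists_swap : ∃ s ∈ Q, v s = f0 ∧ s * F.pt * s⁻¹ = F.pt * z := by
  obtain ⟨s, hs, e⟩ := F.setup.v_surj f0
  refine ⟨s, hs, e, (F.setup.conj_or F.mem hs).resolve_left fun h => ?_⟩
  have h2 := (F.setup.v_comm s hs _ F.mem).2 (conj_eq_iff_comm.1 h)
  rw [e, F.val] at h2
  revert h2
  decide +kernel

/-- The frame at the other point over the same vector. -/
theorem swap_frame {s : G} (hs : s ∈ Q) (hsp : s * F.pt * s⁻¹ = F.pt * z) : Pt z Q v ρ (s * g) := by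
  have e : s * g * z * (s * g)⁻¹ = F.pt * z := by rw [← hsp]; show _ = s * (g * z * g⁻¹) * s⁻¹; group
  exact ⟨F.setup, e ▸ mul_mem F.mem F.setup.core.mem, by rw [e, F.setup.v_mul_z F.mem]; exact F.val⟩

theorem form_shift' {s : G} (hs : s ∈ Q) (hvs : v s = f0) {a c : W4} {x : G} (hx : F.Form a c x) :
    F.Form (a + c) c (s * x * s⁻¹) := by
  obtain ⟨q, hq, r, hr, rfl, rfl, rfl⟩ := hx
  set q' := r⁻¹ * s * r * s⁻¹ with hq'
  have hri : r⁻¹ * s * r ∈ Q := by simpa using F.setup.norm (inv_mem (F.R'_cz hr)) hs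
  have hq'Q : q' ∈ Q := mul_mem hri (inv_mem hs)
  obtain ⟨-, hc⟩ := F.form_params (F.form_inv (F.mem_R'_form hr)) (F.mem_R'_form (inv_mem hr))
  have hv : v q' = vmk (q4 (F.phi r)) 0 (F.phi r) := by
    rw [hq', F.setup.v_mul _ hri _ (inv_mem hs), F.setup.v_inv hs,
      show r⁻¹ * s * r = r⁻¹ * s * r⁻¹⁻¹ by rw [inv_inv],
      F.setup.ρ_act _ (inv_mem (F.R'_cz hr)) s hs, F.rho_R' (inv_mem hr), ← hc, hvs, F.sieg_diff]
  have hq'R : q' ∈ F.R := F.mem_R.2 ⟨hq'Q, by rw [hv]; rfl⟩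
  have hp' : pr (v q') = F.phi r := by rw [hv, pr_vmk]
  have e1 : s * r * s⁻¹ = r * q' := by rw [hq']; group
  have e2 : r * q' = q' * r := by
    rw [F.swap_rule hq'R hr, hp', pl4_self, F.zi_zero, one_mul]
  obtain ⟨e, he⟩ : ∃ e : ZMod 2, s * q * s⁻¹ = q * F.zi e 0 := by
    rcases F.setup.conj_or hq.1 hs with h | h
    · exact ⟨0, by rw [h, F.zi_zero, mul_one]⟩
    · exact ⟨1, by rw [h]; simp [zi, ZMod.val_one]⟩
  refine ⟨q * F.zi e 0 * q', mul_mem (mul_mem hq (F.zi_R e 0)) hq'R, r, hr, ?_, rfl, ?_⟩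
  · rw [F.pr_mul (mul_mem hq (F.zi_R e 0)) hq'R, F.pr_mul hq (F.zi_R e 0), hp', F.pr_zi, add_zero]
  · calc s * (q * r) * s⁻¹ = (s * q * s⁻¹) * (s * r * s⁻¹) := by group
      _ = q * F.zi e 0 * (q' * r) := by rw [he, e1, e2]
      _ = _ := by group

theorem fix_w0 {y : G} (hy : y ∈ centralizer ({z} : Set G)) (hw : act (ρ y) w0 = w0) :
    y * F.pt * y⁻¹ = F.pt ∨ y * F.pt * y⁻¹ = F.pt * z :=
  (F.setup.v_eq (F.setup.norm hy F.mem) F.mem).1 (by rw [F.setup.ρ_act y hy _ F.mem, F.val, hw])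

theorem rho_ci {y : G} (hy : y ∈ centralizer ({z} : Set G)) (hyp : y ∈ centralizer ({F.pt} : Set G)) :
    act (ρ y) w0 = w0 := by
  rw [← F.val, ← F.setup.ρ_act y hy _ F.mem, conj_eq_iff_comm.2 (mem_cz.1 hyp)]

/-- Conjugation by an element centralizing the four group, on parameters. -/
theorem form_conj_ci {y : G} (hy : y ∈ centralizer ({z} : Set G)) (hyp : y ∈ centralizer ({F.pt} : Set G))
    {a c : W4} {x : G} (hx : F.Form a c x) : F.Form (hp (ρ y) a) (hp (ρ y) c) (y * x * y⁻¹) := by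
  have hw := F.rho_ci hy hyp
  obtain ⟨q, hq, r, hr, rfl, rfl, rfl⟩ := hx
  refine ⟨y * q * y⁻¹, F.norm_R hy hyp hq, y * r * y⁻¹, F.norm_R' hy hyp hr, ?_, ?_, by group⟩
  · rw [F.setup.ρ_act y hy q hq.1, pr_act_perp hw (F.mem_R.1 hq).2]
  · show pr (act (ρ (y * r * y⁻¹)) f0) = _
    rw [F.setup.ρ_mul _ (mul_mem hy hr.2) _ (inv_mem hy), F.setup.ρ_mul y hy r hr.2, F.setup.ρ_inv hy, act_mul,
      act_mul, F.rho_R' hr]
    set w := act (ρ y)⁻¹ f0 with hw'
    have hy1 : yc w = 1 := by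
      have h := yc_act hw w
      rw [hw', ← act_mul, mul_inv_cancel, act_one] at h
      rw [← h]; rfl
    rw [sieg_yc_one _ w hy1, act_add, act_add, act_smul, hw, hw', ← act_mul, mul_inv_cancel, act_one, pr_add,
      pr_add, pr_smul_w0, pr_f0, zero_add, zero_add]
    rfl

/-- Conjugation by an element exchanging the two points, on parameters. -/
theorem form_conj_swap {y : G} (hy : y ∈ centralizer ({z} : Set G)) (hyp : y * F.pt * y⁻¹ = F.pt * z)
    {a c : W4} {x : G} (hx : F.Form a c x) :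
    F.Form (hp (ρ y) a + hp (ρ y) c) (hp (ρ y) c) (y * x * y⁻¹) := by
  obtain ⟨s, hs, hvs, hsp⟩ := F.exists_swap
  have hy' : s⁻¹ * y ∈ centralizer ({z} : Set G) := mul_mem (inv_mem (F.setup.le hs)) hy
  have hyp' : s⁻¹ * y ∈ centralizer ({F.pt} : Set G) := mem_cz.2 (conj_eq_iff_comm.1 (by
    rw [show s⁻¹ * y * F.pt * (s⁻¹ * y)⁻¹ = s⁻¹ * (y * F.pt * y⁻¹) * s by group, hyp, ← hsp]
    simp [mul_assoc]))
  have h := F.form_shift' hs hvs (F.form_conj_ci hy' hyp' hx)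
  rwa [show s * (s⁻¹ * y * x * (s⁻¹ * y)⁻¹) * s⁻¹ = y * x * y⁻¹ by group,
    F.setup.ρ_mul _ (inv_mem (F.setup.le hs)) y hy, F.setup.ρ_inv (F.setup.le hs), F.setup.ρ_of_mem hs, inv_one,
    one_mul] at h

end Pt

end

end CfsgLib.Spor.SuzType
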