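import Cfsg.Agent.Lib.Spor.SuzType.Local

/-!
# The four group of reference involutions at a pair of commuting involutions
-/

set_option autoImplicit false
set_option synthInstance.maxSize 4096

namespace CfsgLib.Spor.SuzType

open Subgroup CfsgLib.Spor.CoOneType

noncomputable section

variable {G : Type*} [Group G] [Finite G] {z : G} {Q : Subgroup G} {v : G → Vec} {ρ : G → Iso6}

/-- Admissible parameters. -/
def Adm (p : W4 × W4) : Prop := q4 p.1 = 1 ∧ q4 p.2 = 1 ∧ pl4 p.1 p.2 = 1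

instance : DecidablePred Adm := fun p => by unfold Adm; infer_instance

theorem rot_spec : wf [0] a₀ = c₀ ∧ wf [0] c₀ = a₀ + c₀ := by decide +kernel

theorem rot_fix : ∀ u : W4, pl4 u a₀ = 0 → pl4 u c₀ = 0 → wf [0] u = u := by decide +kernel

theorem mp_cmp : ∀ p : W4 × W4, MP p → cmp p p0 = 0 ∧ cmp p p1 = 0 := by decide +kernel

theorem cmp_p1 : ∀ p : W4 × W4, cmp p p1 = 0 → cmp p p0 = 0 := by decide +kernel

theorem cmp_p0 : ∀ p : W4 × W4, cmp p p0 = 0 → cmp p p1 = 0 := by decide +kernel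

theorem cmp_p01 : cmp p0 p1 = 0 := by decide +kernel

theorem p_indep : ∀ s t : ZMod 2, s • p0 + t • p1 = 0 → s = 0 ∧ t = 0 := by decide +kernel

theorem mp_indep : ∀ (s t : ZMod 2), MP (s • p0 + t • p1) → s = 0 ∧ t = 0 := by decide +kernel

theorem mp_sing : ∀ p : W4 × W4, MP p → sqp p = 0 → q4 p.2 = 0 ∧ pl4 p.1 p.2 = 0 := by decide +kernel

theorem mp_shape : ∀ p : W4 × W4, MP p → sqp p = 0 → p.2 = 0 ∨ p.1 = 0 ∨ p.1 = p.2 := by decide +kernel

theorem mp_adm : ∀ p : W4 × W4, MP p → sqp p = 0 → ∀ s t : ZMod 2, (s, t) ≠ 0 →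
    Adm (s • p0 + t • p1 + p) := by decide +kernel

theorem mp_split : ∀ p : W4 × W4, MP p → ∃ q r : W4 × W4,
    (MP q ∧ sqp q = 0) ∧ (MP r ∧ sqp r = 0) ∧ p = q + r := by decide +kernel

theorem mp_invol_count : (Finset.univ.filter fun p : W4 × W4 => MP p ∧ sqp p = 0).card = 7 := by decide +kernel

theorem mp_opposite : ∀ p : W4 × W4, MP p → sqp p = 0 → p ≠ 0 →
    (Finset.univ.filter fun q : W4 × W4 => MP q ∧ sqp q = 0 ∧ cmp p q = (1, 0)).card = 1 := by decide +kernel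

theorem mp_aniso : ∀ p : W4 × W4, MP p → sqp p = (1, 0) → ∀ q : W4 × W4, MP q → sqp q = (1, 0) →
    sqp (p + q) = (1, 0) → ∀ r : W4 × W4, MP r → sqp r = (1, 0) → sqp (p + r) = (1, 0) →
    sqp (q + r) = (1, 0) → sqp (p + q + r) = (1, 0) → False := by decide +kernel

/-- A witness against an injective linear map. -/
theorem four_cases : ∀ p : W4 × W4, Adm p → Adm (p + p0) → cmp p p0 = 0 →
    p = p1 ∨ p = p0 + p1 ∨ ∃ k₁ k₂ k₃ k₄ : ZMod 2,
      k₁ • a₀ + k₂ • c₀ + k₃ • p.1 + k₄ • p.2 = 0 ∧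
      k₁ • p.1 + k₂ • p.2 + k₃ • (p.1 + a₀) + k₄ • (p.2 + c₀) ≠ 0 := by decide +kernel

theorem outer_shape : wf (kw 3) c₀ + wf (kw 3) (a₀ + c₀) = a₀ + c₀ ∧ wf (kw 3) (a₀ + c₀) = a₀ := by decide +kernel

theorem outer_fix : ∀ π : W4, q4 π = 0 → cmp (π, 0) p0 = 0 → wf (kw 3) π = π → π = 0 := by decide +kernel

theorem singular_image' : ∀ (c : W4) (x : Vec), q4 c = 1 → qf (sieg c x + x) = 0 →
    sieg c x + x = 0 ∨ sieg c x + x = w0 := by decide +kernel

theorem hp_smul (k : Iso6) (s : ZMod 2) (u : W4) : hp k (s • u) = s • hp k u := by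
  rcases two_cases s with rfl | rfl
  · rw [zero_smul, zero_smul, hp_zero]
  · rw [one_smul, one_smul]

theorem mul_comm_of_sq {x y : G} (hx : x * x = 1) (hy : y * y = 1) (hxy : x * y * (x * y) = 1) :
    x * y = y * x := by
  have e1 : (x * y)⁻¹ = x * y := inv_eq_of_mul_eq_one_right hxy
  have e2 : x⁻¹ = x := inv_eq_of_mul_eq_one_right hx
  have e3 : y⁻¹ = y := inv_eq_of_mul_eq_one_right hy
  calc x * y = (x * y)⁻¹ := e1.symm
    _ = y * x := by rw [mul_inv_rev, e2, e3]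

namespace Pt

variable {g : G} (F : Pt z Q v ρ g)

/-- The four group of reference involutions with an element of order three rotating it. -/
structure Tri (F : Pt z Q v ρ g) (t w : G) : Prop where
  tf : F.Form a₀ c₀ t
  wz : w ∈ centralizer ({z} : Set G)
  wi : w ∈ centralizer ({F.pt} : Set G)
  w3 : w * w * w = 1
  wρ : ρ w = E (σw [0])
  wtt : w * (w * t * w⁻¹) * w⁻¹ = t * (w * t * w⁻¹)

include F

theorem pow_zp {x : G} {d : ZMod 2 × ZMod 2} (hw : ∀ e, x * F.zp e = F.zp e * x) (y : G)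
    (h : x * y * x⁻¹ = F.zp d * y) (h3 : x * x * x = 1) : d = 0 := by
  have hconj : ∀ u : G, x * (F.zp d * u) * x⁻¹ = F.zp d * (x * u * x⁻¹) := fun u => by
    rw [← mul_assoc x, hw]; group
  have h2 : x * x * x * y * (x * x * x)⁻¹ = F.zp (d + d + d) * y := by
    calc x * x * x * y * (x * x * x)⁻¹ = x * (x * (x * y * x⁻¹) * x⁻¹) * x⁻¹ := by group
      _ = _ := by rw [h, hconj, h, hconj, hconj, h, ← mul_assoc, ← mul_assoc, F.zp_add, F.zp_add]
  rw [h3, one_mul, inv_one, mul_one, pair_add_self, zero_add] at h2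
  exact F.zp_inj ((mul_eq_right.1 h2.symm).trans F.zp_zero.symm)

/-- The four groups exist. -/
theorem exists_tri : ∃ t w, F.Tri t w := by
  obtain ⟨k, hk, hki, hρ⟩ := F.word_lift [0]
  have hρ3 : ρ k ^ 3 = 1 := by
    rw [hρ, show σw [0] = σ 0 by simp [σw], ← map_pow, show (3 : ℕ) = gord 0 from rfl, σ_pow, map_one]
  have hk3 : k ^ 3 ∈ F.R := by
    refine ⟨(F.setup.ρ_ker _ (pow_mem hk 3)).1 (by rw [F.setup.ρ_pow hk, hρ3]), pow_mem hki 3⟩
  have hk12 : k ^ 12 = 1 := by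
    rw [show 12 = 3 * 4 by rfl, pow_mul, show 4 = 2 * 2 by rfl, pow_mul, pow_two (k ^ 3), F.sq_R hk3, pow_two]
    exact F.zp_sq (_, 0)
  set w := k ^ 4 with hw
  have hwz : w ∈ centralizer ({z} : Set G) := pow_mem hk 4
  have hwi : w ∈ centralizer ({F.pt} : Set G) := pow_mem hki 4
  have hw3 : w * w * w = 1 := by rw [hw, ← pow_add, ← pow_add, hk12]
  have hwρ : ρ w = E (σw [0]) := by rw [hw, F.setup.ρ_pow hk, pow_succ, hρ3, one_mul, hρ]
  have hstep : ∀ {x : G} {p : W4 × W4}, F.Form p.1 p.2 x → F.Form (wf [0] p.1) (wf [0] p.2) (w * x * w⁻¹) := by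
    intro x p hx
    have h := F.form_conj_ci hwz hwi hx
    rwa [hwρ, hp_E, hp_E, act4_σw, act4_σw] at h
  have hwc : ∀ e, w * F.zp e = F.zp e * w := fun e => F.zi_comm hwz hwi _ _
  obtain ⟨t, ht⟩ := F.exists_form a₀ c₀
  have h1 := hstep (p := p0) ht
  rw [show p0 = (a₀, c₀) from rfl, rot_spec.1, rot_spec.2] at h1
  have h2 := hstep (p := (c₀, a₀ + c₀)) h1
  have e1 : wf [0] (a₀ + c₀) = a₀ := by decide +kernel
  rw [rot_spec.2, e1] at h2
  have h12 := F.form_mul ht h1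
  rw [show c₀ + (a₀ + c₀) = a₀ by rw [add_comm a₀, ← add_assoc, w4_add_self, zero_add]] at h12
  obtain ⟨d, hd⟩ := F.form_unique h12 h2
  have hconj : ∀ x : G, w * (F.zp d * x) * w⁻¹ = F.zp d * (w * x * w⁻¹) := fun x => by
    rw [← mul_assoc w, hwc]; group
  refine ⟨F.zp d * t, w, F.form_zp ht d, hwz, hwi, hw3, hwρ, ?_⟩
  rw [hconj, hconj, hd, ← mul_assoc (F.zp d) (F.zp d), F.zp_sq, one_mul]
  calc t * (w * t * w⁻¹) = F.zp d * F.zp d * (t * (w * t * w⁻¹)) := by rw [F.zp_sq, one_mul]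
    _ = F.zp d * (t * F.zp d) * (w * t * w⁻¹) := by rw [F.form_comm_zp ht]; group
    _ = _ := by group

namespace Tri

variable {F} {t w : G} (T : F.Tri t w)

/-- The second reference involution. -/
abbrev t1 (_T : F.Tri t w) : G := w * t * w⁻¹

/-- The centralizer of the four group. -/
abbrev CE (T : F.Tri t w) : Subgroup G := centralizer ({t} : Set G) ⊓ centralizer ({T.t1} : Set G)

/-- The elements with parameters in the perpendicular plane. -/
def Sm (_T : F.Tri t w) : Subgroup G := F.fsub MP mp_zero mp_add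

include T

theorem t1f : F.Form c₀ (a₀ + c₀) T.t1 := by
  have h := F.form_conj_ci T.wz T.wi T.tf
  rwa [T.wρ, hp_E, hp_E, act4_σw, act4_σw, rot_spec.1, rot_spec.2] at h

theorem t_sq : t * t = 1 := by
  rw [F.form_sq T.tf, ref_pair.1, ref_pair.2.1, ref_pair.2.2.1, CharTwo.add_self_eq_zero, F.zi_zero]

theorem t1_sq : T.t1 * T.t1 = 1 := by
  rw [show T.t1 * T.t1 = w * (t * t) * w⁻¹ by show w * t * w⁻¹ * (w * t * w⁻¹) = _; group, T.t_sq]; group

theorem t_t1 : t * T.t1 = T.t1 * t := (F.form_commute (p := p0) (p' := p1) T.tf T.t1f).2 cmp_p01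

theorem t_ne_one : t ≠ 1 := fun e => F.form_notMem T.tf ref_pair.2.2.2.2 (e ▸ one_mem Q)

theorem t_ord : orderOf t = 2 := CfsgLib.Invol.invol_iff.2 ⟨T.t_sq, T.t_ne_one⟩

theorem t1_ord : orderOf T.t1 = 2 := CfsgLib.Invol.invol_conj T.t_ord w

theorem w_t1 : w * T.t1 * w⁻¹ = t * T.t1 := T.wtt

theorem w_t2 : w * (t * T.t1) * w⁻¹ = t := by
  rw [show w * (t * T.t1) * w⁻¹ = T.t1 * (w * T.t1 * w⁻¹) by show _ = w * t * w⁻¹ * _; group, T.w_t1, ← mul_assoc,
    ← T.t_t1, mul_assoc, T.t1_sq, mul_one]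

theorem not_conj_z : ¬ IsConj z t := F.form_not_conj T.tf

theorem mem_Sm {x : G} : x ∈ T.Sm ↔ ∃ p, MP p ∧ F.Form p.1 p.2 x := Iff.rfl

theorem Sm_le {x : G} (hx : x ∈ T.Sm) :
    x ∈ centralizer ({z} : Set G) ⊓ centralizer ({F.pt} : Set G) ∧ x ∈ T.CE := by
  obtain ⟨p, hp, hf⟩ := hx
  exact ⟨⟨F.form_cz hf, F.form_ci hf⟩, mem_cz.2 ((F.form_commute (p' := p0) hf T.tf).2 (mp_cmp p hp).1),
    mem_cz.2 ((F.form_commute (p' := p1) hf T.t1f).2 (mp_cmp p hp).2)⟩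

theorem z_mem_Sm : z ∈ T.Sm := ⟨0, mp_zero, by have h := F.form_zp_self (1, 0); rwa [F.zp_z] at h⟩

theorem pt_mem_Sm : F.pt ∈ T.Sm := ⟨0, mp_zero, F.zp_pt ▸ F.form_zp_self (0, 1)⟩

theorem zp_mem_Sm (e : ZMod 2 × ZMod 2) : F.zp e ∈ T.Sm := ⟨0, mp_zero, F.form_zp_self e⟩

theorem w_fix {x : G} (hx : x ∈ T.Sm) : w * x * w⁻¹ = x := by
  obtain ⟨p, hp, hf⟩ := hx
  have h := F.form_conj_ci T.wz T.wi hf
  rw [T.wρ, hp_E, hp_E, act4_σw, act4_σw, rot_fix _ hp.1 hp.2.1, rot_fix _ hp.2.2.1 hp.2.2.2] at h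
  obtain ⟨d, hd⟩ := F.form_unique hf h
  rw [hd, F.pow_zp (fun e => F.zi_comm T.wz T.wi _ _) x hd T.w3, F.zp_zero, one_mul]

theorem card_Sm : Nat.card T.Sm = 64 := by
  have h := F.card_forms (Finset.univ.filter MP)
  rw [mp_count] at h
  refine Eq.trans (Nat.card_congr (Equiv.subtypeEquivRight fun x => ?_)) h
  simp only [Finset.mem_filter, Finset.mem_univ, true_and]
  rfl

/-- The elements of the four group. -/
def eE (_T : F.Tri t w) (p : ZMod 2 × ZMod 2) : G := t ^ p.1.val * (w * t * w⁻¹) ^ p.2.val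

theorem eE_form (p : ZMod 2 × ZMod 2) :
    F.Form (p.1 • p0 + p.2 • p1).1 (p.1 • p0 + p.2 • p1).2 (T.eE p) := by
  obtain ⟨s, r⟩ := p
  have h1 : ∀ (b : ZMod 2) (q : W4 × W4) (x : G), F.Form q.1 q.2 x → F.Form (b • q).1 (b • q).2 (x ^ b.val) := by
    intro b q x hx
    rcases two_cases b with rfl | rfl
    · rw [zero_smul, ZMod.val_zero, pow_zero]; exact F.form_one
    · rw [one_smul, ZMod.val_one, pow_one]; exact hx
  exact F.form_mul (h1 s p0 t T.tf) (h1 r p1 T.t1 T.t1f)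

theorem eE_add (p q : ZMod 2 × ZMod 2) : T.eE p * T.eE q = T.eE (p + q) := by
  have h : ∀ (x : G), x * x = 1 → ∀ a b : ZMod 2, x ^ a.val * x ^ b.val = x ^ (a + b).val := by
    intro x hx a b
    rcases two_cases a with rfl | rfl <;> rcases two_cases b with rfl | rfl <;>
      simp [ZMod.val_one, CharTwo.add_self_eq_zero, hx]
  have hc : Commute (T.t1 ^ p.2.val) (t ^ q.1.val) := (show Commute T.t1 t from T.t_t1.symm).pow_pow _ _
  calc T.eE p * T.eE q = t ^ p.1.val * (T.t1 ^ p.2.val * t ^ q.1.val) * T.t1 ^ q.2.val := by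
        simp only [eE, mul_assoc]
    _ = t ^ p.1.val * t ^ q.1.val * (T.t1 ^ p.2.val * T.t1 ^ q.2.val) := by rw [hc.eq]; simp only [mul_assoc]
    _ = _ := by rw [h t T.t_sq, h T.t1 T.t1_sq]; rfl

theorem eE_zero : T.eE 0 = 1 := by simp [eE]

theorem eE_sq (p : ZMod 2 × ZMod 2) : T.eE p * T.eE p = 1 := by rw [T.eE_add, pair_add_self, T.eE_zero]

theorem eE_t : T.eE (1, 0) = t := by simp [eE, ZMod.val_one]

theorem eE_t1 : T.eE (0, 1) = T.t1 := by simp [eE, ZMod.val_one]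

theorem eE_eq_one {p : ZMod 2 × ZMod 2} (h : T.eE p = 1) : p = 0 := by
  have h2 := T.eE_form p
  rw [h] at h2
  obtain ⟨e1, e2⟩ := F.form_params h2 F.form_one
  obtain ⟨e3, e4⟩ := p_indep _ _ (Prod.ext e1 e2)
  exact Prod.ext e3 e4

theorem eE_comm {y : G} (h1 : y * t = t * y) (h2 : y * T.t1 = T.t1 * y) (p : ZMod 2 × ZMod 2) :
    y * T.eE p = T.eE p * y :=
  (((show Commute y t from h1).pow_right _).mul_right ((show Commute y T.t1 from h2).pow_right _)).eq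

theorem eE_comm_CE {y : G} (hy : y ∈ T.CE) (p : ZMod 2 × ZMod 2) : y * T.eE p = T.eE p * y :=
  T.eE_comm (mem_cz.1 hy.1) (mem_cz.1 hy.2) p

theorem eE_mem (p : ZMod 2 × ZMod 2) : T.eE p ∈ T.CE :=
  ⟨mem_cz.2 (T.eE_comm (y := t) rfl T.t_t1 p).symm, mem_cz.2 (T.eE_comm (y := T.t1) T.t_t1.symm rfl p).symm⟩

/-- The inner centralizer splits. -/
theorem inner_split {y : G}
    (hy : y ∈ centralizer ({z} : Set G) ⊓ centralizer ({F.pt} : Set G) ⊓ centralizer ({t} : Set G)) :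
    ∃ p, ∃ s ∈ T.Sm, y = T.eE p * s := by
  obtain ⟨q, hq, hf⟩ := (F.mem_inner T.tf).1 hy
  obtain ⟨p, hp⟩ : ∃ p : ZMod 2 × ZMod 2, MP (p.1 • p0 + p.2 • p1 + q) := by
    rcases cu_split q hq with h | h | h | h
    · exact ⟨0, by simpa using h⟩
    · exact ⟨(1, 0), by simpa [add_comm] using h⟩
    · exact ⟨(0, 1), by simpa [add_comm] using h⟩
    · exact ⟨(1, 1), by simpa [add_comm, add_left_comm] using h⟩
  exact ⟨p, T.eE p * y, ⟨_, hp, F.form_mul (T.eE_form p) hf⟩, by rw [← mul_assoc, T.eE_sq, one_mul]⟩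

theorem inner_CE {y : G}
    (hy : y ∈ centralizer ({z} : Set G) ⊓ centralizer ({F.pt} : Set G) ⊓ centralizer ({t} : Set G)) :
    y ∈ T.CE := by
  obtain ⟨p, s, hs, rfl⟩ := T.inner_split hy
  exact mul_mem (T.eE_mem p) (T.Sm_le hs).2

theorem inner_inv {y : G}
    (hy : y ∈ centralizer ({z} : Set G) ⊓ centralizer ({F.pt} : Set G) ⊓ centralizer ({t} : Set G))
    (hy2 : y * y = 1) : ∃ p, ∃ s ∈ T.Sm, y = T.eE p * s ∧ s * s = 1 := by
  obtain ⟨p, s, hs, rfl⟩ := T.inner_split hy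
  refine ⟨p, s, hs, rfl, ?_⟩
  calc s * s = T.eE p * T.eE p * (s * s) := by rw [T.eE_sq, one_mul]
    _ = T.eE p * (s * T.eE p) * s := by rw [T.eE_comm_CE (T.Sm_le hs).2]; group
    _ = 1 := by rw [← hy2]; group

/-- Uniqueness inside the centralizer of the four group of points. -/
theorem unique_inner {y u : G} (hy : y ∈ centralizer ({z} : Set G) ⊓ centralizer ({F.pt} : Set G))
    (hyu : y * t * y⁻¹ = u) (hyt : y * u * y⁻¹ = t * u) (hut : u * t = t * u) : u = T.t1 ∨ u = t * T.t1 := by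
  have main : ∀ (y u : G), y ∈ centralizer ({z} : Set G) ⊓ centralizer ({F.pt} : Set G) → y * t * y⁻¹ = u →
      y * u * y⁻¹ = t * u → F.Form p1.1 p1.2 u → u = T.t1 := by
    intro y u hy hyu hyt hu
    obtain ⟨d, hd⟩ := F.form_unique T.t1f hu
    obtain ⟨m, hm⟩ := solve_cmp p0 ref_pair.1 ref_pair.2.1 ref_pair.2.2.1 d
    obtain ⟨q, hq, hqm⟩ := F.R_surj m
    have hqf : F.Form (m, (0 : W4)).1 (m, (0 : W4)).2 q := hqm ▸ F.mem_R_form hq
    have hqt := F.form_comm (p' := p0) hqf T.tf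
    rw [hm] at hqt
    have hwinv : ∀ e, w⁻¹ * F.zp e = F.zp e * w⁻¹ := fun e =>
      F.zi_comm (inv_mem T.wz) (Subgroup.inv_mem _ T.wi) _ _
    have hx : q⁻¹ * (w⁻¹ * y) ∈
        centralizer ({z} : Set G) ⊓ centralizer ({F.pt} : Set G) ⊓ centralizer ({t} : Set G) := by
      refine ⟨Subgroup.mul_mem _ (Subgroup.inv_mem _ ⟨F.setup.le hq.1, hq.2⟩)
        (Subgroup.mul_mem _ (Subgroup.inv_mem _ ⟨T.wz, T.wi⟩) hy), mem_cz.2 (conj_eq_iff_comm.1 ?_)⟩
      calc q⁻¹ * (w⁻¹ * y) * t * (q⁻¹ * (w⁻¹ * y))⁻¹ = q⁻¹ * (w⁻¹ * (y * t * y⁻¹) * w) * q := by group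
        _ = q⁻¹ * (F.zp d * t) * q := by rw [hyu, hd, ← mul_assoc w⁻¹, hwinv]; group
        _ = q⁻¹ * (F.zp d * (t * q)) := by group
        _ = q⁻¹ * (q * t) := by rw [← hqt]
        _ = t := by group
    obtain ⟨r, hr, hrf⟩ := (F.mem_inner T.tf).1 hx
    have hdf : F.Form ((m, (0 : W4)) + r).1 ((m, (0 : W4)) + r).2 (q * (q⁻¹ * (w⁻¹ * y))) := F.form_mul hqf hrf
    rw [mul_inv_cancel_left] at hdf
    have h := F.form_comm (p' := p1) hdf T.t1f
    have key : F.zp (cmp ((m, (0 : W4)) + r) p1) = 1 := by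
      have hwc : ∀ e, w * F.zp e = F.zp e * w := fun e => F.zi_comm T.wz T.wi _ _
      have hyc : ∀ e, y * F.zp e = F.zp e * y := fun e => F.zi_comm hy.1 hy.2 _ _
      generalize hκ : F.zp (cmp ((m, (0 : W4)) + r) p1) = κ at h ⊢
      have e1 : y * u * y⁻¹ = F.zp d * (κ * (t * T.t1)) := by
        rw [hd, ← mul_assoc y, hyc, mul_assoc (F.zp d), mul_assoc (F.zp d)]
        congr 1
        calc y * T.t1 * y⁻¹ = w * (w⁻¹ * y * T.t1) * y⁻¹ := by group
          _ = w * (κ * (T.t1 * (w⁻¹ * y))) * y⁻¹ := by rw [h]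
          _ = κ * w * T.t1 * w⁻¹ := by rw [← mul_assoc w, show w * κ = κ * w from hκ ▸ hwc _]; group
          _ = _ := by rw [← T.w_t1]; group
      rw [hyt, hd, ← mul_assoc t, F.form_comm_zp T.tf, mul_assoc] at e1
      exact mul_eq_right.1 (mul_left_cancel e1).symm
    have h0 : cmp ((m, (0 : W4)) + r) p1 = 0 := F.zp_inj (key.trans F.zp_zero.symm)
    have h3 : q * (q⁻¹ * (w⁻¹ * y)) * t = t * (q * (q⁻¹ * (w⁻¹ * y))) := by
      rw [mul_inv_cancel_left]
      exact (F.form_commute (p' := p0) hdf T.tf).2 (cmp_p1 _ h0)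
    rw [mul_inv_cancel_left] at h3
    calc u = y * t * y⁻¹ := hyu.symm
      _ = w * ((w⁻¹ * y) * t * (w⁻¹ * y)⁻¹) * w⁻¹ := by group
      _ = T.t1 := by rw [h3, mul_inv_cancel_right]
  have hw0 := F.rho_ci hy.1 hy.2
  have hu := F.form_conj_ci hy.1 hy.2 T.tf
  rw [hyu] at hu
  set p : W4 × W4 := (hp (ρ y) a₀, hp (ρ y) c₀) with hp'
  have hu' : F.Form p.1 p.2 u := hu
  have hu2 := F.form_conj_ci hy.1 hy.2 hu'
  rw [hyt] at hu2
  obtain ⟨ea, ec⟩ := F.form_params hu2 (F.form_mul T.tf hu')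
  have hadm : Adm p := ⟨(hp_q hw0 _).trans ref_pair.1, (hp_q hw0 _).trans ref_pair.2.1,
    (hp_pl hw0 _ _).trans ref_pair.2.2.1⟩
  have hadm2 : Adm (p + p0) := by
    show q4 (p.1 + a₀) = 1 ∧ q4 (p.2 + c₀) = 1 ∧ pl4 (p.1 + a₀) (p.2 + c₀) = 1
    rw [add_comm p.1, add_comm p.2, ← ea, ← ec]
    exact ⟨(hp_q hw0 _).trans hadm.1, (hp_q hw0 _).trans hadm.2.1, (hp_pl hw0 _ _).trans hadm.2.2⟩
  rcases four_cases p hadm hadm2 ((F.form_commute (p' := p0) hu' T.tf).1 hut) with e | e | ⟨k₁, k₂, k₃, k₄, e, ne⟩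
  · exact Or.inl (main y u hy hyu hyt (e ▸ hu'))
  · right
    have hinv : y⁻¹ ∈ centralizer ({z} : Set G) ⊓ centralizer ({F.pt} : Set G) := Subgroup.inv_mem _ hy
    have h3 : y * (t * u) * y⁻¹ = t := by
      rw [show y * (t * u) * y⁻¹ = y * t * y⁻¹ * (y * u * y⁻¹) by group, hyu, hyt, ← mul_assoc, hut, mul_assoc]
      rw [show u * u = 1 by rw [← hyu, show y * t * y⁻¹ * (y * t * y⁻¹) = y * (t * t) * y⁻¹ by group, T.t_sq]; group,
        mul_one]
    have h4 : y⁻¹ * t * y⁻¹⁻¹ = t * u := by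
      conv_lhs => rw [← h3]
      group
    have h5 : y⁻¹ * (t * u) * y⁻¹⁻¹ = t * (t * u) := by
      rw [← mul_assoc t t, T.t_sq, one_mul]
      conv_lhs => rw [← hyt]
      group
    have hf : F.Form p1.1 p1.2 (t * u) := by
      have h6 : F.Form (p0 + p).1 (p0 + p).2 (t * u) := F.form_mul T.tf hu'
      rwa [show p0 + p = p1 by rw [e]; decide +kernel] at h6
    have h7 := main y⁻¹ (t * u) hinv h4 h5 hf
    rw [← h7, ← mul_assoc, T.t_sq, one_mul]
  · exfalso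
    refine ne ?_
    have h := congrArg (hp (ρ y)) e
    rw [hp_add, hp_add, hp_add, hp_smul, hp_smul, hp_smul, hp_smul, hp_zero, ea, ec, add_comm a₀, add_comm c₀] at h
    exact h

theorem outer_swaps {o : G} (ho : o ∈ centralizer ({z} : Set G)) (hot : o * t = t * o)
    (hop : o * F.pt * o⁻¹ = F.pt * z) : o * T.t1 * o⁻¹ = t * T.t1 := by
  have hoz : o * z * o⁻¹ = z := conj_eq_iff_comm.2 (mem_cz.1 ho)
  have hoi : o⁻¹ * F.pt * o = F.pt * z := by
    have h : o⁻¹ * (o * F.pt * o⁻¹) * o * (o⁻¹ * z * o) = o⁻¹ * (F.pt * z) * o * (o⁻¹ * z * o) := by rw [hop]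
    have hzz : o⁻¹ * z * o = z := by
      conv_lhs => rw [← hoz]
      group
    rw [hzz] at h
    calc o⁻¹ * F.pt * o = o⁻¹ * (F.pt * z * z) * o := by rw [mul_assoc F.pt, F.setup.zz, mul_one]
      _ = o⁻¹ * (F.pt * z) * o * (o⁻¹ * z * o) := by group
      _ = F.pt * z := by rw [hzz, ← h]; simp [mul_assoc]
  have hy : o * w * o⁻¹ ∈ centralizer ({z} : Set G) ⊓ centralizer ({F.pt} : Set G) := by
    refine ⟨Subgroup.mul_mem _ (Subgroup.mul_mem _ ho T.wz) (Subgroup.inv_mem _ ho),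
      mem_cz.2 (conj_eq_iff_comm.1 ?_)⟩
    have hw1 : w * (F.pt * z) * w⁻¹ = F.pt * z := conj_eq_iff_comm.2
      ((show Commute w F.pt from mem_cz.1 T.wi).mul_right (show Commute w z from mem_cz.1 T.wz)).eq
    calc o * w * o⁻¹ * F.pt * (o * w * o⁻¹)⁻¹ = o * (w * (o⁻¹ * F.pt * o) * w⁻¹) * o⁻¹ := by group
      _ = o * (o⁻¹ * F.pt * o) * o⁻¹ := by rw [hoi, hw1]
      _ = F.pt := by simp [mul_assoc]
  have ht : o * t * o⁻¹ = t := conj_eq_iff_comm.2 hot
  have ht' : o⁻¹ * t * o = t := by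
    conv_lhs => rw [← ht]
    group
  have h1 : o * w * o⁻¹ * t * (o * w * o⁻¹)⁻¹ = o * T.t1 * o⁻¹ := by
    calc o * w * o⁻¹ * t * (o * w * o⁻¹)⁻¹ = o * (w * (o⁻¹ * t * o) * w⁻¹) * o⁻¹ := by group
      _ = o * T.t1 * o⁻¹ := by rw [ht']
  have h2 : o * w * o⁻¹ * (o * T.t1 * o⁻¹) * (o * w * o⁻¹)⁻¹ = t * (o * T.t1 * o⁻¹) := by
    rw [show o * w * o⁻¹ * (o * T.t1 * o⁻¹) * (o * w * o⁻¹)⁻¹ = o * (w * T.t1 * w⁻¹) * o⁻¹ by group, T.w_t1,
      show o * (t * T.t1) * o⁻¹ = o * t * o⁻¹ * (o * T.t1 * o⁻¹) by group, ht]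
  have h3 : o * T.t1 * o⁻¹ * t = t * (o * T.t1 * o⁻¹) := by
    calc o * T.t1 * o⁻¹ * t = o * T.t1 * o⁻¹ * (o * t * o⁻¹) := by rw [ht]
      _ = o * (T.t1 * t) * o⁻¹ := by group
      _ = o * t * o⁻¹ * (o * T.t1 * o⁻¹) := by rw [← T.t_t1]; group
      _ = _ := by rw [ht]
  refine (T.unique_inner hy h1 h2 h3).resolve_left fun e => ?_
  have h := F.form_conj_swap ho hop T.t1f
  rw [e, F.outer_hp T.tf ho hot hop, F.outer_hp T.tf ho hot hop, outer_shape.1, outer_shape.2] at h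
  obtain ⟨e1, -⟩ := F.form_params h T.t1f
  revert e1
  decide +kernel

/-- Elements of the centralizer are inner or exchange the two points. -/
theorem cz_t_cases {y : G} (hy : y ∈ centralizer ({z} : Set G)) (hyt : y * t = t * y) :
    y ∈ centralizer ({z} : Set G) ⊓ centralizer ({F.pt} : Set G) ⊓ centralizer ({t} : Set G) ∨
      y * F.pt * y⁻¹ = F.pt * z := by
  rcases F.fix_w0 hy (F.fixes_w0 T.tf hy hyt) with e | e
  · exact Or.inl ⟨⟨hy, mem_cz.2 (conj_eq_iff_comm.1 e)⟩, mem_cz.2 hyt⟩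
  · exact Or.inr e

theorem mem_CE_iff {y : G} (hy : y ∈ centralizer ({z} : Set G)) (hyt : y * t = t * y) :
    y ∈ T.CE ↔ y * F.pt = F.pt * y := by
  rcases T.cz_t_cases hy hyt with h | h
  · exact iff_of_true (T.inner_CE h) (mem_cz.1 h.1.2)
  · refine iff_of_false (fun hc => ?_) fun hc => ?_
    · have h2 := T.outer_swaps hy hyt h
      rw [conj_eq_iff_comm.2 (mem_cz.1 hc.2)] at h2
      exact T.t_ne_one (right_eq_mul.1 h2)
    · rw [conj_eq_iff_comm.2 hc] at h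
      exact F.setup.z_ne (left_eq_mul.1 h)

theorem outer_image {o : G} (ho : o ∈ centralizer ({z} : Set G)) (hot : o * t = t * o)
    (hop : o * F.pt * o⁻¹ = F.pt * z) : qf (act (ρ o) (vmk 0 0 a₀) + vmk 0 0 a₀) = 1 := by
  have hw := F.fixes_w0 T.tf ho hot
  have hp' := F.outer_hp T.tf ho hot hop a₀
  rw [flip_spec.2] at hp'
  rw [← vmk_eta (act (ρ o) (vmk 0 0 a₀)), yc_act hw, yc_vmk, vmk_add, qf_vmk,
    show pr (act (ρ o) (vmk 0 0 a₀)) = a₀ + c₀ from hp', add_comm a₀ c₀, add_assoc c₀, w4_add_self]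
  simp [ref_pair.2.1]

/-- Conjugates of the centre in the centralizer of the two involutions. -/
theorem zclass_mem {y : G} (hy : y ∈ centralizer ({z} : Set G)) (hyt : y * t = t * y) (hyc : IsConj z y) :
    y ∈ T.Sm := by
  obtain ⟨k, hk⟩ := isConj_iff.1 hyc
  have hy2 : y * y = 1 := by
    rw [← hk, show k * z * k⁻¹ * (k * z * k⁻¹) = k * (z * z) * k⁻¹ by group, F.setup.zz]; group
  rcases T.cz_t_cases hy hyt with h | h
  · obtain ⟨p, s, hs, rfl, hs2⟩ := T.inner_inv h hy2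
    by_cases hp : p = 0
    · rwa [hp, T.eE_zero, one_mul]
    exfalso
    obtain ⟨q, hq, hf⟩ := hs
    have hsq : sqp q = 0 := F.zp_inj ((F.form_sqp hf).symm.trans (hs2.trans F.zp_zero.symm))
    exact T.not_conj_z (hyc.trans (F.form_adm_class T.tf (p := p.1 • p0 + p.2 • p1 + q)
      (F.form_mul (T.eE_form p) hf) (mp_adm q hq hsq p.1 p.2 hp)).symm)
  · exact absurd (hyc.trans (F.cconj_isConj (F.class_of_nonsing T.tf hy hy2 (T.outer_image hy hyt h))))
      T.not_conj_z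

theorem sm_class {x : G} (hx : x ∈ T.Sm) (hx2 : x * x = 1) (hx1 : x ≠ 1) : IsConj z x := by
  obtain ⟨q, hq, hf⟩ := hx
  have hsq : sqp q = 0 := F.zp_inj ((F.form_sqp hf).symm.trans (hx2.trans F.zp_zero.symm))
  exact F.form_sing_class hf hx2 hx1 (mp_sing q hq hsq).1 (mp_sing q hq hsq).2

theorem eE_mul_class {p : ZMod 2 × ZMod 2} (hp : p ≠ 0) {x : G} (hx : x ∈ T.Sm) (hx2 : x * x = 1) :
    IsConj t (T.eE p * x) := by
  obtain ⟨q, hq, hf⟩ := hx
  have hsq : sqp q = 0 := F.zp_inj ((F.form_sqp hf).symm.trans (hx2.trans F.zp_zero.symm))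
  exact F.form_adm_class T.tf (p := p.1 • p0 + p.2 • p1 + q)
      (F.form_mul (T.eE_form p) hf) (mp_adm q hq hsq p.1 p.2 hp)

/-- Uniqueness of the four group at the pair. -/
theorem unique_four {y u j : G} (hy : y ∈ centralizer ({z} : Set G)) (hy3 : y * y * y = 1)
    (hyu : y * t * y⁻¹ = u) (hyt : y * u * y⁻¹ = t * u) (hut : u * t = t * u) (hjQ : j ∈ Q) (hj2 : j * j = 1)
    (hj1 : j ≠ 1) (hjz : j ≠ z) (hjt : j * t = t * j) (hjy : j * y = y * j) : u = T.t1 ∨ u = t * T.t1 := by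
  have htz := F.form_cz T.tf
  have huz : u ∈ centralizer ({z} : Set G) := hyu ▸ mul_mem (mul_mem hy htz) (inv_mem hy)
  by_cases hup : u * F.pt = F.pt * u
  · refine T.unique_inner ⟨hy, mem_cz.2 ?_⟩ hyu hyt hut
    obtain ⟨p, -, hf⟩ := (F.mem_inner T.tf).1 ⟨⟨huz, mem_cz.2 hup⟩, mem_cz.2 hut⟩
    have hT : ∀ x, act (ρ y) (sieg c₀ x) = sieg p.2 (act (ρ y) x) := fun x => by
      rw [← F.form_rho hf, ← F.form_rho T.tf, ← hyu, ← act_mul, ← act_mul, ← F.setup.ρ_mul y hy t htz,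
        ← F.setup.ρ_mul _ (mul_mem (mul_mem hy htz) (inv_mem hy)) y hy, inv_mul_cancel_right]
    have hq : q4 p.2 = 1 := by
      rcases two_cases (q4 p.2) with e | e
      · exfalso
        have h := image_ref
        rw [← qf_act (ρ y), act_add, hT, image_sing _ _ e] at h
        exact zero_ne_one h
      · exact e
    have hw : act (ρ y) w0 = w0 := by
      have h : act (ρ y) w0 = sieg p.2 (act (ρ y) (vmk 0 0 a₀)) + act (ρ y) (vmk 0 0 a₀) := by
        conv_lhs => rw [← w0_image, act_add, hT]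
      rcases singular_image' _ _ hq (by rw [← h, qf_act, qf_w0]) with e | e
      · exact absurd (act_injective (ρ y) ((h.trans e).trans (act_zero _).symm)) w0_ne
      · exact h.trans e
    rcases F.fix_w0 hy hw with e | e
    · exact conj_eq_iff_comm.1 e
    · exfalso
      have hz : y * z * y⁻¹ = z := conj_eq_iff_comm.2 (mem_cz.1 hy)
      have h2 : y * (F.pt * z) * y⁻¹ = F.pt := by
        rw [show y * (F.pt * z) * y⁻¹ = y * F.pt * y⁻¹ * (y * z * y⁻¹) by group, e, hz, mul_assoc, F.setup.zz,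
          mul_one]
      have h3 : F.pt = y * (y * (y * F.pt * y⁻¹) * y⁻¹) * y⁻¹ := by
        rw [show y * (y * (y * F.pt * y⁻¹) * y⁻¹) * y⁻¹ = y * y * y * F.pt * (y * y * y)⁻¹ by group, hy3]
        simp
      rw [e, h2, e] at h3
      exact F.setup.z_ne (left_eq_mul.1 h3)
  · exfalso
    have hju : j * u = u * j := by
      rw [← hyu]
      have h1 : Commute j y := hjy
      exact ((h1.mul_right (show Commute j t from hjt)).mul_right h1.inv_right).eq
    have houter : u * F.pt * u⁻¹ = F.pt * z := (T.cz_t_cases huz hut).resolve_left fun h => hup (mem_cz.1 h.1.2)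
    have hfix : sieg c₀ (v j) = v j := by
      rw [← F.form_rho T.tf, ← F.setup.ρ_act t htz j hjQ, conj_eq_iff_comm.2 hjt.symm]
    have hyc : yc (v j) = 0 := by
      rcases two_cases (yc (v j)) with e | e
      · exact e
      · exfalso
        have h := congrArg pr hfix
        rw [sieg, pr_vmk, e, one_smul] at h
        exact ref_pair.2.2.2.2 (add_eq_left.1 h)
    have hjR : j ∈ F.R := F.mem_R.2 ⟨hjQ, hyc⟩
    have hjf : F.Form (pr (v j), (0 : W4)).1 (pr (v j), (0 : W4)).2 j := F.mem_R_form hjR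
    have hq : q4 (pr (v j)) = 0 := by
      have h := (F.setup.v_sq j hjQ).2 hj2
      rwa [← vmk_eta (v j), qf_vmk, hyc, mul_zero, zero_add] at h
    have hflip : wf (kw 3) (pr (v j)) = pr (v j) := by
      have h := F.form_conj_swap huz houter hjf
      rw [conj_eq_iff_comm.2 hju.symm, hp_zero, add_zero, F.outer_hp T.tf huz hut houter] at h
      exact (F.form_params h hjf).1
    obtain ⟨a, b, rfl⟩ := F.zi_of_zero hjR
      (outer_fix _ hq ((F.form_commute (p' := p0) hjf T.tf).1 hjt) hflip)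
    rcases two_cases b with rfl | rfl
    · rcases two_cases a with rfl | rfl
      · exact hj1 F.zi_zero
      · exact hjz (by simp [zi, ZMod.val_one])
    · have h2 : y * F.zi a 1 * y⁻¹ = F.zi a 1 := conj_eq_iff_comm.2 hjy.symm
      have hpy : y * F.pt = F.pt * y := by
        rcases two_cases a with rfl | rfl
        · have e : F.zi 0 1 = F.pt := by simp [zi, ZMod.val_one]
          rw [e] at hjy
          exact hjy.symm
        · have e : z * F.zi 1 1 = F.pt := by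
            simp only [zi, ZMod.val_one, pow_one, ← mul_assoc, F.setup.zz, one_mul]
          have hc := (show Commute y z from mem_cz.1 hy).mul_right (show Commute y (F.zi 1 1) from hjy.symm)
          rw [e] at hc
          exact hc.eq
      have h1 : Commute y F.pt := hpy
      apply hup
      rw [← hyu]
      exact ((h1.mul_left (show Commute t F.pt from mem_cz.1 (F.form_ci T.tf))).mul_left h1.inv_left).eq

/-- Fusion to the centre inside the centralizer of the four group. -/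
theorem exists_fuse {k i j : G} (hk : k * z * k⁻¹ = i) (hit : i * t = t * i) (hiw : i * w = w * i)
    (hj : j ∈ Q.map (MulAut.conj k).toMonoidHom) (hj2 : j * j = 1) (hj1 : j ≠ 1) (hji : j ≠ i)
    (hjt : j * t = t * j) (hjw : j * w = w * j) : ∃ h ∈ T.CE, h * z * h⁻¹ = i := by
  set t' := k⁻¹ * t * k with ht'
  have ht'z : t' ∈ centralizer ({z} : Set G) := mem_cz.2 (by
    calc t' * z = k⁻¹ * (t * i) * k := by rw [ht', ← hk]; group
      _ = k⁻¹ * (i * t) * k := by rw [hit]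
      _ = z * t' := by rw [ht', ← hk]; group)
  have ht'2 : t' * t' = 1 := by
    rw [ht', show k⁻¹ * t * k * (k⁻¹ * t * k) = k⁻¹ * (t * t) * k by group, T.t_sq]; group
  have ht'1 : t' ≠ 1 := fun e => T.t_ne_one (by
    calc t = k * t' * k⁻¹ := by rw [ht']; group
      _ = 1 := by rw [e]; group)
  have hconj : IsConj t t' := isConj_iff.2 ⟨k⁻¹, by rw [ht', inv_inv]⟩
  have hQ : t' ∉ Q := fun h => T.not_conj_z ((F.class_of_mem_Q h ht'2 ht'1).trans hconj.symm)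
  obtain ⟨c, hc, hct⟩ : F.CConj t' t := (F.classify ht'z ht'2 hQ).elim (fun h => h t T.tf)
    fun h => absurd ((F.inQ_class h ht'2 ht'1).trans hconj.symm) T.not_conj_z
  obtain ⟨d, hd⟩ : ∃ d, d = k * c⁻¹ := ⟨_, rfl⟩
  have hdz : d * z * d⁻¹ = i := by
    rw [hd, ← hk, show k * c⁻¹ * z * (k * c⁻¹)⁻¹ = k * (c⁻¹ * z * c⁻¹⁻¹) * k⁻¹ by group,
      conj_eq_iff_comm.2 (mem_cz.1 (inv_mem hc))]
  have hdt : d * t * d⁻¹ = t := by
    calc d * t * d⁻¹ = k * c⁻¹ * (c * t' * c⁻¹) * (k * c⁻¹)⁻¹ := by rw [hct, hd]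
      _ = t := by rw [ht']; group
  have hback : ∀ {x : G}, x * i = i * x → d⁻¹ * x * d ∈ centralizer ({z} : Set G) := fun {x} hx => mem_cz.2 (by
    calc d⁻¹ * x * d * z = d⁻¹ * (x * i) * d := by rw [← hdz]; group
      _ = d⁻¹ * (i * x) * d := by rw [hx]
      _ = z * (d⁻¹ * x * d) := by rw [← hdz]; group)
  have hcomm : ∀ x y : G, x * y = y * x → d⁻¹ * x * d * (d⁻¹ * y * d) = d⁻¹ * y * d * (d⁻¹ * x * d) :=
    fun x y h => by
      calc d⁻¹ * x * d * (d⁻¹ * y * d) = d⁻¹ * (x * y) * d := by group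
        _ = d⁻¹ * (y * x) * d := by rw [h]
        _ = _ := by group
  have hdt' : d⁻¹ * t * d = t := by
    conv_lhs => rw [← hdt]
    group
  obtain ⟨q, hq, hqj⟩ := hj
  replace hqj : k * q * k⁻¹ = j := hqj
  have hjQ : d⁻¹ * j * d ∈ Q := by
    rw [hd, ← hqj, show (k * c⁻¹)⁻¹ * (k * q * k⁻¹) * (k * c⁻¹) = c * q * c⁻¹ by group]
    exact F.setup.norm hc hq
  have hu : d⁻¹ * w * d * t * (d⁻¹ * w * d)⁻¹ = d⁻¹ * T.t1 * d := by
    calc d⁻¹ * w * d * t * (d⁻¹ * w * d)⁻¹ = d⁻¹ * (w * (d * t * d⁻¹) * w⁻¹) * d := by group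
      _ = d⁻¹ * T.t1 * d := by rw [hdt]
  have hu2 : d⁻¹ * w * d * (d⁻¹ * T.t1 * d) * (d⁻¹ * w * d)⁻¹ = t * (d⁻¹ * T.t1 * d) := by
    calc d⁻¹ * w * d * (d⁻¹ * T.t1 * d) * (d⁻¹ * w * d)⁻¹ = d⁻¹ * (w * T.t1 * w⁻¹) * d := by group
      _ = d⁻¹ * (t * T.t1) * d := by rw [T.w_t1]
      _ = d⁻¹ * t * d * (d⁻¹ * T.t1 * d) := by group
      _ = _ := by rw [hdt']
  have hut : d⁻¹ * T.t1 * d * t = t * (d⁻¹ * T.t1 * d) := by
    have := hcomm _ _ T.t_t1.symm
    rwa [hdt'] at this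
  have hjt' : d⁻¹ * j * d * t = t * (d⁻¹ * j * d) := by
    have := hcomm _ _ hjt
    rwa [hdt'] at this
  have hcd : d * t = t * d := conj_eq_iff_comm.1 hdt
  rcases T.unique_four (hback hiw.symm) (by
      rw [show d⁻¹ * w * d * (d⁻¹ * w * d) * (d⁻¹ * w * d) = d⁻¹ * (w * w * w) * d by group, T.w3]; group)
    hu hu2 hut hjQ (by
      rw [show d⁻¹ * j * d * (d⁻¹ * j * d) = d⁻¹ * (j * j) * d by group, hj2]; group)
    (fun e => hj1 (by
      calc j = d * (d⁻¹ * j * d) * d⁻¹ := by group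
        _ = 1 := by rw [e]; group))
    (fun e => hji (by
      calc j = d * (d⁻¹ * j * d) * d⁻¹ := by group
        _ = i := by rw [e, hdz]))
    hjt' (hcomm _ _ hjw) with e | e
  · refine ⟨d, ⟨mem_cz.2 hcd, mem_cz.2 ?_⟩, hdz⟩
    calc d * T.t1 = d * (d⁻¹ * T.t1 * d) := by rw [e]
      _ = T.t1 * d := by rw [← mul_assoc d, mul_inv_cancel_left]
  · obtain ⟨o, ho, hot, hop, -⟩ := F.exists_outer T.tf
    refine ⟨d * o, ⟨Subgroup.mul_mem _ (mem_cz.2 hcd) (mem_cz.2 hot), mem_cz.2 ?_⟩, ?_⟩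
    · calc d * o * T.t1 = d * (o * T.t1 * o⁻¹) * o := by group
        _ = d * (d⁻¹ * T.t1 * d) * o := by rw [T.outer_swaps ho hot hop, e]
        _ = T.t1 * (d * o) := by rw [← mul_assoc d, mul_inv_cancel_left, mul_assoc]
    · rw [← hdz, show d * o * z * (d * o)⁻¹ = d * (o * z * o⁻¹) * d⁻¹ by group,
        conj_eq_iff_comm.2 (mem_cz.1 ho)]

/-- All involutions of the perpendicular two-group are fused. -/
theorem sm_fused {i : G} (hi : i ∈ T.Sm) (hi2 : i * i = 1) (hi1 : i ≠ 1) :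
    ∃ h ∈ T.CE, h * z * h⁻¹ = i := by
  by_cases hiz : i = z
  · exact ⟨1, one_mem _, by rw [hiz]; group⟩
  obtain ⟨k, hk⟩ := isConj_iff.1 (T.sm_class hi hi2 hi1)
  have hit : i * t = t * i := mem_cz.1 (T.Sm_le hi).2.1
  have hiw : i * w = w * i := (conj_eq_iff_comm.1 (T.w_fix hi)).symm
  have use : ∀ j ∈ T.Sm, j * j = 1 → j ≠ 1 → j ≠ i → j ∈ Q.map (MulAut.conj k).toMonoidHom →
      ∃ h ∈ T.CE, h * z * h⁻¹ = i := fun j hjS hj2 hj1 hji hj =>
    T.exists_fuse hk hit hiw hj hj2 hj1 hji (mem_cz.1 (T.Sm_le hjS).2.1)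
      (conj_eq_iff_comm.1 (T.w_fix hjS)).symm
  obtain ⟨p, hp, hf⟩ := id hi
  have hsq : sqp p = 0 := F.zp_inj ((F.form_sqp hf).symm.trans (hi2.trans F.zp_zero.symm))
  by_cases hc : p.2 = 0
  · rw [hc] at hf
    exact use z T.z_mem_Sm F.setup.zz F.setup.z_ne (Ne.symm hiz)
      (mutual_mem F.setup (hk.symm ▸ (F.form_mem_Q hf).1) (hk.symm ▸ hiz))
  have hne : ∀ e, F.zp e ≠ i := fun e h => hc (F.form_params hf (h ▸ F.form_zp_self e)).2
  rcases (mp_shape p hp hsq).resolve_left hc with ha | ha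
  · rw [ha] at hf
    refine use F.pt T.pt_mem_Sm F.pp F.pt_ne_one (fun e => hne (0, 1) (F.zp_pt.trans e)) ?_
    exact mutual_conj F.setup (j := k) (k := g) (by rw [hk]; exact F.form_mem_Qi hf)
      (by rw [hk]; exact fun e => hne (0, 1) (F.zp_pt.trans e.symm))
  · obtain ⟨s, hs, hvs, hsp⟩ := F.exists_swap
    have h := F.form_shift' hs hvs hf
    rw [ha, w4_add_self] at h
    have hsp' : s⁻¹ * F.pt * s⁻¹⁻¹ = F.pt * z := by
      have hzs : s⁻¹ * z * s = z := by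
        rw [show s⁻¹ * z * s = s⁻¹ * (z * s) by group, ← F.setup.cz hs]; group
      calc s⁻¹ * F.pt * s⁻¹⁻¹ = s⁻¹ * (s * F.pt * s⁻¹ * z) * s⁻¹⁻¹ := by
            rw [hsp, mul_assoc F.pt, F.setup.zz, mul_one]
        _ = F.pt * (s⁻¹ * z * s) := by simp [mul_assoc]
        _ = _ := by rw [hzs]
    have F' := F.swap_frame (inv_mem hs) hsp'
    have hpt : s⁻¹ * g * z * (s⁻¹ * g)⁻¹ = F.pt * z := by
      rw [← hsp']; show _ = s⁻¹ * (g * z * g⁻¹) * s⁻¹⁻¹; group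
    have hpz : F.pt * z = F.zp (1, 1) := by simp [zp, zi, ZMod.val_one]; exact F.pz
    have hiQ : i ∈ Q.map (MulAut.conj (s⁻¹ * g)).toMonoidHom := by
      obtain ⟨q, hq, hqe⟩ := F.form_mem_Qi h
      replace hqe : g * q * g⁻¹ = s * i * s⁻¹ := hqe
      exact ⟨q, hq, show s⁻¹ * g * q * (s⁻¹ * g)⁻¹ = i by
        rw [show s⁻¹ * g * q * (s⁻¹ * g)⁻¹ = s⁻¹ * (g * q * g⁻¹) * s by group, hqe]; group⟩
    refine use (F.pt * z) (hpz ▸ T.zp_mem_Sm _) (by rw [hpz, F.zp_sq]) (fun e => ?_)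
      (fun e => hne _ (hpz.symm.trans e)) ?_
    · rw [hpz, ← F.zp_zero] at e
      exact absurd (congrArg Prod.fst (F.zp_inj e)) one_ne_zero
    · have h2 := mutual_conj F.setup (j := k) (k := s⁻¹ * g) (by rw [hk]; exact hiQ)
        (by rw [hk, hpt]; exact fun e => hne _ (hpz.symm.trans e.symm))
      rwa [hpt] at h2

/-- The perpendicular two-group is generated by involutions. -/
theorem sm_generated {x : G} (hx : x ∈ T.Sm) :
    ∃ a b e : G, (a ∈ T.Sm ∧ a * a = 1) ∧ (b ∈ T.Sm ∧ b * b = 1) ∧ (e ∈ T.Sm ∧ e * e = 1) ∧ x = e * (a * b) := by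
  obtain ⟨p, hp, hf⟩ := hx
  obtain ⟨q, r, ⟨hq, hq2⟩, ⟨hr, hr2⟩, rfl⟩ := mp_split p hp
  obtain ⟨d, hd⟩ := F.form_unique (F.form_mul (F.el'_form q) (F.el'_form r)) hf
  refine ⟨F.el' q, F.el' r, F.zp d, ⟨⟨q, hq, F.el'_form q⟩, ?_⟩, ⟨⟨r, hr, F.el'_form r⟩, ?_⟩,
    ⟨T.zp_mem_Sm d, F.zp_sq d⟩, hd⟩
  · rw [F.form_sqp (F.el'_form q), hq2, F.zp_zero]
  · rw [F.form_sqp (F.el'_form r), hr2, F.zp_zero]

/-- The number of involutions in the perpendicular two-group. -/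
theorem card_sm_invol : Nat.card {i : G // i ∈ T.Sm ∧ i * i = 1} = 28 := by
  have h := F.card_forms (Finset.univ.filter fun p : W4 × W4 => MP p ∧ sqp p = 0)
  rw [mp_invol_count] at h
  refine Eq.trans (Nat.card_congr (Equiv.subtypeEquivRight fun i => ?_)) h
  simp only [Finset.mem_filter, Finset.mem_univ, true_and]
  constructor
  · rintro ⟨⟨p, hp, hf⟩, h2⟩
    exact ⟨p, ⟨hp, F.zp_inj ((F.form_sqp hf).symm.trans (h2.trans F.zp_zero.symm))⟩, hf⟩
  · rintro ⟨p, ⟨hp, hs⟩, hf⟩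
    exact ⟨⟨p, hp, hf⟩, by rw [F.form_sqp hf, hs, F.zp_zero]⟩

theorem card_opposite {y : G} (hy : y ∈ T.Sm) (hy2 : y * y = 1) {s : G} (hs : s ∈ T.Sm) (hne : y * s ≠ s * y) :
    Nat.card {i : G // i ∈ T.Sm ∧ i * i = 1 ∧ y * i * (y * i) = z} = 4 := by
  obtain ⟨p, hp, hf⟩ := hy
  obtain ⟨q, -, hg⟩ := hs
  have hsq : sqp p = 0 := F.zp_inj ((F.form_sqp hf).symm.trans (hy2.trans F.zp_zero.symm))
  have hp0 : p ≠ 0 := fun e => hne ((F.form_commute hf hg).2 (by subst e; simp [cmp, pl4_zero_left, pl4_zero_right]))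
  have h := F.card_forms (Finset.univ.filter fun r : W4 × W4 => MP r ∧ sqp r = 0 ∧ cmp p r = (1, 0))
  rw [mp_opposite p hp hsq hp0] at h
  refine Eq.trans (Nat.card_congr (Equiv.subtypeEquivRight fun i => ?_)) h
  simp only [Finset.mem_filter, Finset.mem_univ, true_and]
  have key : ∀ (r : W4 × W4), F.Form r.1 r.2 i → i * i = 1 → sqp r = 0 → y * i * (y * i) = F.zp (cmp p r) := by
    intro r hi _ hr
    have hyi : F.Form (p + r).1 (p + r).2 (y * i) := F.form_mul hf hi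
    rw [F.form_sqp hyi, sqp_add, hsq, hr, add_zero, zero_add]
  constructor
  · rintro ⟨⟨r, hr, hi⟩, h2, h3⟩
    have hrs : sqp r = 0 := F.zp_inj ((F.form_sqp hi).symm.trans (h2.trans F.zp_zero.symm))
    exact ⟨r, ⟨hr, hrs, F.zp_inj ((key r hi h2 hrs).symm.trans (h3.trans F.zp_z.symm))⟩, hi⟩
  · rintro ⟨r, ⟨hr, hrs, hc⟩, hi⟩
    have h2 : i * i = 1 := by rw [F.form_sqp hi, hrs, F.zp_zero]
    exact ⟨⟨r, hr, hi⟩, h2, by rw [key r hi h2 hrs, hc, F.zp_z]⟩

/-- Subgroups with only one involution are small. -/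
theorem card_unique_le {A : Subgroup G} (hA : A ≤ T.Sm) (hu : ∀ a ∈ A, a * a = 1 → a = 1 ∨ a = z) :
    Nat.card A ≤ 8 := by
  classical
  haveI := Fintype.ofFinite G
  let f : G → W4 × W4 := fun x => if h : ∃ p : W4 × W4, F.Form p.1 p.2 x then Classical.choose h else 0
  have hf : ∀ x ∈ A, MP (f x) ∧ F.Form (f x).1 (f x).2 x := by
    intro x hx
    obtain ⟨p, hp, hpf⟩ := hA hx
    have hex : ∃ p : W4 × W4, F.Form p.1 p.2 x := ⟨p, hpf⟩
    simp only [f, dif_pos hex]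
    obtain ⟨e1, e2⟩ := F.form_params (Classical.choose_spec hex) hpf
    exact ⟨(show Classical.choose hex = p from Prod.ext e1 e2).symm ▸ hp, Classical.choose_spec hex⟩
  have hsq : ∀ x ∈ A, f x ≠ 0 → sqp (f x) = (1, 0) := by
    intro x hx hne
    refine F.zp_inj ?_
    rw [← F.form_sqp (hf x hx).2, F.zp_z]
    refine (hu _ (mul_mem hx hx) (by rw [F.form_sqp (hf x hx).2, F.zp_sq])).resolve_left fun h1 => ?_
    rcases hu x hx h1 with e | e <;> refine hne ?_ <;> have h2 := (hf x hx).2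
    · exact Prod.ext (F.form_params h2 (e ▸ F.form_one)).1 (F.form_params h2 (e ▸ F.form_one)).2
    · have h3 : F.Form 0 0 x := by
        have h := F.form_zp_self (1, 0)
        rw [F.zp_z] at h
        rw [e]; exact h
      exact Prod.ext (F.form_params h2 h3).1 (F.form_params h2 h3).2
  have hmul : ∀ x ∈ A, ∀ y ∈ A, f (x * y) = f x + f y := fun x hx y hy =>
    Prod.ext (F.form_params (hf _ (mul_mem hx hy)).2 (F.form_mul (hf x hx).2 (hf y hy).2)).1
      (F.form_params (hf _ (mul_mem hx hy)).2 (F.form_mul (hf x hx).2 (hf y hy).2)).2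
  set s : Finset G := Finset.univ.filter fun x => x ∈ A with hs
  have hmem : ∀ x, x ∈ s ↔ x ∈ A := fun x => by simp [hs]
  have hcard : Nat.card A = s.card := by rw [Nat.card_eq_fintype_card, Fintype.card_subtype]
  have hfib : ∀ p ∈ s.image f, (s.filter fun x => f x = p).card ≤ 2 := by
    intro p hp
    obtain ⟨x, hx, rfl⟩ := Finset.mem_image.1 hp
    rw [hmem] at hx
    refine le_trans (Finset.card_le_card (t := {x, z * x}) fun y hy => ?_) Finset.card_le_two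
    simp only [Finset.mem_filter, hmem] at hy
    obtain ⟨d, hd⟩ := F.form_unique (hf x hx).2 (hy.2 ▸ (hf y hy.1).2)
    have hdA : F.zp d ∈ A := by
      have h := mul_mem hy.1 (inv_mem hx)
      rwa [hd, mul_inv_cancel_right] at h
    rcases hu _ hdA (F.zp_sq d) with e | e <;> simp [hd, e]
  have him : (s.image f).card ≤ 4 := by
    by_contra h5
    push Not at h5
    obtain ⟨p, hp, hp0⟩ : ∃ p ∈ s.image f, p ≠ 0 := Finset.exists_mem_ne (by omega) 0
    obtain ⟨q, hq, hqn⟩ := Finset.exists_mem_notMem_of_card_lt_card (s := {0, p}) (t := s.image f)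
      (lt_of_le_of_lt Finset.card_le_two (by omega))
    obtain ⟨r, hr, hrn⟩ := Finset.exists_mem_notMem_of_card_lt_card (s := {0, p, q, p + q}) (t := s.image f)
      (lt_of_le_of_lt Finset.card_le_four (by omega))
    simp only [Finset.mem_insert, Finset.mem_singleton, not_or] at hqn hrn
    obtain ⟨x, hx, rfl⟩ := Finset.mem_image.1 hp
    obtain ⟨y, hy, rfl⟩ := Finset.mem_image.1 hq
    obtain ⟨u, hu', rfl⟩ := Finset.mem_image.1 hr
    rw [hmem] at hx hy hu'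
    have hne : ∀ a b : W4 × W4, a + b = 0 → a = b := fun a b h =>
      Prod.ext (CharTwo.add_eq_zero.1 (congrArg Prod.fst h) |> fun e => e) (CharTwo.add_eq_zero.1 (congrArg Prod.snd h) |> fun e => e)
    refine mp_aniso _ (hf x hx).1 (hsq x hx hp0) _ (hf y hy).1 (hsq y hy hqn.1) ?_ _ (hf u hu').1
      (hsq u hu' hrn.1) ?_ ?_ ?_
    · rw [← hmul x hx y hy]
      exact hsq _ (mul_mem hx hy) fun e => hqn.2 (hne _ _ ((hmul x hx y hy).symm.trans e)).symm
    · rw [← hmul x hx u hu']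
      exact hsq _ (mul_mem hx hu') fun e => hrn.2.1 (hne _ _ ((hmul x hx u hu').symm.trans e)).symm
    · rw [← hmul y hy u hu']
      exact hsq _ (mul_mem hy hu') fun e => hrn.2.2.1 (hne _ _ ((hmul y hy u hu').symm.trans e)).symm
    · rw [← hmul x hx y hy, ← hmul _ (mul_mem hx hy) u hu']
      refine hsq _ (mul_mem (mul_mem hx hy) hu') fun e => hrn.2.2.2 ?_
      rw [hmul _ (mul_mem hx hy) u hu', hmul x hx y hy] at e
      exact (hne _ _ e).symm
  calc Nat.card A = s.card := hcard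
    _ ≤ 2 * (s.image f).card := Finset.card_le_mul_card_image s 2 hfib
    _ ≤ 8 := by omega

end Tri

end Pt

end

end CfsgLib.Spor.SuzType
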