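import Cfsg.Agent.Lib.Spor.SuzType.Order
import Cfsg.Agent.Lib.Spor.SuzType.PrimeLocal

/-!
# Centralizers of elements of order five or seven commuting with a reference involution
-/

set_option autoImplicit false
set_option synthInstance.maxSize 4096

namespace CfsgLib.Spor.SuzType

open Subgroup CfsgLib.Spor.CoOneType CfsgLib.Invol

noncomputable section

variable {G : Type*} [Group G] [Finite G] {z : G} {Q : Subgroup G} {v : G → Vec} {ρ : G → Iso6}

theorem three_cases : ∀ p : ZMod 2 × ZMod 2, p ≠ 0 → p = (1, 0) ∨ p = (0, 1) ∨ p = (1, 1) := by decide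

theorem one_one_eq : ((1, 1) : ZMod 2 × ZMod 2) = (1, 0) + (0, 1) := by decide

theorem perm_fixed : ∀ r : ZMod 2 × ZMod 2 → ZMod 2 × ZMod 2, Function.Injective r → r 0 = 0 →
    (∃ q, q ≠ 0 ∧ r q = q) ∨ r (r (r (1, 0))) = (1, 0) := by decide +kernel

/-- A power prime to a two-power order generates. -/
theorem commute_of_pow_three {x a : G} {k : ℕ} (hx : x ^ 2 ^ k = 1) (h : Commute (x ^ 3) a) : Commute x a := by
  have hc : Nat.Coprime 3 (orderOf x) := by
    refine Nat.Coprime.coprime_dvd_right (orderOf_dvd_of_pow_eq_one hx) ?_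
    exact Nat.Coprime.pow_right k (by norm_num)
  obtain ⟨m, hm⟩ := exists_pow_eq_self_of_coprime hc
  exact hm ▸ h.pow_left m

namespace Pt.Tri

variable {g : G} {F : Pt z Q v ρ g} {t w : G} (T : F.Tri t w)

include T

/-- The four group as a subgroup. -/
def four : Subgroup G where
  carrier := Set.range T.eE
  one_mem' := ⟨0, T.eE_zero⟩
  mul_mem' := by rintro _ _ ⟨p, rfl⟩ ⟨q, rfl⟩; exact ⟨p + q, (T.eE_add p q).symm⟩
  inv_mem' := by rintro _ ⟨p, rfl⟩; exact ⟨p, (inv_eq_of_mul_eq_one_right (T.eE_sq p)).symm⟩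

theorem mem_four {y : G} : y ∈ T.four ↔ ∃ p, T.eE p = y := Iff.rfl

theorem t_four : t ∈ T.four := ⟨(1, 0), T.eE_t⟩

theorem card_four : Nat.card T.four = 4 := by
  rw [← Nat.card_congr (Equiv.ofInjective T.eE fun p q h => ?_) |>.trans (by rfl : _ = Nat.card T.four),
    Nat.card_prod, Nat.card_zmod]
  have h2 : T.eE (p + q) = 1 := by rw [← T.eE_add, h, T.eE_sq]
  calc p = p + (q + q) := by rw [pair_add_self, add_zero]
    _ = q := by rw [← add_assoc, T.eE_eq_one h2, zero_add]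

/-- The involutions centralizing such an element are fused. -/
theorem invol_fused {p : ℕ} [hp : Fact p.Prime] (h2 : p ≠ 2) {x : G} (hx : x ∈ T.L) (hxo : orderOf x = p)
    (hsq : ¬ p ^ 2 ∣ Nat.card T.K) (h1 : ∀ y ∈ T.K, y * x = x * y → ∃ q, ∃ i : ℤ, y = T.eE q * x ^ i)
    (hfull : ∀ y ∈ zpowers x, y ≠ 1 → ∃ k ∈ T.K, k * x * k⁻¹ = y) {j : G}
    (hj : j ∈ centralizer ({x} : Set G)) (hjo : orderOf j = 2) :
    ∃ c ∈ centralizer ({x} : Set G), c * t * c⁻¹ = j := by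
  haveI : Fact (Nat.Prime 2) := ⟨Nat.prime_two⟩
  set X := centralizer ({x} : Set G)
  have hEX : ∀ q, T.eE q ∈ X := fun q => mem_cz.2 (T.eE_comm_CE (T.L_le hx) q).symm
  have hfuse : ∀ i', IsConj t i' → i' * x = x * i' → ∃ c ∈ X, c * t * c⁻¹ = i' := fun i' hc hi' =>
    fuse_cent hsq (T.CE_le (T.L_le hx)) hxo hfull hc hi'
  have hEf : ∀ q, q ≠ 0 → ∃ c ∈ X, c * t * c⁻¹ = T.eE q := by
    intro q hq
    refine hfuse _ ?_ (mem_cz.1 (hEX q))
    rcases three_cases q hq with rfl | rfl | rfl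
    · rw [T.eE_t]
    · exact isConj_iff.2 ⟨w, T.eE_t1.symm⟩
    · rw [one_one_eq, ← T.eE_add, T.eE_t, T.eE_t1]
      exact (isConj_iff.2 ⟨w, T.w_t2⟩).symm
  -- the four group is a Sylow subgroup
  have hfP : IsPGroup 2 T.four := IsPGroup.of_card (n := 2) T.card_four
  have hfX : T.four ≤ X := by rintro _ ⟨q, rfl⟩; exact hEX q
  have hidx : ¬ 2 ∣ (T.four.subgroupOf X).index := by
    refine not_dvd_index_of_normalizer (hfP.comap_of_injective X.subtype X.subtype_injective) ?_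
    rintro ⟨y, hyX⟩ hyN ⟨k, hk⟩
    replace hk : y ^ 2 ^ k = 1 := congrArg Subtype.val hk
    have hperm : ∀ q, ∃ r, T.eE r = y * T.eE q * y⁻¹ := fun q =>
      (mem_normalizer_iff.1 hyN ⟨T.eE q, hEX q⟩).1 (mem_subgroupOf.2 ⟨q, rfl⟩)
    choose r hr using hperm
    have hinj : Function.Injective r := fun a b e => by
      have h : T.eE a = T.eE b := mul_left_cancel (mul_right_cancel ((hr a).symm.trans (e ▸ hr b)))
      have h2 : T.eE (a + b) = 1 := by rw [← T.eE_add, h, T.eE_sq]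
      calc a = a + (b + b) := by rw [pair_add_self, add_zero]
        _ = b := by rw [← add_assoc, T.eE_eq_one h2, zero_add]
    have hr0 : r 0 = 0 := T.eE_eq_one (by rw [hr, T.eE_zero]; group)
    have hne : ∀ q, q ≠ 0 → r q ≠ 0 := fun q hq e => hq (hinj (e.trans hr0.symm))
    obtain ⟨q, hq, hfx⟩ : ∃ q, q ≠ 0 ∧ r q = q := by
      rcases perm_fixed r hinj hr0 with h | hcyc
      · exact h
      have h3 : Commute (y ^ 3) t := by
        refine conj_eq_iff_comm.1 ?_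
        calc y ^ 3 * t * (y ^ 3)⁻¹ = y * (y * (y * T.eE (1, 0) * y⁻¹) * y⁻¹) * y⁻¹ := by
              rw [T.eE_t, pow_succ, pow_two]; group
          _ = t := by rw [← hr, ← hr, ← hr, hcyc, T.eE_t]
      refine ⟨_, one_zero_ne, ?_⟩
      have e : T.eE (r (1, 0)) = T.eE (1, 0) := by
        rw [hr, T.eE_t, conj_eq_iff_comm.2 (commute_of_pow_three hk h3).eq]
      have h2 : T.eE (r (1, 0) + (1, 0)) = 1 := by rw [← T.eE_add, e, T.eE_sq]
      calc r (1, 0) = r (1, 0) + ((1, 0) + (1, 0)) := by rw [pair_add_self, add_zero]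
        _ = (1, 0) := by rw [← add_assoc, T.eE_eq_one h2, zero_add]
    obtain ⟨c, hc, hce⟩ := hEf q hq
    have hy' : c⁻¹ * y * c ∈ T.K := by
      refine mem_cz.2 ?_
      have e : y * (c * t * c⁻¹) * y⁻¹ = c * t * c⁻¹ := by rw [hce, ← hr, hfx]
      have e2 := conj_eq_iff_comm.1 e
      calc c⁻¹ * y * c * t = c⁻¹ * (y * (c * t * c⁻¹)) * c := by group
        _ = c⁻¹ * (c * t * c⁻¹ * y) * c := by rw [e2]
        _ = t * (c⁻¹ * y * c) := by group
    obtain ⟨a, i, hai⟩ := h1 _ hy' (mem_cz.1 (Subgroup.mul_mem _ (Subgroup.mul_mem _ (inv_mem hc) hyX) hc))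
    have ht' : c⁻¹ * t * c ∈ T.K := by
      refine mem_cz.2 ?_
      have hq' : t * T.eE q = T.eE q * t := T.eE_comm (y := t) rfl T.t_t1 q
      rw [← hce] at hq'
      calc c⁻¹ * t * c * t = c⁻¹ * (t * (c * t * c⁻¹)) * c := by group
        _ = c⁻¹ * (c * t * c⁻¹ * t) * c := by rw [hq']
        _ = t * (c⁻¹ * t * c) := by group
    obtain ⟨b, l, hbl⟩ := h1 _ ht' (mem_cz.1 (Subgroup.mul_mem _ (Subgroup.mul_mem _ (inv_mem hc)
      (mem_cz.2 (mem_cz.1 (T.L_le hx).1).symm)) hc))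
    have hxe : ∀ q, Commute x (T.eE q) := fun q => T.eE_comm_CE (T.L_le hx) q
    have hcomm : Commute (c⁻¹ * y * c) (c⁻¹ * t * c) := by
      rw [hai, hbl]
      refine Commute.mul_left ?_ ?_
      · refine Commute.mul_right ?_ ((hxe a).symm.zpow_right l)
        show _ = _
        rw [T.eE_add, T.eE_add, add_comm]
      · exact Commute.mul_right ((hxe b).zpow_left i) ((Commute.refl x).zpow_zpow i l)
    have hyt : Commute y t := by
      show y * t = t * y
      calc y * t = c * ((c⁻¹ * y * c) * (c⁻¹ * t * c)) * c⁻¹ := by group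
        _ = c * ((c⁻¹ * t * c) * (c⁻¹ * y * c)) * c⁻¹ := by rw [hcomm.eq]
        _ = t * y := by group
    obtain ⟨d, m, hdm⟩ := h1 y (mem_cz.2 hyt.eq) (mem_cz.1 hyX)
    rw [mem_subgroupOf]
    refine ⟨d, ?_⟩
    show T.eE d = y
    have hm : x ^ m = T.eE d * y := by rw [hdm, ← mul_assoc, T.eE_sq, one_mul]
    have hcd : Commute (T.eE d) y := by rw [hdm]; exact (Commute.refl _).mul_right ((hxe d).symm.zpow_right m)
    have hpow : (x ^ m) ^ 2 ^ (k + 1) = 1 := by
      have hE2 : T.eE d ^ 2 ^ (k + 1) = 1 := by rw [pow_succ', pow_mul, pow_two, T.eE_sq, one_pow]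
      have hy2 : y ^ 2 ^ (k + 1) = 1 := by rw [pow_succ, pow_mul, hk, one_pow]
      rw [hm, hcd.mul_pow, hE2, hy2, one_mul]
    have hm1 : x ^ m = 1 := by
      refine orderOf_eq_one_iff.1 (Nat.eq_one_of_dvd_coprimes ?_ (orderOf_dvd_of_pow_eq_one (n := p) ?_)
        (orderOf_dvd_of_pow_eq_one hpow))
      · exact Nat.Coprime.pow_right _ ((Nat.coprime_primes hp.out Nat.prime_two).2 h2)
      · rw [← zpow_natCast, ← zpow_mul, mul_comm, zpow_mul, zpow_natCast, ← hxo, pow_orderOf_eq_one, one_zpow]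
    rw [hdm, hm1, mul_one]
  obtain ⟨k, hk⟩ := exists_conj_le_sylow (p := 2) (Q := zpowers (⟨j, hj⟩ : X))
    (IsPGroup.of_card (n := 1) (by rw [Nat.card_zpowers, orderOf_mk, hjo, pow_one]))
    ((hfP.comap_of_injective X.subtype X.subtype_injective).toSylow hidx)
  obtain ⟨q, hq⟩ := mem_subgroupOf.1 (show k * ⟨j, hj⟩ * k⁻¹ ∈ T.four.subgroupOf X from hk _ (mem_zpowers _))
  replace hq : T.eE q = (k : G) * j * (k : G)⁻¹ := hq
  obtain ⟨c, hc, hce⟩ := hEf q (fun e => by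
    rw [e, T.eE_zero] at hq
    have hj1 : j = 1 := conj_eq_one_iff.1 hq.symm
    rw [hj1, orderOf_one] at hjo
    omega)
  refine ⟨(k : G)⁻¹ * c, Subgroup.mul_mem _ (inv_mem k.2) hc, ?_⟩
  rw [show (k : G)⁻¹ * c * t * ((k : G)⁻¹ * c)⁻¹ = (k : G)⁻¹ * (c * t * c⁻¹) * k by group, hce, hq]
  group

end Pt.Tri

end

end CfsgLib.Spor.SuzType
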