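import Cfsg.Agent.Lib.Spor.SuzType.Four
import Cfsg.Agent.Lib.Invol.SelfCountLocal
import Cfsg.Agent.Lib.Invol.RetractTransfer
import Cfsg.Agent.Lib.Invol.BaerSuzuki

/-!
# The complement of the four group in its centralizer
-/

set_option autoImplicit false
set_option synthInstance.maxSize 4096

namespace CfsgLib.Spor.SuzType

open Subgroup CfsgLib.Spor.CoOneType CfsgLib.Invol

noncomputable section

variable {G : Type*} [Group G] [Finite G] {z : G} {Q : Subgroup G} {v : G → Vec} {ρ : G → Iso6}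

theorem mp_center : ∀ p : W4 × W4, MP p → p ≠ 0 → ∃ q : W4 × W4, MP q ∧ cmp p q ≠ 0 := by decide +kernel

theorem mp_noncentral_count :
    (Finset.univ.filter fun p : W4 × W4 => MP p ∧ sqp p = 0 ∧ p ≠ 0).card = 6 := by decide +kernel

theorem mp_pt : ∀ p : W4 × W4, cmp p p0 = 0 → ∀ q : W4 × W4, cmp q p0 = 0 →
    ((pl4 p.1 c₀, pl4 p.1 a₀) + (pl4 q.1 c₀, pl4 q.1 a₀) : ZMod 2 × ZMod 2) =
      (pl4 (p + q).1 c₀, pl4 (p + q).1 a₀) := fun p _ q _ => by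
  simp [SuzType.pl4_add_left]

theorem eE_par : ∀ s t : ZMod 2, ((pl4 (s • p0 + t • p1).1 c₀, pl4 (s • p0 + t • p1).1 a₀) : ZMod 2 × ZMod 2) = (s, t) := by
  decide +kernel

theorem one_zero_ne : ((1, 0) : ZMod 2 × ZMod 2) ≠ 0 := by decide

theorem third_point : ∀ a b : ZMod 2 × ZMod 2, a ≠ 0 → a ≠ (1, 0) → b ≠ 0 → b ≠ a → b ≠ (1, 0) →
    b = (1, 0) + a := by decide

namespace Pt.Tri

variable {g : G} {F : Pt z Q v ρ g} {t w : G} (T : F.Tri t w)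

/-- The inner two-group inside the centralizer of the four group. -/
def inn (T : F.Tri t w) : Subgroup ↥T.CE :=
  (centralizer ({z} : Set G) ⊓ centralizer ({F.pt} : Set G) ⊓ centralizer ({t} : Set G)).subgroupOf T.CE

include T

theorem cz_CE {y : G} (hy : y ∈ T.CE) (hyz : y * z = z * y) :
    y ∈ centralizer ({z} : Set G) ⊓ centralizer ({F.pt} : Set G) ⊓ centralizer ({t} : Set G) :=
  ⟨⟨mem_cz.2 hyz, mem_cz.2 ((T.mem_CE_iff (mem_cz.2 hyz) (mem_cz.1 hy.1)).1 hy)⟩, hy.1⟩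

theorem inner_of_comm_zp {y : G} (hy : y ∈ T.CE) {e : ZMod 2 × ZMod 2} (he : e ≠ 0)
    (hyv : y * F.zp e = F.zp e * y) :
    y ∈ centralizer ({z} : Set G) ⊓ centralizer ({F.pt} : Set G) ⊓ centralizer ({t} : Set G) := by
  classical
  haveI := Fintype.ofFinite G
  obtain ⟨h, hh, hz⟩ := T.sm_fused (T.zp_mem_Sm e) (F.zp_sq e) fun e1 => he (F.zp_inj (e1.trans F.zp_zero.symm))
  set H := centralizer ({z} : Set G) ⊓ centralizer ({F.pt} : Set G) ⊓ centralizer ({t} : Set G)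
  set X := T.CE ⊓ centralizer ({F.zp e} : Set G)
  have hle : H ≤ X := fun x hx => ⟨T.inner_CE hx, mem_cz.2 (F.zi_comm hx.1.1 hx.1.2 _ _)⟩
  have hsub : X ≤ H.map (MulAut.conj h).toMonoidHom := by
    intro x hx
    refine ⟨h⁻¹ * x * h, T.cz_CE (mul_mem (mul_mem (inv_mem hh) hx.1) hh) ?_,
      show h * (h⁻¹ * x * h) * h⁻¹ = x by group⟩
    calc h⁻¹ * x * h * z = h⁻¹ * (x * (h * z * h⁻¹)) * h := by group
      _ = h⁻¹ * ((h * z * h⁻¹) * x) * h := by rw [hz, mem_cz.1 hx.2]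
      _ = z * (h⁻¹ * x * h) := by group
  have e1 : H = X := eq_of_le_of_card_ge hle (by
    rw [← card_map_of_injective (K := H) (f := (MulAut.conj h).toMonoidHom) (MulAut.conj h).injective]
    exact card_le_of_le hsub)
  rw [e1]
  exact ⟨hy, mem_cz.2 hyv⟩

theorem central_Sm {x : G} (hx : x ∈ T.Sm) (hc : ∀ y ∈ T.Sm, x * y = y * x) : ∃ e, x = F.zp e := by
  obtain ⟨p, hp, hf⟩ := hx
  by_cases h0 : p = 0
  · subst h0
    obtain ⟨e, he⟩ := F.form_unique F.form_one hf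
    exact ⟨e, by rw [he, mul_one]⟩
  · obtain ⟨q, hq, hne⟩ := mp_center p hp h0
    exact absurd ((F.form_commute hf (F.el'_form q)).1 (hc _ ⟨q, hq, F.el'_form q⟩)) hne

theorem isPGroup_inn : IsPGroup 2 T.inn := by
  refine IsPGroup.of_card (n := 8) ?_
  rw [inn, Nat.card_congr (subgroupOfEquivOfLe (fun y hy => T.inner_CE hy)).toEquiv, F.card_inner T.tf]
  rfl

theorem odd_index : ¬ 2 ∣ T.inn.index := by
  haveI : Fact (Nat.Prime 2) := ⟨Nat.prime_two⟩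
  refine not_dvd_index_of_normalizer T.isPGroup_inn fun x hx ⟨k, hk⟩ => ?_
  have hnorm : ∀ y : G, y ∈ centralizer ({z} : Set G) ⊓ centralizer ({F.pt} : Set G) ⊓ centralizer ({t} : Set G) →
      (x : G) * y * (x : G)⁻¹ ∈
        centralizer ({z} : Set G) ⊓ centralizer ({F.pt} : Set G) ⊓ centralizer ({t} : Set G) := fun y hy =>
    mem_subgroupOf.1 ((mem_normalizer_iff.1 hx ⟨y, T.inner_CE hy⟩).1 (mem_subgroupOf.2 hy))
  have hin : ∀ y ∈ T.Sm,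
      y ∈ centralizer ({z} : Set G) ⊓ centralizer ({F.pt} : Set G) ⊓ centralizer ({t} : Set G) :=
    fun y hy => ⟨(T.Sm_le hy).1, (T.Sm_le hy).2.1⟩
  have hstep : ∀ e, e ≠ 0 → IsConj z (F.zp e) →
      ∃ e', e' ≠ 0 ∧ IsConj z (F.zp e') ∧ (x : G) * F.zp e * (x : G)⁻¹ = F.zp e' := by
    intro e he hec
    set y := (x : G) * F.zp e * (x : G)⁻¹ with hy
    have hyin := hnorm _ (hin _ (T.zp_mem_Sm e))
    have hyc : IsConj z y := hec.trans (isConj_iff.2 ⟨(x : G), rfl⟩)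
    obtain ⟨e', he'⟩ := T.central_Sm (T.zclass_mem hyin.1.1 (mem_cz.1 hyin.2) hyc) fun u hu => by
      have h1 := hnorm _ (hin u hu)
      have h2 : F.zp e * ((x : G)⁻¹ * u * (x : G)) = (x : G)⁻¹ * u * (x : G) * F.zp e := by
        have h3 : (x : G)⁻¹ * u * (x : G) ∈
            centralizer ({z} : Set G) ⊓ centralizer ({F.pt} : Set G) ⊓ centralizer ({t} : Set G) :=
          mem_subgroupOf.1 ((mem_normalizer_iff.1 hx (⟨(x : G)⁻¹ * u * (x : G),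
            mul_mem (mul_mem (inv_mem x.2) (T.inner_CE (hin u hu))) x.2⟩)).2 (mem_subgroupOf.2 (by
              show (x : G) * ((x : G)⁻¹ * u * (x : G)) * (x : G)⁻¹ ∈ _
              rw [show (x : G) * ((x : G)⁻¹ * u * (x : G)) * (x : G)⁻¹ = u by group]
              exact hin u hu)))
        exact (F.zi_comm h3.1.1 h3.1.2 _ _).symm
      calc y * u = (x : G) * (F.zp e * ((x : G)⁻¹ * u * (x : G))) * (x : G)⁻¹ := by rw [hy]; group
        _ = (x : G) * ((x : G)⁻¹ * u * (x : G) * F.zp e) * (x : G)⁻¹ := by rw [h2]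
        _ = u * y := by rw [hy]; group
    refine ⟨e', fun e0 => ?_, he' ▸ hyc, he'⟩
    rw [e0, F.zp_zero, conj_eq_one_iff] at he'
    exact he (F.zp_inj (he'.trans F.zp_zero.symm))
  have hmem : ∀ {u : G}, u ∈ centralizer ({z} : Set G) ⊓ centralizer ({F.pt} : Set G) ⊓ centralizer ({t} : Set G) →
      ∀ hu : u ∈ T.CE, (⟨u, hu⟩ : ↥T.CE) ∈ T.inn := fun h hu => mem_subgroupOf.2 h
  have hzc : ∀ e : ZMod 2 × ZMod 2, (x : G) * F.zp e * (x : G)⁻¹ = F.zp e → e ≠ 0 → x ∈ T.inn :=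
    fun e h he => hmem (T.inner_of_comm_zp x.2 he (mul_inv_eq_iff_eq_mul.1 h)) x.2
  obtain ⟨e1, he1, hc1, h1⟩ := hstep (1, 0) one_zero_ne (by rw [F.zp_z])
  by_cases h10 : e1 = (1, 0)
  · subst h10; exact hzc _ h1 one_zero_ne
  obtain ⟨e2, he2, -, h2⟩ := hstep e1 he1 hc1
  have hne : e2 ≠ e1 := fun e => h10 (F.zp_inj (mul_left_cancel (mul_right_cancel (h1.trans (e ▸ h2).symm)))).symm
  have hprod : (x : G) * F.zp ((1, 0) + e1) * (x : G)⁻¹ = F.zp (e1 + e2) := by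
    rw [← F.zp_add, ← F.zp_add]
    calc (x : G) * (F.zp (1, 0) * F.zp e1) * (x : G)⁻¹
        = (x : G) * F.zp (1, 0) * (x : G)⁻¹ * ((x : G) * F.zp e1 * (x : G)⁻¹) := by group
      _ = _ := by rw [h1, h2]
  by_cases h20 : e2 = (1, 0)
  · rw [h20, add_comm e1] at hprod
    refine hzc _ hprod fun h => h10 ?_
    have := congrArg (fun p => p + e1) h
    simp only [add_assoc, pair_add_self, add_zero, zero_add] at this
    exact this.symm
  have e3 : e2 = (1, 0) + e1 := third_point e1 e2 he1 h10 he2 hne h20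
  have h3 : (x : G) * F.zp e2 * (x : G)⁻¹ = z := by
    rw [e3, hprod, e3, ← add_assoc, add_comm e1, add_assoc, pair_add_self, add_zero, F.zp_z]
  have hx3 : x ^ 3 ∈ T.inn := by
    refine hmem (T.cz_CE (x ^ 3).2 (mul_inv_eq_iff_eq_mul.1 ?_)) (x ^ 3).2
    show ((x ^ 3 : ↥T.CE) : G) * z * ((x ^ 3 : ↥T.CE) : G)⁻¹ = z
    rw [SubmonoidClass.coe_pow]
    have hz : (x : G) ^ 3 * F.zp (1, 0) * ((x : G) ^ 3)⁻¹ = z := by
      calc (x : G) ^ 3 * F.zp (1, 0) * ((x : G) ^ 3)⁻¹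
          = (x : G) * ((x : G) * ((x : G) * F.zp (1, 0) * (x : G)⁻¹) * (x : G)⁻¹) * (x : G)⁻¹ := by rw [pow_succ, pow_succ, pow_one]; group
        _ = z := by rw [h1, h2, h3]
    rwa [F.zp_z] at hz
  obtain ⟨j, hj⟩ := exists_pow_eq_self_of_coprime (x := x) (n := 3) (by
    refine Nat.Coprime.coprime_dvd_right (orderOf_dvd_of_pow_eq_one hk) ?_
    exact Nat.Coprime.pow_right k (by norm_num))
  rw [← hj]
  exact pow_mem hx3 j

theorem exists_proj : ∃ Φ : ↥T.CE →* Multiplicative (ZMod 2 × ZMod 2),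
    ∀ p, Φ ⟨T.eE p, T.eE_mem p⟩ = Multiplicative.ofAdd p := by
  classical
  have hex : ∀ y : ↥T.inn, ∃ p : W4 × W4, cmp p p0 = 0 ∧ F.Form p.1 p.2 ((y : ↥T.CE) : G) := fun y =>
    (F.mem_inner T.tf).1 (mem_subgroupOf.1 y.2)
  let φ : ↥T.inn →* Multiplicative (ZMod 2 × ZMod 2) :=
    MonoidHom.mk' (fun y => Multiplicative.ofAdd
      (pl4 (Classical.choose (hex y)).1 c₀, pl4 (Classical.choose (hex y)).1 a₀)) fun y y' => by
      obtain ⟨h1, h1'⟩ := Classical.choose_spec (hex y)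
      obtain ⟨h2, h2'⟩ := Classical.choose_spec (hex y')
      obtain ⟨-, h3'⟩ := Classical.choose_spec (hex (y * y'))
      have e := F.form_params h3' (F.form_mul h1' h2')
      rw [← ofAdd_add, mp_pt _ h1 _ h2, e.1]
      rfl
  have hcop : Nat.Coprime (Nat.card (Multiplicative (ZMod 2 × ZMod 2))) T.inn.index := by
    rw [Nat.card_congr Multiplicative.toAdd, Nat.card_prod, Nat.card_zmod, show 2 * 2 = 2 ^ 2 from rfl]
    exact Nat.Coprime.pow_left 2 (Nat.prime_two.coprime_iff_not_dvd.2 T.odd_index)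
  obtain ⟨Φ, hΦ⟩ := exists_retract φ hcop
  refine ⟨Φ, fun p => ?_⟩
  have hin : T.eE p ∈ centralizer ({z} : Set G) ⊓ centralizer ({F.pt} : Set G) ⊓ centralizer ({t} : Set G) :=
    ⟨⟨F.form_cz (T.eE_form p), F.form_ci (T.eE_form p)⟩, (T.eE_mem p).1⟩
  rw [hΦ _ (mem_subgroupOf.2 hin) fun y => Subtype.ext (T.eE_comm_CE y.2 p)]
  refine congrArg Multiplicative.ofAdd ?_
  have h := Classical.choose_spec (hex ⟨⟨T.eE p, T.eE_mem p⟩, mem_subgroupOf.2 hin⟩)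
  rw [(F.form_params h.2 (T.eE_form p)).1]
  exact eE_par p.1 p.2

/-- The projection on the four group. -/
def proj : ↥T.CE →* Multiplicative (ZMod 2 × ZMod 2) := Classical.choose T.exists_proj

theorem proj_eE (p : ZMod 2 × ZMod 2) : T.proj ⟨T.eE p, T.eE_mem p⟩ = Multiplicative.ofAdd p :=
  Classical.choose_spec T.exists_proj p

/-- The complement of the four group. -/
def L : Subgroup G := T.proj.ker.map T.CE.subtype

theorem mem_L {x : G} : x ∈ T.L ↔ ∃ h : x ∈ T.CE, T.proj ⟨x, h⟩ = 1 :=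
  ⟨fun ⟨y, hy, e⟩ => e ▸ ⟨y.2, hy⟩, fun ⟨h, e⟩ => ⟨⟨x, h⟩, e, rfl⟩⟩

theorem L_le {x : G} (hx : x ∈ T.L) : x ∈ T.CE := (T.mem_L.1 hx).1

theorem L_norm {x y : G} (hx : x ∈ T.L) (hy : y ∈ T.CE) : y * x * y⁻¹ ∈ T.L := by
  obtain ⟨h, e⟩ := T.mem_L.1 hx
  refine T.mem_L.2 ⟨mul_mem (mul_mem hy h) (inv_mem hy), ?_⟩
  rw [show (⟨y * x * y⁻¹, mul_mem (mul_mem hy h) (inv_mem hy)⟩ : ↥T.CE) = ⟨y, hy⟩ * ⟨x, h⟩ * ⟨y, hy⟩⁻¹ from rfl,
    map_mul, map_mul, e, mul_one, map_inv, mul_inv_cancel]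

theorem CE_split {y : G} (hy : y ∈ T.CE) : ∃ p, ∃ l ∈ T.L, y = T.eE p * l := by
  refine ⟨Multiplicative.toAdd (T.proj ⟨y, hy⟩), T.eE (Multiplicative.toAdd (T.proj ⟨y, hy⟩)) * y,
    T.mem_L.2 ⟨mul_mem (T.eE_mem _) hy, ?_⟩, by rw [← mul_assoc, T.eE_sq, one_mul]⟩
  rw [show (⟨T.eE (Multiplicative.toAdd (T.proj ⟨y, hy⟩)) * y, mul_mem (T.eE_mem _) hy⟩ : ↥T.CE) =
    ⟨_, T.eE_mem (Multiplicative.toAdd (T.proj ⟨y, hy⟩))⟩ * ⟨y, hy⟩ from rfl, map_mul, T.proj_eE,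
    ← ofAdd_toAdd (T.proj ⟨y, hy⟩), toAdd_ofAdd, ← ofAdd_add, pair_add_self]
  rfl

theorem eE_L {p : ZMod 2 × ZMod 2} (h : T.eE p ∈ T.L) : p = 0 := by
  obtain ⟨h1, e⟩ := T.mem_L.1 h
  rw [show (⟨T.eE p, h1⟩ : ↥T.CE) = ⟨T.eE p, T.eE_mem p⟩ from rfl, T.proj_eE] at e
  exact Multiplicative.ofAdd.injective (e.trans ofAdd_zero.symm)

theorem card_CE : Nat.card T.CE = 4 * Nat.card T.L := by
  have h := T.proj.ker.card_mul_index
  have hs : Function.Surjective T.proj := fun p =>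
    ⟨⟨T.eE (Multiplicative.toAdd p), T.eE_mem _⟩, (T.proj_eE _).trans (ofAdd_toAdd p)⟩
  rw [index_ker, MonoidHom.range_eq_top.2 hs, Subgroup.card_top, Nat.card_congr Multiplicative.toAdd,
    Nat.card_prod, Nat.card_zmod] at h
  rw [L, card_map_of_injective T.CE.subtype_injective]
  omega

theorem sm_L {x : G} (hx : x ∈ T.Sm) : x ∈ T.L := by
  have hinv : ∀ i ∈ T.Sm, i * i = 1 → i ∈ T.L := by
    have hval : ∀ i (hi : i ∈ T.Sm), i * i = 1 → i ≠ 1 →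
        T.proj ⟨i, (T.Sm_le hi).2⟩ = T.proj ⟨z, (T.Sm_le T.z_mem_Sm).2⟩ := by
      intro i hi hi2 hi1
      obtain ⟨h, hh, hz⟩ := T.sm_fused hi hi2 hi1
      rw [show (⟨i, (T.Sm_le hi).2⟩ : ↥T.CE) = ⟨h, hh⟩ * ⟨z, (T.Sm_le T.z_mem_Sm).2⟩ * ⟨h, hh⟩⁻¹ from
        Subtype.ext hz.symm, map_mul, map_mul, map_inv, mul_right_comm, mul_inv_cancel, one_mul]
    have hz1 : T.proj ⟨z, (T.Sm_le T.z_mem_Sm).2⟩ = 1 := by
      have hne : F.zp (1, 1) ≠ 1 := fun e => absurd (F.zp_inj (e.trans F.zp_zero.symm)) (by decide)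
      have e : (⟨F.pt, (T.Sm_le T.pt_mem_Sm).2⟩ : ↥T.CE) * ⟨F.zp (1, 1), (T.Sm_le (T.zp_mem_Sm _)).2⟩ =
          ⟨z, (T.Sm_le T.z_mem_Sm).2⟩ := Subtype.ext (show F.pt * F.zp (1, 1) = z by
        rw [← F.zp_pt, F.zp_add]; exact F.zp_z)
      have h := congrArg T.proj e
      rw [map_mul, hval _ T.pt_mem_Sm F.pp F.pt_ne_one, hval _ (T.zp_mem_Sm _) (F.zp_sq _) hne] at h
      exact mul_eq_left.1 h
    intro i hi hi2
    by_cases hi1 : i = 1
    · rw [hi1]; exact one_mem _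
    exact T.mem_L.2 ⟨(T.Sm_le hi).2, (hval i hi hi2 hi1).trans hz1⟩
  obtain ⟨a, b, e, ⟨ha, ha2⟩, ⟨hb, hb2⟩, ⟨he, he2⟩, rfl⟩ := T.sm_generated hx
  exact mul_mem (hinv e he he2) (mul_mem (hinv a ha ha2) (hinv b hb hb2))

theorem z_L : z ∈ T.L := T.sm_L T.z_mem_Sm

theorem L_cz {x : G} (hx : x ∈ T.L) (hxz : x * z = z * x) : x ∈ T.Sm := by
  obtain ⟨p, s, hs, rfl⟩ := T.inner_split (T.cz_CE (T.L_le hx) hxz)
  have hp := T.eE_L (by simpa [mul_assoc] using mul_mem hx (inv_mem (T.sm_L hs)) : T.eE p ∈ T.L)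
  rw [hp, T.eE_zero, one_mul]
  exact hs

theorem L_cz_iff {x : G} : x ∈ T.L ∧ x * z = z * x ↔ x ∈ T.Sm :=
  ⟨fun h => T.L_cz h.1 h.2, fun h => ⟨T.sm_L h, mem_cz.1 (T.Sm_le h).1.1⟩⟩

/-- Involutions in the centralizer of the four group, up to conjugation. -/
theorem CE_invol_conj {y : G} (hy : y ∈ T.CE) (hy2 : y * y = 1) :
    ∃ c ∈ T.CE, ∃ p, ∃ s ∈ T.Sm, c * y * c⁻¹ = T.eE p * s ∧ s * s = 1 := by
  haveI : Fact (Nat.Prime 2) := ⟨Nat.prime_two⟩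
  set P := T.isPGroup_inn.toSylow T.odd_index
  have hyp : IsPGroup 2 (zpowers (⟨y, hy⟩ : ↥T.CE)) := by
    rintro ⟨a, k, rfl⟩
    refine ⟨1, Subtype.ext ?_⟩
    show ((⟨y, hy⟩ : ↥T.CE) ^ k) ^ 2 = 1
    rw [← zpow_natCast, ← zpow_mul, mul_comm, zpow_mul, zpow_natCast,
      show (⟨y, hy⟩ : ↥T.CE) ^ 2 = 1 from Subtype.ext (by rw [SubmonoidClass.coe_pow, pow_two]; exact hy2), one_zpow]
  obtain ⟨c, hc⟩ := exists_conj_le_sylow hyp P
  have h := mem_subgroupOf.1 (show c * ⟨y, hy⟩ * c⁻¹ ∈ T.inn from hc _ (mem_zpowers _))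
  obtain ⟨p, s, hs, e, hs2⟩ := T.inner_inv h (by
    show (c : G) * y * (c : G)⁻¹ * ((c : G) * y * (c : G)⁻¹) = 1
    rw [show (c : G) * y * (c : G)⁻¹ * ((c : G) * y * (c : G)⁻¹) = (c : G) * (y * y) * (c : G)⁻¹ by group, hy2]
    group)
  exact ⟨c, c.2, p, s, hs, e, hs2⟩

theorem L_conj_CE {y c : G} (hc : c ∈ T.CE) (h : c * y * c⁻¹ ∈ T.L) : y ∈ T.L := by
  have := T.L_norm h (inv_mem hc)
  rwa [show c⁻¹ * (c * y * c⁻¹) * c⁻¹⁻¹ = y by group] at this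

theorem zclass_L {y : G} (hy : y ∈ T.CE) (hyc : IsConj z y) : y ∈ T.L := by
  have hy2 : y * y = 1 := by
    obtain ⟨k, rfl⟩ := isConj_iff.1 hyc
    rw [show k * z * k⁻¹ * (k * z * k⁻¹) = k * (z * z) * k⁻¹ by group, F.setup.zz]; group
  obtain ⟨c, hc, p, s, hs, e, hs2⟩ := T.CE_invol_conj hy hy2
  refine T.L_conj_CE hc ?_
  by_cases hp : p = 0
  · rw [e, hp, T.eE_zero, one_mul]; exact T.sm_L hs
  exact absurd ((hyc.trans (isConj_iff.2 ⟨c, e⟩)).trans (T.eE_mul_class hp hs hs2).symm) T.not_conj_z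

theorem L_fused {i : G} (hi : i ∈ T.L) (hi2 : i * i = 1) (hi1 : i ≠ 1) : ∃ l ∈ T.L, l * z * l⁻¹ = i := by
  obtain ⟨c, hc, p, s, hs, e, hs2⟩ := T.CE_invol_conj (T.L_le hi) hi2
  have hp : p = 0 := T.eE_L (by
    have h := mul_mem (T.L_norm hi hc) (inv_mem (T.sm_L hs))
    rwa [e, mul_inv_cancel_right] at h)
  rw [hp, T.eE_zero, one_mul] at e
  obtain ⟨h, hh, hz⟩ := T.sm_fused hs hs2 (fun h1 => hi1 (conj_eq_one_iff.1 (e.trans h1)))
  obtain ⟨q, l, hl, hlq⟩ := T.CE_split (mul_mem (inv_mem hc) hh)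
  refine ⟨l, hl, ?_⟩
  have hzi : c⁻¹ * h * z * (c⁻¹ * h)⁻¹ = i := by
    rw [show c⁻¹ * h * z * (c⁻¹ * h)⁻¹ = c⁻¹ * (h * z * h⁻¹) * c by group, hz, ← e]; group
  rw [hlq] at hzi
  rw [← hzi]
  have hz' : T.eE q * (l * z * l⁻¹) = l * z * l⁻¹ * T.eE q :=
    (T.eE_comm_CE (T.L_le (mul_mem (mul_mem hl T.z_L) (inv_mem hl))) q).symm
  calc l * z * l⁻¹ = l * z * l⁻¹ * T.eE q * (T.eE q)⁻¹ := by group
    _ = _ := by rw [← hz']; group

theorem L_hyp : SelfCount.Hyp (⟨z, T.z_L⟩ : ↥T.L) 6 := by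
  refine ⟨?_, fun i hi => ?_, ?_⟩
  · rw [orderOf_mk]; exact F.setup.core.ord
  · have hi' := invol_iff.1 hi
    obtain ⟨l, hl, e⟩ := T.L_fused i.2 (congrArg Subtype.val hi'.1) fun e => hi'.2 (Subtype.ext e)
    exact isConj_iff.2 ⟨⟨l, hl⟩, Subtype.ext e⟩
  · rw [← show Nat.card T.Sm = 2 ^ 6 from T.card_Sm]
    refine Nat.card_congr
      { toFun := fun x => ⟨x.1.1, T.L_cz x.1.2 (congrArg Subtype.val (mem_cz.1 x.2))⟩
        invFun := fun x => ⟨⟨x.1, T.sm_L x.2⟩, mem_cz.2 (Subtype.ext (mem_cz.1 (T.Sm_le x.2).1.1))⟩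
        left_inv := fun _ => rfl
        right_inv := fun _ => rfl }

theorem L_exp {x : G} (hx : x ∈ T.Sm) : x ^ 4 = 1 := by
  obtain ⟨p, -, hf⟩ := hx
  rw [show 4 = 2 * 2 from rfl, pow_mul, pow_two x, F.form_sqp hf, pow_two, F.zp_sq]

theorem L_c : Nat.card {i : ↥T.L // orderOf i = 2 ∧ (i = ⟨z, T.z_L⟩ ∨ Even (orderOf (⟨z, T.z_L⟩ * i)))} = 123 := by
  rw [T.L_hyp.card_even (k := 4) (fun x hx => Subtype.ext (by
    rw [SubmonoidClass.coe_pow]; exact T.L_exp (T.L_cz x.2 (congrArg Subtype.val hx)))) fun y s hy hyz hsz hys => ?_]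
  · have h1 : Nat.card {i : ↥T.L // orderOf i = 2 ∧ i * ⟨z, T.z_L⟩ = ⟨z, T.z_L⟩ * i} = 27 := by
      have h28 := T.card_sm_invol
      classical
      haveI := Fintype.ofFinite G
      have e : Nat.card {i : ↥T.L // orderOf i = 2 ∧ i * ⟨z, T.z_L⟩ = ⟨z, T.z_L⟩ * i} =
          Nat.card {j : {i : G // i ∈ T.Sm ∧ i * i = 1} // ¬ j = ⟨1, one_mem _, mul_one 1⟩} := by
        refine Nat.card_congr
          { toFun := fun i => ⟨⟨i.1.1, T.L_cz i.1.2 (congrArg Subtype.val i.2.2),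
              congrArg Subtype.val (invol_mul_self i.2.1)⟩, fun e => invol_ne_one i.2.1
              (Subtype.ext (congrArg Subtype.val e :))⟩
            invFun := fun j => ⟨⟨j.1.1, T.sm_L j.1.2.1⟩, invol_iff.2 ⟨Subtype.ext j.1.2.2,
              fun e => j.2 (Subtype.ext (congrArg Subtype.val e :))⟩, Subtype.ext (mem_cz.1 (T.Sm_le j.1.2.1).1.1)⟩
            left_inv := fun _ => rfl
            right_inv := fun _ => rfl }
      rw [e, Nat.card_eq_fintype_card, Fintype.card_subtype_compl, Fintype.card_subtype_eq,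
        ← Nat.card_eq_fintype_card, h28]
    have h2 : Nat.card {u : ↥T.L // orderOf u = 2 ∧ u * ⟨z, T.z_L⟩ = ⟨z, T.z_L⟩ * u ∧
        ∃ s : ↥T.L, s * ⟨z, T.z_L⟩ = ⟨z, T.z_L⟩ * s ∧ u * s ≠ s * u} = 24 := by
      have h24 := F.card_forms (Finset.univ.filter fun p : W4 × W4 => MP p ∧ sqp p = 0 ∧ p ≠ 0)
      rw [mp_noncentral_count] at h24
      refine Eq.trans ?_ h24
      simp only [Finset.mem_filter, Finset.mem_univ, true_and]
      have hto : ∀ u : ↥T.L, orderOf u = 2 ∧ u * ⟨z, T.z_L⟩ = ⟨z, T.z_L⟩ * u ∧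
          (∃ s : ↥T.L, s * ⟨z, T.z_L⟩ = ⟨z, T.z_L⟩ * s ∧ u * s ≠ s * u) →
          ∃ p : W4 × W4, (MP p ∧ sqp p = 0 ∧ p ≠ 0) ∧ F.Form p.1 p.2 u.1 := by
        rintro u ⟨ho, hz, s, hsz, hne⟩
        obtain ⟨p, hp, hf⟩ := T.L_cz u.2 (congrArg Subtype.val hz)
        obtain ⟨q, -, hg⟩ := T.L_cz s.2 (congrArg Subtype.val hsz)
        refine ⟨p, ⟨hp, F.zp_inj ((F.form_sqp hf).symm.trans
          ((congrArg Subtype.val (invol_mul_self ho)).trans F.zp_zero.symm)), fun e => hne (Subtype.ext ?_)⟩, hf⟩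
        exact (F.form_commute hf hg).2 (by subst e; simp [cmp, pl4_zero_left, pl4_zero_right])
      have hfrom : ∀ i : G, (∃ p : W4 × W4, (MP p ∧ sqp p = 0 ∧ p ≠ 0) ∧ F.Form p.1 p.2 i) →
          ∃ h : i ∈ T.L, orderOf (⟨i, h⟩ : ↥T.L) = 2 ∧ (⟨i, h⟩ : ↥T.L) * ⟨z, T.z_L⟩ = ⟨z, T.z_L⟩ * ⟨i, h⟩ ∧
          ∃ s : ↥T.L, s * ⟨z, T.z_L⟩ = ⟨z, T.z_L⟩ * s ∧ (⟨i, h⟩ : ↥T.L) * s ≠ s * ⟨i, h⟩ := by
        rintro i ⟨p, ⟨hp, hsq, hp0⟩, hf⟩
        have hi : i ∈ T.Sm := ⟨p, hp, hf⟩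
        obtain ⟨q, hq, hne⟩ := mp_center p hp hp0
        have hqm : F.el' q ∈ T.Sm := ⟨q, hq, F.el'_form q⟩
        refine ⟨T.sm_L hi, invol_iff.2 ⟨Subtype.ext (show i * i = 1 by rw [F.form_sqp hf, hsq, F.zp_zero]),
          fun e => hp0 ?_⟩, Subtype.ext (mem_cz.1 (T.Sm_le hi).1.1), ⟨_, T.sm_L hqm⟩,
          Subtype.ext (mem_cz.1 (T.Sm_le hqm).1.1), fun e => hne ?_⟩
        · have he1 : i = 1 := congrArg Subtype.val e
          exact Prod.ext (F.form_params hf (he1 ▸ F.form_one)).1 (F.form_params hf (he1 ▸ F.form_one)).2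
        · exact (F.form_commute hf (F.el'_form q)).1 (congrArg Subtype.val e)
      exact Nat.card_congr
        { toFun := fun u => ⟨u.1.1, hto u.1 u.2⟩
          invFun := fun i => ⟨⟨i.1, (hfrom i.1 i.2).1⟩, (hfrom i.1 i.2).2⟩
          left_inv := fun _ => rfl
          right_inv := fun _ => rfl }
    rw [h1, h2]
  · have hyS := T.L_cz y.2 (congrArg Subtype.val hyz)
    rw [← T.card_opposite hyS (congrArg Subtype.val (invol_mul_self hy)) (T.L_cz s.2 (congrArg Subtype.val hsz))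
      fun e => hys (Subtype.ext e)]
    exact Nat.card_congr
      { toFun := fun i => ⟨i.1.1, T.L_cz i.1.2 (congrArg Subtype.val i.2.1), congrArg Subtype.val i.2.2.1,
          congrArg Subtype.val i.2.2.2⟩
        invFun := fun i => ⟨⟨i.1, T.sm_L i.2.1⟩, Subtype.ext (mem_cz.1 (T.Sm_le i.2.1).1.1), Subtype.ext i.2.2.1,
          Subtype.ext i.2.2.2⟩
        left_inv := fun _ => rfl
        right_inv := fun _ => rfl }

theorem three_dvd : 3 ∣ Nat.card T.L := by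
  have h := card_orbit_mul (T.L ⊓ normalizer (T.Sm : Set G)) z
  have hmove : ∀ e : ZMod 2 × ZMod 2, e ≠ 0 →
      ∃ l ∈ T.L ⊓ normalizer (T.Sm : Set G), l * z * l⁻¹ = F.zp e := by
    intro e he
    obtain ⟨l, hl, hlz⟩ := T.L_fused (T.sm_L (T.zp_mem_Sm e)) (F.zp_sq e)
      fun e1 => he (F.zp_inj (e1.trans F.zp_zero.symm))
    refine ⟨l, ⟨hl, ?_⟩, hlz⟩
    have hle : T.Sm ≤ T.Sm.map (MulAut.conj l).toMonoidHom := fun x hx =>
      ⟨l⁻¹ * x * l, T.L_cz (mul_mem (mul_mem (inv_mem hl) (T.sm_L hx)) hl) (by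
        have hc : x * (l * z * l⁻¹) = l * z * l⁻¹ * x := by
          rw [hlz]; exact F.zi_comm (T.Sm_le hx).1.1 (T.Sm_le hx).1.2 _ _
        calc l⁻¹ * x * l * z = l⁻¹ * (x * (l * z * l⁻¹)) * l := by group
          _ = z * (l⁻¹ * x * l) := by rw [hc]; group),
        show l * (l⁻¹ * x * l) * l⁻¹ = x by group⟩
    exact mem_normalizer_of_conj_map_eq (eq_of_le_of_card_ge hle
      (le_of_eq (card_map_of_injective (MulAut.conj l).injective))).symm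
  have e : Nat.card {y : G // ∃ l ∈ T.L ⊓ normalizer (T.Sm : Set G), l * z * l⁻¹ = y} = 3 := by
    have h3 : Nat.card {e : ZMod 2 × ZMod 2 // e ≠ 0} = 3 := by rw [Nat.card_eq_fintype_card]; rfl
    rw [← h3]
    refine (Nat.card_eq_of_bijective (fun e : {e : ZMod 2 × ZMod 2 // e ≠ 0} =>
      (⟨F.zp e.1, hmove e.1 e.2⟩ : {y : G // ∃ l ∈ T.L ⊓ normalizer (T.Sm : Set G), l * z * l⁻¹ = y}))
      ⟨fun a b hab => Subtype.ext (F.zp_inj (congrArg Subtype.val hab :)), ?_⟩).symm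
    rintro ⟨y, l, ⟨hl, hlN⟩, rfl⟩
    have hy : l * z * l⁻¹ ∈ T.Sm := (mem_normalizer_iff.1 hlN z).1 T.z_mem_Sm
    obtain ⟨d, hd⟩ := T.central_Sm hy fun u hu => by
      have h1 : l⁻¹ * u * l ∈ T.Sm := (mem_normalizer_iff.1 hlN _).2 (by
        rw [show l * (l⁻¹ * u * l) * l⁻¹ = u by group]; exact hu)
      have h2 := mem_cz.1 (T.Sm_le h1).1.1
      calc l * z * l⁻¹ * u = l * (z * (l⁻¹ * u * l)) * l⁻¹ := by group
        _ = l * ((l⁻¹ * u * l) * z) * l⁻¹ := by rw [h2]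
        _ = u * (l * z * l⁻¹) := by group
    refine ⟨⟨d, fun e => ?_⟩, Subtype.ext hd.symm⟩
    rw [e, F.zp_zero] at hd
    exact F.setup.z_ne (conj_eq_one_iff.1 hd)
  rw [e] at h
  exact (Dvd.intro _ h).trans (card_dvd_of_le inf_le_left)

/-- The count for the complement. -/
theorem L_data : Nat.card T.L = 20160 ∧
    (∃ A : Subgroup ↥T.L, SelfCount.IsTor A ∧ Nat.card A = 5 ∧ A.relIndex (normalizer (A : Set ↥T.L)) = 2) ∧
    (∃ A : Subgroup ↥T.L, SelfCount.IsTor A ∧ Nat.card A = 9) ∧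
    ∀ A : Subgroup ↥T.L, SelfCount.IsTor A → Nat.card A = 5 ∨ Nat.card A = 9 := by
  classical
  haveI : Fact (Nat.Prime 2) := ⟨Nat.prime_two⟩
  obtain ⟨M, e, m, hA, hwit, hall⟩ := T.L_hyp.exists_arith T.L_c
  set n := Nat.card {i : ↥T.L // orderOf i = 2} with hn
  have hcard := T.L_hyp.card_group
  rw [← hn] at hcard
  have h3 : 3 ∣ n := by
    have h := T.three_dvd
    rw [← hcard] at h
    exact ((by norm_num : Nat.Coprime 3 (2 ^ 6))).dvd_of_dvd_mul_right h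
  have hne : M.Nonempty := by
    rw [Finset.nonempty_iff_ne_empty]
    intro hM
    have hn123 : n = 123 := by rw [hA.sum, hM, Finset.sum_empty, add_zero]
    set z' : ↥T.L := ⟨z, T.z_L⟩
    obtain ⟨N, hN, hNp, hzN⟩ := exists_normal_pGroup_mem (p := 2) (x := z') fun g => by
      have hz' := T.L_hyp.inv
      have hg : orderOf (g * z' * g⁻¹) = 2 := invol_conj hz' g
      by_cases h2 : ∃ k, orderOf (z' * (g * z' * g⁻¹)) = 2 ^ k
      · obtain ⟨k, hk⟩ := h2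
        exact two_group_of_pair hz' hg hk
      · exfalso
        set d := z' * (g * z' * g⁻¹) with hd
        obtain ⟨k, m', hm, hk⟩ := Nat.exists_eq_two_pow_mul_odd (orderOf_pos d).ne'
        have hm1 : m' ≠ 1 := fun e => h2 ⟨k, by rw [hk, e, mul_one]⟩
        have ho : orderOf (d ^ 2 ^ k) = m' := by
          rw [orderOf_pow, hk, Nat.gcd_eq_right (dvd_mul_right _ _), Nat.mul_div_cancel_left _ (Nat.two_pow_pos k)]
        have hinv : z' * d ^ 2 ^ k * z'⁻¹ = (d ^ 2 ^ k)⁻¹ := by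
          have h := conj_zpow_of_inverts (invol_conj_mul hz' hg) ((2 ^ k : ℕ) : ℤ)
          rwa [zpow_natCast, zpow_neg, zpow_natCast] at h
        have htor : SelfCount.IsTor (centralizer ({d ^ 2 ^ k} : Set ↥T.L)) :=
          ⟨d ^ 2 ^ k, fun e => hm1 (by rw [← ho, e, orderOf_one]), by rw [ho]; exact hm, ⟨z', hz', hinv⟩, rfl⟩
        have := (hall _ htor).1
        rw [hM] at this
        exact Finset.notMem_empty _ this
    have hle : n ≤ Nat.card N := by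
      refine Nat.card_le_card_of_injective (fun i => (⟨i.1, ?_⟩ : N)) fun a b h =>
        Subtype.ext (congrArg Subtype.val h :)
      obtain ⟨l, hl⟩ := isConj_iff.1 (T.L_hyp.all i.1 i.2)
      exact hl ▸ hN.conj_mem _ hzN l
    obtain ⟨j, hj⟩ := hNp.exists_card_eq
    have hd := card_subgroup_dvd_card N
    rw [← hcard, hj, hn123] at hd
    have h64 : 2 ^ j ∣ 2 ^ 6 := (Nat.Coprime.pow_left j (by norm_num : Nat.Coprime 2 123)).dvd_of_dvd_mul_left hd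
    have := Nat.le_of_dvd (by norm_num) h64
    rw [← hj] at this
    omega
  have he8 : ∀ a ∈ M, e a ≤ 8 := by
    intro a ha
    obtain ⟨A, hA', -, hrel⟩ := hwit a ha
    rw [← hrel]
    refine T.L_hyp.relIndex_le hA' fun U hU huniq => ?_
    rw [← card_map_of_injective (f := T.L.subtype) T.L.subtype_injective]
    refine T.card_unique_le ?_ ?_
    · rintro _ ⟨u, hu, rfl⟩
      exact T.L_cz u.2 (congrArg Subtype.val (mem_cz.1 (hU hu)))
    · rintro _ ⟨u, hu, rfl⟩ h2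
      by_cases h1 : u = 1
      · exact Or.inl (by rw [h1]; rfl)
      · exact Or.inr (congrArg Subtype.val (huniq u hu (invol_iff.2 ⟨Subtype.ext h2, h1⟩)))
  obtain ⟨hn315, hM, he5, -⟩ := SelfCount.arith_six hA h3 hne he8
  refine ⟨by rw [← hcard, hn315]; norm_num, ?_, ?_, fun A hA' => ?_⟩
  · obtain ⟨A, h1, h2, h3⟩ := hwit 5 (by rw [hM]; simp)
    exact ⟨A, h1, h2, h3.trans he5⟩
  · obtain ⟨A, h1, h2, -⟩ := hwit 9 (by rw [hM]; simp)
    exact ⟨A, h1, h2⟩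
  · have := (hall A hA').1
    rw [hM] at this
    simpa using this

theorem card_L : Nat.card T.L = 20160 := T.L_data.1

end Pt.Tri

end

end CfsgLib.Spor.SuzType
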