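import Cfsg.Agent.Lib.Spor.SuzType.Four

/-!
# Transvections along totally singular lines: computations
-/

set_option autoImplicit false
set_option synthInstance.maxSize 8192
set_option maxRecDepth 10000

namespace CfsgLib.Spor.SuzType

open Subgroup CfsgLib.Spor.CoOneType

noncomputable section

/-- The transvection along a line. -/
def tr (p q x : Vec) : Vec := x + plf x p • q + plf x q • p

/-- A totally singular line. -/
def IsLine (p q : Vec) : Prop := qf p = 0 ∧ qf q = 0 ∧ plf p q = 0 ∧ p ≠ 0 ∧ q ≠ 0 ∧ p ≠ q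

instance (p q : Vec) : Decidable (IsLine p q) := by unfold IsLine; infer_instance

/-- A code of a vector of the four-space. -/
def enc (u : W4) : ℕ :=
  (u (.inl (.inl 0))).val + 2 * (u (.inl (.inr 0))).val + 4 * (u (.inr 0)).val + 8 * (u (.inr 1)).val

/-- Representatives of the lines away from the reference point. -/
def Rep (π u : W4) : Prop := q4 π = 0 ∧ π ≠ 0 ∧ enc u < enc (u + π)

instance (π u : W4) : Decidable (Rep π u) := by unfold Rep; infer_instance

/-- The perpendicular point of a representative line. -/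
def lp (π u : W4) : Vec := vmk (pl4 π u) 0 π

/-- The other point of a representative line. -/
def lq (u : W4) : Vec := vmk (q4 u) 1 u

/-- The transvection of a representative. -/
def trR (π u : W4) (x : Vec) : Vec := tr (lp π u) (lq u) x

theorem rep_line : ∀ π u : W4, Rep π u → IsLine (lp π u) (lq u) := by decide +kernel

theorem trR_w0 : ∀ π u : W4, Rep π u → trR π u w0 ≠ w0 := by decide +kernel

theorem trR_inj : ∀ π u : W4, Rep π u → ∀ π' u' : W4, Rep π' u' → (∀ x, trR π u x = trR π' u' x) →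
    π = π' ∧ u = u' := by decide +kernel

theorem line_inner : ∀ p q : Vec, IsLine p q → yc p = 0 → yc q = 0 →
    ∃ c : W4, c ≠ 0 ∧ q4 c = 0 ∧ ∀ x, tr p q x = sieg c x := by
  have h : ∀ p q : Vec, IsLine p q → yc p = 0 → yc q = 0 →
      (if pr p = 0 then pr q else pr p) ≠ 0 ∧ q4 (if pr p = 0 then pr q else pr p) = 0 ∧
        ∀ x, tr p q x = sieg (if pr p = 0 then pr q else pr p) x := by decide +kernel
  exact fun p q hl hp hq => ⟨_, h p q hl hp hq⟩

theorem line_outer : ∀ p q : Vec, IsLine p q → yc p = 0 → yc q = 1 →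
    (Rep (pr p) (pr q) ∧ ∀ x, tr p q x = trR (pr p) (pr q) x) ∨
      (Rep (pr p) (pr q + pr p) ∧ ∀ x, tr p q x = trR (pr p) (pr q + pr p) x) := by decide +kernel

theorem line_sym : ∀ p q : Vec, IsLine p q → IsLine q p ∧ (∀ x, tr p q x = tr q p x) ∧
    IsLine (p + q) p ∧ (∀ x, tr p q x = tr (p + q) p x) := by decide +kernel

/-- Every line is one at the point or has a representative. -/
theorem line_cases {p q : Vec} (h : IsLine p q) :
    (∃ c : W4, c ≠ 0 ∧ q4 c = 0 ∧ ∀ x, tr p q x = sieg c x) ∨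
      ∃ π u, Rep π u ∧ ∀ x, tr p q x = trR π u x := by
  have key : ∀ p q, IsLine p q → yc p = 0 →
      (∃ c : W4, c ≠ 0 ∧ q4 c = 0 ∧ ∀ x, tr p q x = sieg c x) ∨
        ∃ π u, Rep π u ∧ ∀ x, tr p q x = trR π u x := by
    intro p q h hp
    rcases two_cases (yc q) with hq | hq
    · exact Or.inl (line_inner p q h hp hq)
    · rcases line_outer p q h hp hq with h' | h'
      · exact Or.inr ⟨_, _, h'⟩
      · exact Or.inr ⟨_, _, h'⟩
  rcases two_cases (yc p) with hp | hp
  · exact key p q h hp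
  obtain ⟨h1, h2, h3, h4⟩ := line_sym p q h
  rcases two_cases (yc q) with hq | hq
  · simpa only [h2] using key q p h1 hq
  · simpa only [h4] using key (p + q) p h3 (by rw [yc_add, hp, hq]; decide)

theorem sieg_tr : ∀ c : W4, q4 c = 0 → c ≠ 0 → IsLine w0 (vmk 0 0 c) ∧ ∀ x, sieg c x = tr w0 (vmk 0 0 c) x := by
  decide +kernel

theorem tr_w0_sieg : ∀ q : Vec, IsLine w0 q → pr q ≠ 0 ∧ q4 (pr q) = 0 ∧ ∀ x, tr w0 q x = sieg (pr q) x := by
  decide +kernel

theorem tr_singular : ∀ p q x : Vec, IsLine p q → qf (tr p q x + x) = 0 := by decide +kernel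

theorem act_tr (k : Iso6) (p q x : Vec) : act k (tr p q x) = tr (act k p) (act k q) (act k x) := by
  simp only [tr, act_add, act_smul, plf_eq]
  rw [show pl (act k x) (act k p) = pl x p from pol_act k x p, show pl (act k x) (act k q) = pl x q from pol_act k x q]

theorem act_line (k : Iso6) {p q : Vec} (h : IsLine p q) : IsLine (act k p) (act k q) := by
  obtain ⟨h1, h2, h3, h4, h5, h6⟩ := h
  refine ⟨(qf_act k p).trans h1, (qf_act k q).trans h2, ?_, fun e => h4 (act_injective k (e.trans (act_zero k).symm)),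
    fun e => h5 (act_injective k (e.trans (act_zero k).symm)), fun e => h6 (act_injective k e)⟩
  rw [plf_eq] at h3 ⊢
  exact (pol_act k p q).trans h3

/-- The reference transformation. -/
def τ (x : Vec) : Vec := sieg c₀ x

theorem moved_data : ∀ π u : W4, Rep π u → pl4 π c₀ = 1 →
    (∀ x, trR π u (τ (trR π u (τ (trR π u (τ (trR π u (τ (trR π u (τ (trR π u (τ x))))))))))) = x) ∧
    (∃ x, trR π u (τ (trR π u (τ x))) ≠ x) ∧
    (∃ x, trR π u (τ (trR π u (τ (trR π u (τ x))))) ≠ x) ∧
    (∀ x, qf (trR π u (τ (trR π u (τ (trR π u (τ x))))) + x) = 0) ∧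
    ∀ x : Vec, qf x = 0 → trR π u x = x → τ x = x → x = 0 := by decide +kernel

theorem fixed_data : ∀ π u : W4, Rep π u → pl4 π c₀ = 0 →
    τ (lp π u) = lp π u ∧ ∃ x, τ (trR π u x) ≠ trR π u (τ x) := by decide +kernel

theorem fixed_swap : ∀ π : W4, q4 π = 0 → pl4 π c₀ = 0 → (cmp (π, 0) p0 = 0 ↔ pl4 π a₀ = 0) := by decide +kernel

theorem rep_counted :
    (Finset.univ.filter fun e : W4 × W4 => Rep e.1 e.2 ∧ (pl4 e.1 c₀ = 1 ∨ pl4 e.1 a₀ = 1)).card = 24 := by
  decide +kernel

theorem q_part_count : (Finset.univ.filter fun x : Vec =>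
    qf x = 0 ∧ x ≠ 0 ∧ (yc x = 1 ∨ cmp (pr x, 0) p0 = (1, 0))).card = 18 := by decide +kernel

theorem q_part_moved : ∀ x : Vec, qf x = 0 → yc x = 1 → qf (x + sieg c₀ x) = 1 := by decide +kernel

theorem inner_part_count : (Finset.univ.filter fun e : W4 × W4 =>
    q4 e.2 = 0 ∧ e.2 ≠ 0 ∧ (e.1 = 0 ∨ e.1 = e.2) ∧ cmp e p0 = (1, 0)).card = 2 := by decide +kernel

end

end CfsgLib.Spor.SuzType
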