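import Cfsg.Agent.Lib.Spor.SuzType.LineData

/-!
# Transvections along totally singular lines, as images of involutions
-/

set_option autoImplicit false
set_option synthInstance.maxSize 8192

namespace CfsgLib.Spor.SuzType

open Subgroup CfsgLib.Spor.CoOneType

noncomputable section

variable {G : Type*} [Group G] [Finite G] {z : G} {Q : Subgroup G} {v : G → Vec} {ρ : G → Iso6}

theorem rho_conj (S : Setup z Q v ρ) {c x : G} (hc : c ∈ centralizer ({z} : Set G))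
    (hx : x ∈ centralizer ({z} : Set G)) (y : Vec) :
    act (ρ (c * x * c⁻¹)) (act (ρ c) y) = act (ρ c) (act (ρ x) y) := by
  rw [S.ρ_mul _ (mul_mem hc hx) _ (inv_mem hc), S.ρ_mul c hc x hx, S.ρ_inv hc, act_mul, ← act_mul (ρ c)⁻¹,
    inv_mul_cancel, act_one, act_mul]

theorem sq_conj {c x : G} (hx : x * x = 1) : c * x * c⁻¹ * (c * x * c⁻¹) = 1 := by
  rw [show c * x * c⁻¹ * (c * x * c⁻¹) = c * (x * x) * c⁻¹ by group, hx]; group

namespace Pt

variable {g : G} (F : Pt z Q v ρ g)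
include F

theorem cconj_image {x y : G} (h : F.CConj x y) (hx : x ∈ centralizer ({z} : Set G))
    (hall : ∀ v₁, qf (act (ρ x) v₁ + v₁) = 0) (v₁ : Vec) : qf (act (ρ y) v₁ + v₁) = 0 := by
  obtain ⟨c, hc, rfl⟩ := h
  obtain ⟨y₁, rfl⟩ : ∃ y₁, act (ρ c) y₁ = v₁ := ⟨act (ρ c)⁻¹ v₁, by rw [← act_mul, mul_inv_cancel, act_one]⟩
  rw [rho_conj F.setup hc hx, ← act_add, qf_act]
  exact hall y₁

/-- Involutions with singular image. -/
theorem inQ_of_singular {t x : G} (ht : F.Form a₀ c₀ t) (hx : x ∈ centralizer ({z} : Set G)) (hx2 : x * x = 1)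
    (hxQ : x ∉ Q) (hall : ∀ w, qf (act (ρ x) w + w) = 0) : F.InQ x :=
  (F.classify hx hx2 hxQ).resolve_left fun h => by
    have h2 := F.cconj_image (h t ht) hx hall f0
    rw [F.form_rho ht, image_ref] at h2
    exact one_ne_zero h2

/-- Involutions conjugate to the centre have a line as image. -/
theorem inQ_line {x : G} (h : F.InQ x) (hx : x ∈ centralizer ({z} : Set G)) (hx2 : x * x = 1) (hxQ : x ∉ Q) :
    ∃ p q, IsLine p q ∧ ∀ w, act (ρ x) w = tr p q w := by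
  obtain ⟨k, hk, hk', hm⟩ := h
  have hj0 : v (k * z * k⁻¹) ≠ 0 := F.setup.v_ne hk (F.setup.conj k).z_ne hk'
  have hjq : qf (v (k * z * k⁻¹)) = 0 := (F.setup.v_sq _ hk).2 (F.setup.conj k).zz
  obtain ⟨h, hh, hhw⟩ := move_singular hj0 w0_ne hjq qf_w0
  obtain ⟨c, hc, rfl⟩ := F.setup.ρ_surj h hh
  have hjc : c * k * z * (c * k)⁻¹ = c * (k * z * k⁻¹) * c⁻¹ := by group
  have F' : Pt z Q v ρ (c * k) := ⟨F.setup, by rw [hjc]; exact F.setup.norm hc hk,
    by rw [hjc, F.setup.ρ_act c hc _ hk, hhw]⟩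
  obtain ⟨q₁, hq₁, hq₁e⟩ := hm
  replace hq₁e : k * q₁ * k⁻¹ = x := hq₁e
  have hR' : c * x * c⁻¹ ∈ F'.R' := ⟨⟨q₁, hq₁, show c * k * q₁ * (c * k)⁻¹ = _ by rw [← hq₁e]; group⟩,
    Subgroup.mul_mem _ (Subgroup.mul_mem _ hc hx) (Subgroup.inv_mem _ hc)⟩
  have hsq := F'.square_rule hR'
  rw [sq_conj hx2, ← F'.zi_zero] at hsq
  set φ := F'.phi (c * x * c⁻¹)
  have hφ : φ ≠ 0 := fun e => hxQ (by
    have hρ : ρ (c * x * c⁻¹) = 1 := iso_ext fun w => by
      rw [F'.rho_R' hR', show F'.phi (c * x * c⁻¹) = 0 from e, sieg_zero, act_one]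
    have h2 := (F.setup.ρ_ker _ (mul_mem (mul_mem hc hx) (inv_mem hc))).1 hρ
    have h3 := F.setup.norm (inv_mem hc) h2
    rwa [show c⁻¹ * (c * x * c⁻¹) * c⁻¹⁻¹ = x by group] at h3)
  obtain ⟨hl, htr⟩ := sieg_tr φ (F'.zi_inj hsq).2.symm hφ
  have hback : ∀ w, act (ρ c)⁻¹ (act (ρ c) w) = w := fun w => by rw [← act_mul, inv_mul_cancel, act_one]
  refine ⟨_, _, act_line (ρ c)⁻¹ hl, fun w => ?_⟩
  conv_lhs => rw [← hback (act (ρ x) w), ← rho_conj F.setup hc hx, F'.rho_R' hR',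
    show sieg (F'.phi (c * x * c⁻¹)) (act (ρ c) w) = _ from htr _, act_tr, hback]

/-- Involutions above a transformation at the point. -/
theorem sieg_form {c : W4} (hc : c ≠ 0) {x : G} (hx : x ∈ centralizer ({z} : Set G)) (hx2 : x * x = 1)
    (hρ : ∀ w, act (ρ x) w = sieg c w) :
    ∃ a, F.Form a c x ∧ q4 a + pl4 a c = 0 ∧ q4 c + pl4 a c = 0 := by
  obtain ⟨r, hr, hrc⟩ := F.phi_surj c
  have hρr : ρ x = ρ r := iso_ext fun w => by rw [hρ, F.rho_R' hr, hrc]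
  have hq : x * r⁻¹ ∈ Q := (F.setup.ρ_ker _ (mul_mem hx (inv_mem hr.2))).1 (by
    rw [F.setup.ρ_mul x hx _ (inv_mem hr.2), F.setup.ρ_inv hr.2, hρr, mul_inv_cancel])
  obtain ⟨q, hq', rfl⟩ : ∃ q ∈ Q, x = q * r := ⟨_, hq, by group⟩
  have hyc : yc (v q) = 0 := by
    by_contra h0
    have h1 : yc (v q) = 1 := (two_cases _).resolve_left h0
    have hrq : r * q * r⁻¹ ∈ Q := F.setup.norm hr.2 hq'
    have e : q * (r * q * r⁻¹) = (r * r)⁻¹ := by
      refine eq_inv_of_mul_eq_one_left ?_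
      rw [← hx2]; group
    have h2 := congrArg (fun y => pr (v y)) e
    replace h2 : pr (v (q * (r * q * r⁻¹))) = pr (v (r * r)⁻¹) := h2
    rw [F.square_rule hr, F.setup.v_inv (F.zi_mem _ _).1, F.pr_zi, F.setup.v_mul q hq' _ hrq,
      F.setup.ρ_act r hr.2 q hq', F.rho_R' hr, hrc, pr_add, sieg, pr_vmk, h1, one_smul, ← add_assoc, w4_add_self,
      zero_add] at h2
    exact hc h2
  have hf : F.Form (pr (v q)) c (q * r) := ⟨q, F.mem_R.2 ⟨hq', hyc⟩, r, hr, rfl, hrc, rfl⟩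
  have h := F.form_sq hf
  rw [hx2, ← F.zi_zero] at h
  exact ⟨_, hf, (F.zi_inj h).1.symm, (F.zi_inj h).2.symm⟩

theorem sieg_form_sing {c : W4} (hc : c ≠ 0) (hqc : q4 c = 0) {x : G} (hx : x ∈ centralizer ({z} : Set G))
    (hx2 : x * x = 1) (hρ : ∀ w, act (ρ x) w = sieg c w) : F.Form 0 c x ∨ F.Form c c x := by
  obtain ⟨a, hf, h1, h2⟩ := F.sieg_form hc hx hx2 hρ
  rw [hqc, zero_add] at h2
  rw [h2, add_zero] at h1
  rcases sing_pair c a hqc h1 ((pl4_comm c a).trans h2) hc with rfl | rfl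
  · exact Or.inl hf
  · exact Or.inr hf

theorem card_lifts_sieg {c : W4} (hc : c ≠ 0) (hqc : q4 c = 0) :
    Nat.card {x : G // x ∈ centralizer ({z} : Set G) ∧ x * x = 1 ∧ ∀ w, act (ρ x) w = sieg c w} = 8 := by
  have h := F.card_forms {((0 : W4), c), (c, c)}
  rw [Finset.card_pair (fun e => hc (congrArg Prod.fst e).symm)] at h
  refine Eq.trans (Nat.card_congr (Equiv.subtypeEquivRight fun x => ?_)) h
  simp only [Finset.mem_insert, Finset.mem_singleton, exists_eq_or_imp, exists_eq_left]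
  constructor
  · rintro ⟨hx, hx2, hρ⟩
    exact F.sieg_form_sing hc hqc hx hx2 hρ
  · intro hf
    rcases hf with hf | hf <;> refine ⟨F.form_cz hf, ?_, F.form_rho hf⟩ <;>
      rw [F.form_sq hf, ← F.zi_zero] <;> simp [hqc, pl4_zero_left, pl4_self, qzero_q4]
where
  qzero_q4 : q4 (0 : W4) = 0 := by decide +kernel

theorem card_line_lifts {p q : Vec} (hl : IsLine p q) :
    Nat.card {x : G // x ∈ centralizer ({z} : Set G) ∧ x * x = 1 ∧ ∀ w, act (ρ x) w = tr p q w} = 8 := by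
  obtain ⟨h, hh, hhw⟩ := move_singular hl.2.2.2.1 w0_ne hl.1 qf_w0
  obtain ⟨c, hc, rfl⟩ := F.setup.ρ_surj h hh
  have hl' := act_line (ρ c) hl
  rw [hhw] at hl'
  obtain ⟨hne, hq0, htr⟩ := tr_w0_sieg _ hl'
  rw [← F.card_lifts_sieg hne hq0]
  refine Nat.card_congr
    { toFun := fun x => ⟨c * x.1 * c⁻¹, mul_mem (mul_mem hc x.2.1) (inv_mem hc), sq_conj x.2.2.1, fun w => ?_⟩
      invFun := fun x => ⟨c⁻¹ * x.1 * c, mul_mem (mul_mem (inv_mem hc) x.2.1) hc, ?_, fun w => ?_⟩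
      left_inv := fun x => Subtype.ext (show c⁻¹ * (c * x.1 * c⁻¹) * c = x.1 by group)
      right_inv := fun x => Subtype.ext (show c * (c⁻¹ * x.1 * c) * c⁻¹ = x.1 by group) }
  · obtain ⟨y, rfl⟩ : ∃ y, act (ρ c) y = w := ⟨act (ρ c)⁻¹ w, by rw [← act_mul, mul_inv_cancel, act_one]⟩
    rw [rho_conj F.setup hc x.2.1, x.2.2.2, act_tr, hhw, htr]
  · rw [show c⁻¹ * x.1 * c * (c⁻¹ * x.1 * c) = c⁻¹ * (x.1 * x.1) * c by group, x.2.2.1]; group
  · refine act_injective (ρ c) ?_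
    have hy : c⁻¹ * x.1 * c ∈ centralizer ({z} : Set G) := mul_mem (mul_mem (inv_mem hc) x.2.1) hc
    rw [← rho_conj F.setup hc hy, show c * (c⁻¹ * x.1 * c) * c⁻¹ = x.1 by group, x.2.2.2, act_tr, hhw, htr]

end Pt

end

end CfsgLib.Spor.SuzType
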