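import Cfsg.Agent.Lib.Spor.SuzType.Forms
import Cfsg.Agent.Lib.Invol.Basic
import Mathlib.GroupTheory.GroupAction.Quotient

/-!
# The centralizer of the reference involution inside the centralizer of the centre
-/

set_option autoImplicit false
set_option synthInstance.maxSize 4096

namespace CfsgLib.Spor.SuzType

open Subgroup CfsgLib.Spor.CoOneType

noncomputable section

variable {G : Type*} [Group G] [Finite G] {z : G} {Q : Subgroup G} {v : G → Vec} {ρ : G → Iso6}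

/-- Orbit and stabiliser for conjugation by a subgroup. -/
theorem card_orbit_mul (H : Subgroup G) (x : G) :
    Nat.card {y : G // ∃ h ∈ H, h * x * h⁻¹ = y} * Nat.card ↥(H ⊓ centralizer ({x} : Set G)) = Nat.card H := by
  letI : MulAction H G := MulAction.compHom G (MulAut.conj.comp H.subtype)
  have hsm : ∀ (h : H) (y : G), h • y = (h : G) * y * (h : G)⁻¹ := fun h y => rfl
  have h1 : Nat.card {y : G // ∃ h ∈ H, h * x * h⁻¹ = y} = (MulAction.stabilizer H x).index := by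
    rw [MulAction.index_stabilizer, ← Nat.card_coe_set_eq]
    refine Nat.card_congr (Equiv.subtypeEquivRight fun y => ?_)
    rw [MulAction.mem_orbit_iff]
    exact ⟨fun ⟨h, hh, e⟩ => ⟨⟨h, hh⟩, e⟩, fun ⟨h, e⟩ => ⟨h, h.2, e⟩⟩
  have h2 : Nat.card ↥(H ⊓ centralizer ({x} : Set G)) = Nat.card (MulAction.stabilizer H x) := by
    refine Nat.card_congr
      { toFun := fun y => ⟨⟨y.1, y.2.1⟩, MulAction.mem_stabilizer_iff.2 ((hsm _ _).trans
          (conj_eq_iff_comm.2 (mem_cz.1 y.2.2)))⟩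
        invFun := fun y => ⟨y.1.1, y.1.2, mem_cz.2 (conj_eq_iff_comm.1 ((hsm _ _).symm.trans
          (MulAction.mem_stabilizer_iff.1 y.2)))⟩
        left_inv := fun _ => rfl
        right_inv := fun _ => rfl }
  rw [h1, h2, mul_comm, card_mul_index]

theorem w0_image : sieg c₀ (vmk 0 0 a₀) + vmk 0 0 a₀ = w0 := by decide +kernel

theorem singular_image : ∀ x : Vec, qf (sieg c₀ x + x) = 0 → sieg c₀ x + x = 0 ∨ sieg c₀ x + x = w0 := by
  decide +kernel

theorem image_ref : qf (sieg c₀ f0 + f0) = 1 := by decide +kernel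

theorem image_sing : ∀ (c : W4) (x : Vec), q4 c = 0 → qf (sieg c x + x) = 0 := by decide +kernel

theorem solve_cmp : ∀ p : W4 × W4, q4 p.1 = 1 → q4 p.2 = 1 → pl4 p.1 p.2 = 1 →
    ∀ d : ZMod 2 × ZMod 2, ∃ m : W4, cmp (m, 0) p = d := by decide +kernel

theorem flip_spec : wf (kw 3) c₀ = c₀ ∧ wf (kw 3) a₀ = a₀ + c₀ := by decide +kernel

/-- The reference parameters. -/
def p0 : W4 × W4 := (a₀, c₀)

/-- The rotated parameters. -/
def p1 : W4 × W4 := (c₀, a₀ + c₀)

/-- The parameters in the perpendicular plane. -/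
def MP (p : W4 × W4) : Prop := pl4 p.1 a₀ = 0 ∧ pl4 p.1 c₀ = 0 ∧ pl4 p.2 a₀ = 0 ∧ pl4 p.2 c₀ = 0

instance : DecidablePred MP := fun p => by unfold MP; infer_instance

theorem mp_zero : MP 0 := ⟨pl4_zero_left _, pl4_zero_left _, pl4_zero_left _, pl4_zero_left _⟩

theorem mp_add (p p' : W4 × W4) (h : MP p) (h' : MP p') : MP (p + p') := by
  simp only [MP, Prod.fst_add, Prod.snd_add, SuzType.pl4_add_left, h.1, h.2.1, h.2.2.1, h.2.2.2, h'.1, h'.2.1,
    h'.2.2.1, h'.2.2.2, add_zero, and_self]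

theorem cu_split : ∀ p : W4 × W4, cmp p p0 = 0 →
    MP p ∨ MP (p + p0) ∨ MP (p + p1) ∨ MP (p + (p0 + p1)) := by decide +kernel

theorem cu_count : (Finset.univ.filter fun p : W4 × W4 => cmp p p0 = 0).card = 64 := by decide +kernel

theorem mp_count : (Finset.univ.filter MP).card = 16 := by decide +kernel

theorem adm_count :
    (Finset.univ.filter fun p : W4 × W4 => q4 p.1 = 1 ∧ q4 p.2 = 1 ∧ pl4 p.1 p.2 = 1).card = 60 := by
  decide +kernel

theorem sing_count : (Finset.univ.filter fun x : Vec => qf x = 0 ∧ x ≠ 0).card = 27 := by decide +kernel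

theorem hp_E (h : Iso4) (u : W4) : hp (E h) u = act4 h u := by rw [hp, act_E, pr_vmk, pr_vmk]

namespace Setup

variable (S : Setup z Q v ρ)
include S

theorem card_cz : Nat.card (centralizer ({z} : Set G)) = 3317760 := by
  let r : centralizer ({z} : Set G) →* Iso6 :=
    MonoidHom.mk' (fun c => ρ c) fun a b => S.ρ_mul a a.2 b b.2
  have hker : r.ker = Q.subgroupOf (centralizer ({z} : Set G)) := by
    ext c
    rw [MonoidHom.mem_ker, mem_subgroupOf]
    exact S.ρ_ker c c.2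
  have hrange : r.range = Om := by
    ext k
    exact ⟨fun ⟨c, hc⟩ => hc ▸ S.ρ_mem c c.2, fun hk => by
      obtain ⟨c, hc, e⟩ := S.ρ_surj k hk
      exact ⟨⟨c, hc⟩, e⟩⟩
  have h := r.ker.card_mul_index
  rw [index_ker, hrange, card_om, hker,
    Nat.card_congr (subgroupOfEquivOfLe (fun a ha => S.le ha)).toEquiv, S.card] at h
  omega

/-- Counting elements of `Q` by their vectors. -/
theorem card_lifts (P : Finset Vec) : Nat.card {a : G // a ∈ Q ∧ v a ∈ P} = 2 * P.card := by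
  have e : Nat.card {a : G // a ∈ Q ∧ v a ∈ P} = Nat.card (ZMod 2 × P) := by
    refine (Nat.card_eq_of_bijective (fun q : ZMod 2 × P =>
      (⟨Classical.choose (S.v_surj q.2.1) * z ^ q.1.val,
        mul_mem (Classical.choose_spec (S.v_surj q.2.1)).1 (pow_mem S.core.mem _), by
          have h := Classical.choose_spec (S.v_surj q.2.1)
          rw [S.v_mul _ h.1 _ (pow_mem S.core.mem _), h.2]
          rcases two_cases q.1 with e | e <;> rw [e] <;> simp [ZMod.val_one, S.v_one, S.v_z]⟩ :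
        {a : G // a ∈ Q ∧ v a ∈ P})) ⟨?_, ?_⟩).symm
    · rintro ⟨i, p, hp⟩ ⟨i', p', hp'⟩ h
      replace h : Classical.choose (S.v_surj p) * z ^ i.val = Classical.choose (S.v_surj p') * z ^ i'.val :=
        congrArg Subtype.val h
      have h1 := Classical.choose_spec (S.v_surj p)
      have h2 := Classical.choose_spec (S.v_surj p')
      have hv : ∀ (a : G) (j : ZMod 2), a ∈ Q → v (a * z ^ j.val) = v a := fun a j ha => by
        rcases two_cases j with e | e <;> rw [e] <;> simp [ZMod.val_one, S.v_mul_z ha]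
      obtain rfl : p = p' := by
        rw [← h1.2, ← hv _ i h1.1, h, hv _ i' h2.1, h2.2]
      have h3 := mul_left_cancel h
      rcases two_cases i with rfl | rfl <;> rcases two_cases i' with rfl | rfl <;>
        first | rfl | (simp [ZMod.val_one] at h3; exact absurd h3 S.z_ne) |
          (simp [ZMod.val_one] at h3; exact absurd h3.symm S.z_ne)
    · rintro ⟨a, ha, hp⟩
      have h1 := Classical.choose_spec (S.v_surj (v a))
      rcases (S.v_eq ha h1.1).1 h1.2.symm with e | e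
      · exact ⟨(0, ⟨v a, hp⟩), Subtype.ext (by simpa using e.symm)⟩
      · exact ⟨(1, ⟨v a, hp⟩), Subtype.ext (by simpa [ZMod.val_one] using e.symm)⟩
  rw [e, Nat.card_prod, Nat.card_zmod, Nat.card_eq_fintype_card, Fintype.card_coe]

/-- An involution in the extraspecial group of another involution is conjugate to the centre. -/
theorem class_of_mem {j x : G} (hjQ : j * z * j⁻¹ ∈ Q) (hjne : j * z * j⁻¹ ≠ z)
    (hx : x ∈ Q.map (MulAut.conj j).toMonoidHom) (hx2 : x * x = 1) (hx1 : x ≠ 1) : IsConj z x := by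
  have S' := S.conj j
  by_cases hne' : x = j * z * j⁻¹
  · exact hne' ▸ isConj_iff.2 ⟨j, rfl⟩
  obtain ⟨d, hd⟩ := S'.all_conj (g := j⁻¹) (by
    rw [show j⁻¹ * (j * z * j⁻¹) * j⁻¹⁻¹ = z by group]; exact mutual_mem S hjQ hjne) (by
    rw [show j⁻¹ * (j * z * j⁻¹) * j⁻¹⁻¹ = z by group]; exact hjne.symm) hx hx2 (S'.v_ne hx hx1 hne')
  exact isConj_iff.2 ⟨d * j, by rw [← hd]; group⟩

end Setup

namespace Pt

variable {g : G} (F : Pt z Q v ρ g)
include F

theorem class_of_mem_Q {x : G} (hx : x ∈ Q) (hx2 : x * x = 1) (hx1 : x ≠ 1) : IsConj z x := by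
  by_cases hxz : x = z
  · exact hxz ▸ IsConj.refl z
  obtain ⟨d, hd⟩ := F.setup.all_conj F.mem F.pt_ne hx hx2 (F.setup.v_ne hx hx1 hxz)
  exact isConj_iff.2 ⟨d, hd⟩

theorem inQ_class {x : G} (h : F.InQ x) (hx2 : x * x = 1) (hx1 : x ≠ 1) : IsConj z x := by
  obtain ⟨k, hk, hk', hm⟩ := h
  exact F.setup.class_of_mem hk hk' hm hx2 hx1

theorem inQ_image {x : G} (h : F.InQ x) (hx : x ∈ centralizer ({z} : Set G)) (hx2 : x * x = 1) (w : Vec) :
    qf (act (ρ x) w + w) = 0 := by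
  obtain ⟨k, hk, hk', hm⟩ := h
  have hj2 : k * z * k⁻¹ * (k * z * k⁻¹) = 1 := (F.setup.conj k).zz
  have hj0 : v (k * z * k⁻¹) ≠ 0 := F.setup.v_ne hk (F.setup.conj k).z_ne hk'
  obtain ⟨h, hh, hhw⟩ := move_singular hj0 w0_ne ((F.setup.v_sq _ hk).2 hj2) qf_w0
  obtain ⟨c, hc, rfl⟩ := F.setup.ρ_surj h hh
  have hjc : c * k * z * (c * k)⁻¹ = c * (k * z * k⁻¹) * c⁻¹ := by group
  have F' : Pt z Q v ρ (c * k) := ⟨F.setup, by rw [hjc]; exact F.setup.norm hc hk,
    by rw [hjc, F.setup.ρ_act c hc _ hk, hhw]⟩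
  obtain ⟨q₁, hq₁, hq₁e⟩ := hm
  replace hq₁e : k * q₁ * k⁻¹ = x := hq₁e
  have hR' : c * x * c⁻¹ ∈ F'.R' := ⟨⟨q₁, hq₁, show c * k * q₁ * (c * k)⁻¹ = _ by rw [← hq₁e]; group⟩,
    Subgroup.mul_mem _ (Subgroup.mul_mem _ hc hx) (Subgroup.inv_mem _ hc)⟩
  have hsq := F'.square_rule hR'
  rw [show c * x * c⁻¹ * (c * x * c⁻¹) = c * (x * x) * c⁻¹ by group, hx2, mul_one, mul_inv_cancel,
    ← F'.zi_zero] at hsq
  have h2 := image_sing (F'.phi (c * x * c⁻¹)) (act (ρ c) w) (F'.zi_inj hsq).2.symm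
  rw [← F'.rho_R' hR', F.setup.ρ_mul _ (mul_mem hc hx) _ (inv_mem hc), F.setup.ρ_mul c hc x hx,
    F.setup.ρ_inv hc, act_mul, ← act_mul (ρ c)⁻¹, inv_mul_cancel, act_one, act_mul, ← act_add, qf_act] at h2
  exact h2

/-- An involution whose image contains a non-singular vector is conjugate to the reference one. -/
theorem class_of_nonsing {t x : G} (ht : F.Form a₀ c₀ t) (hx : x ∈ centralizer ({z} : Set G)) (hx2 : x * x = 1)
    {w : Vec} (hw : qf (act (ρ x) w + w) = 1) : F.CConj x t := by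
  have hxQ : x ∉ Q := fun hQ => by
    rw [F.setup.ρ_of_mem hQ, act_one, vec_add_self] at hw
    revert hw
    decide +kernel
  exact (F.classify hx hx2 hxQ).elim (fun h => h t ht) fun h =>
    absurd ((F.inQ_image h hx hx2 w).symm.trans hw) zero_ne_one

theorem cconj_isConj {x y : G} (h : F.CConj x y) : IsConj x y := by
  obtain ⟨c, -, hc⟩ := h
  exact isConj_iff.2 ⟨c, hc⟩

theorem form_sing_class {a c : W4} {x : G} (hx : F.Form a c x) (hx2 : x * x = 1) (hx1 : x ≠ 1)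
    (hc : q4 c = 0) (hac : pl4 a c = 0) : IsConj z x := by
  by_cases hc0 : c = 0
  · subst hc0
    exact F.class_of_mem_Q (F.form_mem_Q hx).1 hx2 hx1
  have h := F.form_sqp (p := (a, c)) hx
  rw [hx2, ← F.zp_zero] at h
  have ha : q4 a = 0 := by
    have := congrArg Prod.fst (F.zp_inj h).symm
    simpa [sqp, hac] using this
  rcases sing_pair c a hc ha ((pl4_comm c a).trans hac) hc0 with rfl | rfl
  · exact F.setup.class_of_mem F.mem F.pt_ne (F.form_mem_Qi hx) hx2 hx1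
  · obtain ⟨s, hs, hvs, -⟩ := F.exists_swap
    have hm := F.form_shift' hs hvs hx
    rw [w4_add_self] at hm
    have h2 : s * x * s⁻¹ * (s * x * s⁻¹) = 1 := by
      rw [show s * x * s⁻¹ * (s * x * s⁻¹) = s * (x * x) * s⁻¹ by group, hx2]; group
    exact (F.setup.class_of_mem F.mem F.pt_ne (F.form_mem_Qi hm) h2 fun e => hx1 (conj_eq_one_iff.1 e)).trans
      (isConj_iff.2 ⟨s⁻¹, by group⟩)

theorem form_adm_class {t x : G} (ht : F.Form a₀ c₀ t) {p : W4 × W4} (hx : F.Form p.1 p.2 x)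
    (h : q4 p.1 = 1 ∧ q4 p.2 = 1 ∧ pl4 p.1 p.2 = 1) : IsConj t x :=
  (F.cconj_isConj (F.form_ref hx h.1 h.2.1 h.2.2 ht)).symm

theorem card_centralizer_pt :
    Nat.card ↥(centralizer ({z} : Set G) ⊓ centralizer ({F.pt} : Set G)) = 61440 := by
  have h := card_orbit_mul (centralizer ({z} : Set G)) F.pt
  have hp2 : v F.pt ≠ 0 := by rw [F.val]; exact w0_ne
  have e : Nat.card {y : G // ∃ c ∈ centralizer ({z} : Set G), c * F.pt * c⁻¹ = y} = 54 := by
    have h54 := F.setup.card_lifts (Finset.univ.filter fun x : Vec => qf x = 0 ∧ x ≠ 0)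
    rw [sing_count] at h54
    refine Eq.trans (Nat.card_congr (Equiv.subtypeEquivRight fun y => ?_)) h54
    simp only [Finset.mem_filter, Finset.mem_univ, true_and]
    constructor
    · rintro ⟨c, hc, rfl⟩
      refine ⟨F.setup.norm hc F.mem, ?_, ?_⟩
      · rw [F.setup.ρ_act c hc _ F.mem, qf_act, F.val, qf_w0]
      · rw [F.setup.ρ_act c hc _ F.mem, F.val]
        intro h0
        exact w0_ne (act_injective (ρ c) (h0.trans (act_zero _).symm))
    · rintro ⟨hy, hq, h0⟩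
      exact F.setup.inv_conj F.mem hy F.pp ((F.setup.v_sq y hy).1 hq) hp2 h0
  rw [e, F.setup.card_cz] at h
  omega

/-- Conjugacy inside the centralizer of the four group. -/
theorem adm_transitive {t x : G} (ht : F.Form a₀ c₀ t) {p : W4 × W4} (hx : F.Form p.1 p.2 x)
    (h : q4 p.1 = 1 ∧ q4 p.2 = 1 ∧ pl4 p.1 p.2 = 1) :
    ∃ c ∈ centralizer ({z} : Set G) ⊓ centralizer ({F.pt} : Set G), c * t * c⁻¹ = x := by
  obtain ⟨w, -, hwc, hwa⟩ := pair_reach p.1 p.2 h.1 h.2.1 h.2.2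
  obtain ⟨w', hw'⟩ : ∃ w' : List (Fin 2), wf w' a₀ = p.1 ∧ wf w' c₀ = p.2 := by
    rcases hwa with e | e
    · exact ⟨w, e, hwc⟩
    · refine ⟨w ++ kw 3, ?_, ?_⟩ <;> rw [wf, List.foldr_append]
      · show wf w (wf (kw 3) a₀) = p.1
        rw [flip_spec.2, ← act4_σw, CoOneType.act4_add, act4_σw, act4_σw, e, hwc, add_assoc, w4_add_self, add_zero]
      · show wf w (wf (kw 3) c₀) = p.2
        rw [flip_spec.1, hwc]
  obtain ⟨k, hk, hki, hρ⟩ := F.word_lift w'
  have hy := F.form_conj_ci hk hki ht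
  rw [hρ, hp_E, hp_E, act4_σw, act4_σw, hw'.1, hw'.2] at hy
  obtain ⟨d, hd⟩ := F.form_unique hy hx
  obtain ⟨m, hm⟩ := solve_cmp p h.1 h.2.1 h.2.2 d
  obtain ⟨q, hq, hqm⟩ := F.R_surj m
  have hqf : F.Form (m, (0 : W4)).1 (m, (0 : W4)).2 q := hqm ▸ F.mem_R_form hq
  refine ⟨q * k, ⟨mul_mem (F.setup.le hq.1) hk, Subgroup.mul_mem _ hq.2 hki⟩, ?_⟩
  rw [show q * k * t * (q * k)⁻¹ = q * (k * t * k⁻¹) * q⁻¹ by group,
    F.form_comm (p' := p) hqf hy, hm, hd]
  group

theorem adm_closed {t : G} (ht : F.Form a₀ c₀ t) {y : G}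
    (hy : y ∈ centralizer ({z} : Set G) ⊓ centralizer ({F.pt} : Set G)) :
    ∃ p : W4 × W4, (q4 p.1 = 1 ∧ q4 p.2 = 1 ∧ pl4 p.1 p.2 = 1) ∧ F.Form p.1 p.2 (y * t * y⁻¹) := by
  have hw := F.rho_ci hy.1 hy.2
  refine ⟨(hp (ρ y) a₀, hp (ρ y) c₀), ⟨?_, ?_, ?_⟩, F.form_conj_ci hy.1 hy.2 ht⟩
  · rw [hp_q hw]; exact ref_pair.1
  · rw [hp_q hw]; exact ref_pair.2.1
  · rw [hp_pl hw]; exact ref_pair.2.2.1

theorem card_inner {t : G} (ht : F.Form a₀ c₀ t) :
    Nat.card ↥(centralizer ({z} : Set G) ⊓ centralizer ({F.pt} : Set G) ⊓ centralizer ({t} : Set G)) = 256 := by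
  have h := card_orbit_mul (centralizer ({z} : Set G) ⊓ centralizer ({F.pt} : Set G)) t
  have e : Nat.card {y : G // ∃ c ∈ centralizer ({z} : Set G) ⊓ centralizer ({F.pt} : Set G), c * t * c⁻¹ = y}
      = 240 := by
    have h240 := F.card_forms (Finset.univ.filter fun p : W4 × W4 => q4 p.1 = 1 ∧ q4 p.2 = 1 ∧ pl4 p.1 p.2 = 1)
    rw [adm_count] at h240
    refine Eq.trans (Nat.card_congr (Equiv.subtypeEquivRight fun y => ?_)) h240
    simp only [Finset.mem_filter, Finset.mem_univ, true_and]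
    constructor
    · rintro ⟨c, hc, rfl⟩
      exact F.adm_closed ht hc
    · rintro ⟨p, hp, hy⟩
      exact F.adm_transitive ht hy hp
  rw [e, F.card_centralizer_pt] at h
  omega

/-- The elements centralizing the reference involution and the four group. -/
theorem mem_inner {t : G} (ht : F.Form a₀ c₀ t) {y : G} :
    y ∈ centralizer ({z} : Set G) ⊓ centralizer ({F.pt} : Set G) ⊓ centralizer ({t} : Set G) ↔
      ∃ p : W4 × W4, cmp p p0 = 0 ∧ F.Form p.1 p.2 y := by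
  classical
  haveI := Fintype.ofFinite G
  have hle : ∀ y, (∃ p : W4 × W4, cmp p p0 = 0 ∧ F.Form p.1 p.2 y) →
      y ∈ centralizer ({z} : Set G) ⊓ centralizer ({F.pt} : Set G) ⊓ centralizer ({t} : Set G) := by
    rintro y ⟨p, hp, hy⟩
    exact ⟨⟨F.form_cz hy, F.form_ci hy⟩, mem_cz.2 ((F.form_commute (p' := p0) hy ht).2 hp)⟩
  refine ⟨fun hy => ?_, hle y⟩
  have hcard := F.card_forms (Finset.univ.filter fun p : W4 × W4 => cmp p p0 = 0)
  rw [cu_count] at hcard
  simp only [Finset.mem_filter, Finset.mem_univ, true_and] at hcard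
  have hsurj := (Nat.bijective_iff_injective_and_card
    (fun x : {x : G // ∃ p : W4 × W4, cmp p p0 = 0 ∧ F.Form p.1 p.2 x} =>
      (⟨x.1, hle x.1 x.2⟩ : ↥(centralizer ({z} : Set G) ⊓ centralizer ({F.pt} : Set G) ⊓
        centralizer ({t} : Set G))))).2
    ⟨fun a b e => Subtype.ext (congrArg Subtype.val e :), by rw [hcard, F.card_inner ht]⟩
  obtain ⟨x, hx⟩ := hsurj.2 ⟨y, hy⟩
  have e : x.1 = y := congrArg Subtype.val hx
  exact e ▸ x.2

theorem fixes_w0 {t : G} (ht : F.Form a₀ c₀ t) {y : G} (hy : y ∈ centralizer ({z} : Set G))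
    (hyt : y * t = t * y) : act (ρ y) w0 = w0 := by
  have hc : ∀ x, act (ρ y) (sieg c₀ x) = sieg c₀ (act (ρ y) x) := fun x => by
    rw [← F.form_rho ht, ← F.form_rho ht, ← act_mul, ← act_mul, ← F.setup.ρ_mul y hy t (F.form_cz ht),
      ← F.setup.ρ_mul t (F.form_cz ht) y hy, hyt]
  have hw : act (ρ y) w0 = sieg c₀ (act (ρ y) (vmk 0 0 a₀)) + act (ρ y) (vmk 0 0 a₀) := by
    conv_lhs => rw [← w0_image, act_add, hc]
  rcases singular_image (act (ρ y) (vmk 0 0 a₀)) (by rw [← hw, qf_act, qf_w0]) with e | e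
  · exact absurd (act_injective (ρ y) ((hw.trans e).trans (act_zero _).symm)) w0_ne
  · exact hw.trans e

/-- An element exchanging the two points and centralizing the reference involution. -/
theorem exists_outer {t : G} (ht : F.Form a₀ c₀ t) :
    ∃ y ∈ centralizer ({z} : Set G), y * t = t * y ∧ y * F.pt * y⁻¹ = F.pt * z ∧
      ρ y = E (σw (kw 3)) := by
  obtain ⟨k, hk, hki, hρ⟩ := F.word_lift (kw 3)
  obtain ⟨s, hs, hvs, hsp⟩ := F.exists_swap
  have hy := F.form_shift' hs hvs (F.form_conj_ci hk hki ht)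
  rw [hρ, hp_E, hp_E, act4_σw, act4_σw, flip_spec.1, flip_spec.2, add_assoc, w4_add_self, add_zero] at hy
  obtain ⟨d, hd⟩ := F.form_unique ht hy
  obtain ⟨m, hm⟩ := solve_cmp p0 ref_pair.1 ref_pair.2.1 ref_pair.2.2.1 d
  obtain ⟨q, hq, hqm⟩ := F.R_surj m
  have hqf : F.Form (m, (0 : W4)).1 (m, (0 : W4)).2 q := hqm ▸ F.mem_R_form hq
  have hqt := F.form_comm (p' := p0) hqf ht
  rw [hm] at hqt
  refine ⟨q * (s * k), mul_mem (F.setup.le hq.1) (mul_mem (F.setup.le hs) hk), ?_, ?_, ?_⟩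
  · have h1 : s * k * t = F.zp d * t * (s * k) := by rw [← hd]; group
    calc q * (s * k) * t = q * (s * k * t) := by group
      _ = q * F.zp d * t * (s * k) := by rw [h1]; group
      _ = F.zp d * (q * t) * (s * k) := by rw [F.form_comm_zp hqf]; group
      _ = t * (q * (s * k)) := by rw [hqt, ← mul_assoc (F.zp d), F.zp_sq]; group
  · have h1 : k * F.pt * k⁻¹ = F.pt := conj_eq_iff_comm.2 (mem_cz.1 hki)
    have h2 : q * (F.pt * z) * q⁻¹ = F.pt * z := conj_eq_iff_comm.2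
      ((show Commute q F.pt from mem_cz.1 hq.2).mul_right (show Commute q z from F.setup.cz hq.1)).eq
    calc q * (s * k) * F.pt * (q * (s * k))⁻¹ = q * (s * (k * F.pt * k⁻¹) * s⁻¹) * q⁻¹ := by group
      _ = F.pt * z := by rw [h1, hsp, h2]
  · rw [F.setup.ρ_mul _ (F.setup.le hq.1) _ (mul_mem (F.setup.le hs) hk), F.setup.ρ_mul _ (F.setup.le hs) k hk,
      F.setup.ρ_of_mem hq.1, F.setup.ρ_of_mem hs, one_mul, one_mul, hρ]

theorem card_cz_t {t : G} (ht : F.Form a₀ c₀ t) :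
    Nat.card ↥(centralizer ({z} : Set G) ⊓ centralizer ({t} : Set G)) = 512 := by
  classical
  have h := card_orbit_mul (centralizer ({z} : Set G) ⊓ centralizer ({t} : Set G)) F.pt
  have e : Nat.card {y : G // ∃ c ∈ centralizer ({z} : Set G) ⊓ centralizer ({t} : Set G),
      c * F.pt * c⁻¹ = y} = 2 := by
    obtain ⟨o, ho, hot, hop, -⟩ := F.exists_outer ht
    rw [Nat.card_eq_two_iff]
    refine ⟨⟨F.pt, 1, one_mem _, by simp⟩, ⟨F.pt * z, o, ⟨ho, mem_cz.2 hot⟩, hop⟩, fun h => ?_, ?_⟩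
    · exact F.setup.z_ne (left_eq_mul.1 (congrArg Subtype.val h))
    · rw [Set.eq_univ_iff_forall]
      rintro ⟨y, c, hc, rfl⟩
      rcases F.fix_w0 hc.1 (F.fixes_w0 ht hc.1 (mem_cz.1 hc.2)) with e | e
      · exact Or.inl (Subtype.ext e)
      · exact Or.inr (Subtype.ext e)
  rw [e, show centralizer ({z} : Set G) ⊓ centralizer ({t} : Set G) ⊓ centralizer ({F.pt} : Set G) =
    centralizer ({z} : Set G) ⊓ centralizer ({F.pt} : Set G) ⊓ centralizer ({t} : Set G) from inf_right_comm _ _ _,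
    F.card_inner ht] at h
  omega

/-- An outer element acts on the parameters as the flip. -/
theorem outer_hp {t : G} (ht : F.Form a₀ c₀ t) {y : G} (hy : y ∈ centralizer ({z} : Set G))
    (hyt : y * t = t * y) (hyp : y * F.pt * y⁻¹ = F.pt * z) (u : W4) : hp (ρ y) u = wf (kw 3) u := by
  obtain ⟨o, ho, hot, hop, hρ⟩ := F.exists_outer ht
  have hw : o⁻¹ * y ∈ centralizer ({z} : Set G) ⊓ centralizer ({F.pt} : Set G) ⊓ centralizer ({t} : Set G) := by
    refine ⟨⟨Subgroup.mul_mem _ (Subgroup.inv_mem _ ho) hy, mem_cz.2 (conj_eq_iff_comm.1 ?_)⟩,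
      Subgroup.mul_mem _ (Subgroup.inv_mem _ (show o ∈ centralizer ({t} : Set G) from mem_cz.2 hot))
        (show y ∈ centralizer ({t} : Set G) from mem_cz.2 hyt)⟩
    rw [show o⁻¹ * y * F.pt * (o⁻¹ * y)⁻¹ = o⁻¹ * (y * F.pt * y⁻¹) * o by group, hyp, ← hop]
    simp [mul_assoc]
  obtain ⟨p, -, hp'⟩ := (F.mem_inner ht).1 hw
  have e : y = o * (o⁻¹ * y) := by group
  rw [e, F.setup.ρ_mul o ho _ hw.1.1, hρ, hp, act_mul, F.form_rho hp', act_E, pr_vmk, sieg_perp _ (yc_vmk _ _ _),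
    pr_vmk, act4_σw]

end Pt

end

end CfsgLib.Spor.SuzType
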