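import Cfsg.Agent.Lib.Spor.SuzType.Pairs

/-!
# The order of a group of Suzuki type
-/

set_option autoImplicit false
set_option synthInstance.maxSize 4096

namespace CfsgLib.Spor.SuzType

open Subgroup CfsgLib.Spor.CoOneType CfsgLib.Invol

noncomputable section

variable {G : Type*} [Group G] [Finite G] {z : G} {Q : Subgroup G} {v : G → Vec} {ρ : G → Iso6}

theorem zpow_odd_split {x : G} (hx : Odd (orderOf x)) {a : G} (ha : a * a = 1) (hc : Commute a x) :
    a ∈ zpowers (a * x) := by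
  obtain ⟨j, hj⟩ := hx
  refine ⟨((orderOf x : ℕ) : ℤ), ?_⟩
  show (a * x) ^ ((orderOf x : ℕ) : ℤ) = a
  rw [zpow_natCast, hc.mul_pow, pow_orderOf_eq_one, mul_one, hj, pow_succ, pow_mul, pow_two, ha, one_pow, one_mul]

theorem two_classes_of_pt {g : G} {F : Pt z Q v ρ g} {t w : G} (T : F.Tri t w) {x : G} (hx : orderOf x = 2) :
    IsConj z x ∨ IsConj t x := by
  obtain ⟨a, b, -, -, -, hall⟩ := two_classes F.setup F.mem F.pt_ne
  have hzt := T.not_conj_z
  rcases hall z F.setup.core.ord with hz | hz <;> rcases hall t T.t_ord with ht | ht <;> rcases hall x hx with h | h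
  all_goals first
    | exact absurd (hz.trans ht.symm) hzt
    | exact Or.inl (hz.trans h.symm)
    | exact Or.inr (ht.trans h.symm)

namespace Pt.Tri

variable {g : G} {F : Pt z Q v ρ g} {t w : G} (T : F.Tri t w)

include T

theorem card_pairs_z :
    Nat.card {p : G × G // IsConj z p.1 ∧ IsConj t p.2 ∧ z ∈ zpowers (p.1 * p.2)} = 6480 * 236 := by
  classical
  haveI := Fintype.ofFinite G
  let Y := {y : G // ∃ c ∈ centralizer ({z} : Set G), c * t * c⁻¹ = y}
  have hY : Nat.card Y = 6480 := by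
    have h := card_orbit_mul (centralizer ({z} : Set G)) t
    rw [F.card_cz_t T.tf, F.setup.card_cz] at h
    show Nat.card {y : G // ∃ c ∈ centralizer ({z} : Set G), c * t * c⁻¹ = y} = 6480
    omega
  have hmem : ∀ p : G × G, IsConj z p.1 → IsConj t p.2 → z ∈ zpowers (p.1 * p.2) →
      ∃ c ∈ centralizer ({z} : Set G), c * t * c⁻¹ = p.2 := by
    rintro ⟨u, q⟩ hu hq ⟨i, hi⟩
    replace hi : (u * q) ^ i = z := hi
    have hqo : orderOf q = 2 := by obtain ⟨k, rfl⟩ := isConj_iff.1 hq; exact invol_conj T.t_ord k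
    have huo : orderOf u = 2 := by obtain ⟨k, rfl⟩ := isConj_iff.1 hu; exact invol_conj F.setup.core.ord k
    have h := conj_zpow_of_inverts (invol_conj_mul' huo hqo) i
    rw [zpow_neg, hi, invol_inv F.setup.core.ord] at h
    have hqz : q ∈ centralizer ({z} : Set G) := mem_cz.2 (mul_inv_eq_iff_eq_mul.1 h)
    have hq2 := invol_mul_self hqo
    have hqQ : q ∉ Q := fun hQ => T.not_conj_z ((F.class_of_mem_Q hQ hq2 (invol_ne_one hqo)).trans hq.symm)
    obtain ⟨c, hc, e⟩ := (F.classify hqz hq2 hqQ).elim (fun h => h t T.tf)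
      (fun h => absurd ((F.inQ_class h hq2 (invol_ne_one hqo)).trans hq.symm) T.not_conj_z)
    exact ⟨c⁻¹, inv_mem hc, by rw [← e]; group⟩
  let e : {p : G × G // IsConj z p.1 ∧ IsConj t p.2 ∧ z ∈ zpowers (p.1 * p.2)} ≃
      Σ y : Y, {u : G // IsConj z u ∧ z ∈ zpowers (u * y.1)} :=
    { toFun := fun p => ⟨⟨p.1.2, hmem p.1 p.2.1 p.2.2.1 p.2.2.2⟩, ⟨p.1.1, p.2.1, p.2.2.2⟩⟩
      invFun := fun q => ⟨(q.2.1, q.1.1), q.2.2.1, by
        obtain ⟨⟨y, c, -, rfl⟩, _⟩ := q
        exact isConj_iff.2 ⟨c, rfl⟩, q.2.2.2⟩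
      left_inv := fun _ => rfl
      right_inv := fun _ => rfl }
  have hfib : ∀ y : Y, Nat.card {u : G // IsConj z u ∧ z ∈ zpowers (u * y.1)} = 236 := by
    rintro ⟨y, c, hc, rfl⟩
    rw [← T.card_fibre]
    have hcz := conj_eq_iff_comm.2 (mem_cz.1 hc)
    symm
    refine Nat.card_congr ((MulAut.conj c).toEquiv.subtypeEquiv fun u => ?_)
    show _ ↔ IsConj z (c * u * c⁻¹) ∧ z ∈ zpowers (c * u * c⁻¹ * (c * t * c⁻¹))
    rw [show c * u * c⁻¹ * (c * t * c⁻¹) = c * (u * t) * c⁻¹ by group]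
    refine and_congr ⟨fun h => h.trans (isConj_iff.2 ⟨c, rfl⟩),
      fun h => h.trans (isConj_iff.2 ⟨c⁻¹, by group⟩)⟩ ?_
    conv_rhs => rw [← hcz]
    exact conj_mem_zpowers_iff.symm
  rw [Nat.card_congr e, Nat.card_sigma, Finset.sum_congr rfl (fun y _ => hfib y), Finset.sum_const,
    Finset.card_univ, smul_eq_mul, ← Nat.card_eq_fintype_card, hY]

theorem zclass_K {x : G} (hx : IsConj z x) (hxt : x * t = t * x) : x ∈ T.L := by
  haveI : Fact (Nat.Prime 2) := ⟨Nat.prime_two⟩
  have hxK : x ∈ T.K := mem_cz.2 hxt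
  obtain ⟨c, hc⟩ := isConj_iff.1 hx
  have hx2 : x * x = 1 := by rw [← hc]; exact sq_conj F.setup.zz
  have hP := T.isPGroup_cz_t.comap_of_injective T.K.subtype T.K.subtype_injective
  obtain ⟨k, hk⟩ := exists_conj_le_sylow (p := 2) (Q := zpowers (⟨x, hxK⟩ : ↥T.K)) (by
    rintro ⟨a, i, rfl⟩
    refine ⟨1, Subtype.ext ?_⟩
    show ((⟨x, hxK⟩ : ↥T.K) ^ i) ^ 2 = 1
    rw [← zpow_natCast, ← zpow_mul, mul_comm, zpow_mul, zpow_natCast,
      show (⟨x, hxK⟩ : ↥T.K) ^ 2 = 1 from Subtype.ext (by rw [SubmonoidClass.coe_pow, pow_two]; exact hx2), one_zpow])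
    (hP.toSylow T.tS_index)
  have h := mem_subgroupOf.1 (show k * ⟨x, hxK⟩ * k⁻¹ ∈
    (centralizer ({z} : Set G) ⊓ centralizer ({t} : Set G)).subgroupOf T.K from hk _ (mem_zpowers _))
  have hs := T.sm_L (T.zclass_mem h.1 (mem_cz.1 h.2) (hx.trans (isConj_iff.2 ⟨(k : G), rfl⟩)))
  have := T.L_normal (Subgroup.inv_mem _ k.2) hs
  rwa [show (k : G)⁻¹ * (((k * ⟨x, hxK⟩ * k⁻¹ : ↥T.K) : G)) * (k : G)⁻¹⁻¹ = x by
    show (k : G)⁻¹ * ((k : G) * x * (k : G)⁻¹) * (k : G)⁻¹⁻¹ = x
    group] at this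

theorem L_invol_class {i : G} (hi : i ∈ T.L) (hi2 : i * i = 1) (hi1 : i ≠ 1) : IsConj z i := by
  obtain ⟨l, -, e⟩ := T.L_fused hi hi2 hi1
  exact isConj_iff.2 ⟨l, e⟩

theorem card_pairs_t :
    Nat.card {p : G × G // IsConj z p.1 ∧ IsConj t p.2 ∧ t ∈ zpowers (p.1 * p.2)} = 315 * 193 := by
  classical
  haveI := Fintype.ofFinite G
  haveI := Fintype.ofFinite ↥T.L
  let zL : ↥T.L := ⟨z, T.z_L⟩
  have hn : Nat.card {i : ↥T.L // orderOf i = 2} = 315 := by
    have h := T.L_hyp.card_group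
    rw [T.card_L] at h
    omega
  have h193 : Nat.card {j : ↥T.L // orderOf j = 2 ∧ Odd (orderOf (zL * j))} = 193 := by
    have hc := T.L_c
    rw [Nat.card_eq_fintype_card, Fintype.card_subtype] at hn hc ⊢
    have hsplit := Finset.card_filter_add_card_filter_not (s := Finset.univ.filter fun i : ↥T.L => orderOf i = 2)
      (fun i => i = zL ∨ Even (orderOf (zL * i)))
    rw [Finset.filter_filter, Finset.filter_filter, hn, hc] at hsplit
    have he : (Finset.univ.filter fun j : ↥T.L => orderOf j = 2 ∧ Odd (orderOf (zL * j))) =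
        insert zL (Finset.univ.filter fun i : ↥T.L => orderOf i = 2 ∧ ¬(i = zL ∨ Even (orderOf (zL * i)))) := by
      ext j
      simp only [Finset.mem_filter, Finset.mem_univ, true_and, Finset.mem_insert, not_or, Nat.not_even_iff_odd]
      constructor
      · rintro ⟨h1, h2⟩
        by_cases hj : j = zL
        · exact Or.inl hj
        · exact Or.inr ⟨h1, hj, h2⟩
      · rintro (rfl | ⟨h1, -, h2⟩)
        · refine ⟨T.L_hyp.inv, ?_⟩
          rw [invol_mul_self T.L_hyp.inv, orderOf_one]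
          exact odd_one
        · exact ⟨h1, h2⟩
    rw [he, Finset.card_insert_of_notMem (fun h => (Finset.mem_filter.1 h).2.2 (Or.inl rfl))]
    omega
  have hL2 : ∀ i : ↥T.L, orderOf i = 2 → IsConj z (i : G) := fun i hi =>
    T.L_invol_class i.2 (congrArg Subtype.val (invol_mul_self hi)) fun e => invol_ne_one hi (Subtype.ext e)
  -- the fibre over the centre
  have hz193 : Nat.card {q : G // IsConj t q ∧ t ∈ zpowers (z * q)} = 193 := by
    rw [← h193]
    symm
    refine Nat.card_eq_of_bijective (fun j => (⟨t * (j.1 : G), ?_, ?_⟩ : {q : G // IsConj t q ∧ t ∈ zpowers (z * q)}))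
      ⟨fun a b h => Subtype.ext (Subtype.ext (mul_left_cancel (congrArg Subtype.val h :))), ?_⟩
    · have hjt : (j.1 : G) * t = t * (j.1 : G) := mem_cz.1 (T.L_le j.1.2).1
      rw [← hjt]
      exact T.mul_t_class (hL2 j.1 j.2.1) hjt
    · have hjt : Commute (j.1 : G) t := mem_cz.1 (T.L_le j.1.2).1
      have hzt : Commute z t := (mem_cz.1 T.t_cz).symm
      rw [show z * (t * (j.1 : G)) = t * (z * (j.1 : G)) by rw [← mul_assoc, hzt.eq, mul_assoc]]
      exact zpow_odd_split (by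
        rw [show z * (j.1 : G) = ((zL * j.1 : ↥T.L) : G) from rfl, Subgroup.orderOf_coe]; exact j.2.2)
        T.t_sq (hzt.mul_left hjt).symm
    rintro ⟨q, hq, hqz⟩
    obtain ⟨i, hi⟩ := hqz
    replace hi : (z * q) ^ i = t := hi
    have hqo : orderOf q = 2 := by obtain ⟨k, rfl⟩ := isConj_iff.1 hq; exact invol_conj T.t_ord k
    have h := conj_zpow_of_inverts (invol_conj_mul' F.setup.core.ord hqo) i
    rw [zpow_neg, hi, invol_inv T.t_ord] at h
    have hqK : q ∈ T.K := mem_cz.2 (mul_inv_eq_iff_eq_mul.1 h)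
    have hzK : z ∈ T.K := T.CE_le (T.L_le T.z_L)
    by_cases hqCE : q ∈ T.CE
    · obtain ⟨p, l, hl, rfl⟩ := T.CE_split hqCE
      have hc : Commute (T.eE p) (z * l) := (T.eE_comm_CE (T.L_le (mul_mem T.z_L hl)) p).symm
      have e1 : z * (T.eE p * l) = T.eE p * (z * l) := by
        rw [← mul_assoc, T.eE_comm_CE (T.L_le T.z_L) p, mul_assoc]
      rw [e1, hc.mul_zpow] at hi
      obtain ⟨a, ha⟩ : ∃ a, T.eE p ^ i = T.eE a ∧ (Odd i → a = p) ∧ (Even i → a = 0) := by
        rcases Int.even_or_odd i with ⟨j, rfl⟩ | ⟨j, rfl⟩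
        · exact ⟨0, by rw [← two_mul, zpow_mul, zpow_two, T.eE_sq, one_zpow, T.eE_zero],
            fun ho => absurd ⟨j, rfl⟩ (Int.not_even_iff_odd.2 ho), fun _ => rfl⟩
        · exact ⟨p, by rw [zpow_add_one, zpow_mul, zpow_two, T.eE_sq, one_zpow, one_mul], fun _ => rfl,
            fun he => absurd he (Int.not_even_iff_odd.2 ⟨j, rfl⟩)⟩
      obtain ⟨ha, hodd, heven⟩ := ha
      rw [ha] at hi
      have hli : (z * l) ^ i ∈ T.L := zpow_mem (mul_mem T.z_L hl) i
      have hd : T.eE (a + (1, 0)) = ((z * l) ^ i)⁻¹ := by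
        refine ((T.eE_add _ _).symm.trans ?_)
        refine (congrArg (T.eE a * ·) (T.eE_t.trans hi.symm)).trans ?_
        rw [← mul_assoc (T.eE a), T.eE_sq, one_mul]
        exact (inv_eq_of_mul_eq_one_right (by
          have hsq : (T.eE a * (z * l) ^ i) * (T.eE a * (z * l) ^ i) = 1 := by rw [hi, T.t_sq]
          have hc1 : Commute (T.eE a) (z * l) := (T.eE_comm_CE (T.L_le (mul_mem T.z_L hl)) a).symm
          have hc2 : Commute (T.eE a) ((z * l) ^ i) := hc1.zpow_right i
          calc (z * l) ^ i * (z * l) ^ i = T.eE a * T.eE a * ((z * l) ^ i * (z * l) ^ i) := by rw [T.eE_sq, one_mul]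
            _ = T.eE a * (T.eE a * (z * l) ^ i) * (z * l) ^ i := by group
            _ = 1 := by rw [hc2.eq, ← hsq]; group)).symm
      have hza := T.eE_L (hd ▸ inv_mem hli : T.eE (a + (1, 0)) ∈ T.L)
      have ha10 : a = (1, 0) := by
        calc a = a + (1, 0) + (1, 0) := by rw [add_assoc, pair_add_self, add_zero]
          _ = (1, 0) := by rw [hza, zero_add]
      have hi1 : (z * l) ^ i = 1 := by
        rw [ha10, T.eE_t] at hi
        exact mul_eq_left.1 hi
      have hiodd : Odd i := by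
        rcases Int.even_or_odd i with he | ho
        · exact absurd ((heven he).symm.trans ha10) (Ne.symm one_zero_ne)
        · exact ho
      obtain rfl : (1, 0) = p := ha10.symm.trans (hodd hiodd)
      have hl2 : l * l = 1 := by
        have h2 := invol_mul_self hqo
        rw [T.eE_t] at h2
        have hc2 : Commute t l := (mem_cz.1 (T.L_le hl).1).symm
        calc l * l = t * t * (l * l) := by rw [T.t_sq, one_mul]
          _ = t * l * (t * l) := hc2.mul_mul_mul_comm t l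
          _ = 1 := h2
      have hzl : Odd (orderOf (z * l)) := by
        have hd := orderOf_dvd_iff_zpow_eq_one.2 hi1
        rcases Nat.even_or_odd (orderOf (z * l)) with he | ho
        · exfalso
          have h2 : (2 : ℤ) ∣ i := (Int.natCast_dvd_natCast.2 he.two_dvd).trans hd
          exact (Int.not_even_iff_odd.2 hiodd) (even_iff_two_dvd.2 h2)
        · exact ho
      have hl1 : l ≠ 1 := fun e => by
        rw [e, mul_one, F.setup.core.ord] at hzl
        exact absurd hzl (by decide)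
      exact ⟨⟨⟨l, hl⟩, invol_iff.2 ⟨Subtype.ext hl2, fun e => hl1 (congrArg Subtype.val e)⟩, by
        rwa [← Subgroup.orderOf_coe]⟩, Subtype.ext (congrArg (· * l) T.eE_t.symm)⟩
    · exfalso
      have hzq : z * q ∉ T.CE := fun h => hqCE (by
        simpa using mul_mem (inv_mem (T.L_le T.z_L)) h)
      have hsq : z * q * (z * q) ∈ T.L := by
        have h := mul_mem T.z_L (T.L_normal hqK T.z_L)
        rwa [invol_inv hqo, show z * (q * z * q) = z * q * (z * q) by group] at h
      rcases Int.even_or_odd i with ⟨j, rfl⟩ | ⟨j, rfl⟩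
      · rw [← two_mul, zpow_mul, zpow_two] at hi
        refine one_zero_ne (T.eE_L ?_)
        have hh := zpow_mem hsq j
        rw [hi] at hh
        rw [T.eE_t]
        exact hh
      · rw [zpow_add_one, zpow_mul, zpow_two] at hi
        have h2 : (z * q * (z * q)) ^ j ∈ T.CE := zpow_mem (T.L_le hsq) j
        have h3 := T.eE_mem (1, 0)
        rw [T.eE_t] at h3
        refine hzq ?_
        rw [eq_inv_mul_of_mul_eq hi]
        exact mul_mem (inv_mem h2) h3
  let e : {p : G × G // IsConj z p.1 ∧ IsConj t p.2 ∧ t ∈ zpowers (p.1 * p.2)} ≃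
      Σ i : {i : ↥T.L // orderOf i = 2}, {q : G // IsConj t q ∧ t ∈ zpowers (i.1 * q : G)} :=
    { toFun := fun p => ⟨⟨⟨p.1.1, T.zclass_K p.2.1 (by
          obtain ⟨⟨u, q⟩, hu, hq, i, hi⟩ := p
          replace hi : (u * q) ^ i = t := hi
          have hqo : orderOf q = 2 := by obtain ⟨k, rfl⟩ := isConj_iff.1 hq; exact invol_conj T.t_ord k
          have huo : orderOf u = 2 := by obtain ⟨k, rfl⟩ := isConj_iff.1 hu; exact invol_conj F.setup.core.ord k
          have h := conj_zpow_of_inverts (invol_conj_mul huo hqo) i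
          rw [zpow_neg, hi, invol_inv T.t_ord] at h
          exact mul_inv_eq_iff_eq_mul.1 h)⟩, by
        obtain ⟨k, hk⟩ := isConj_iff.1 p.2.1
        rw [orderOf_mk, ← hk]
        exact invol_conj F.setup.core.ord k⟩, ⟨p.1.2, p.2.2.1, p.2.2.2⟩⟩
      invFun := fun q => ⟨((q.1.1 : G), q.2.1), hL2 q.1.1 q.1.2, q.2.2.1, q.2.2.2⟩
      left_inv := fun _ => rfl
      right_inv := fun _ => rfl }
  have hfib : ∀ i : {i : ↥T.L // orderOf i = 2}, Nat.card {q : G // IsConj t q ∧ t ∈ zpowers (i.1 * q : G)} = 193 := by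
    rintro ⟨⟨i, hi⟩, hio⟩
    obtain ⟨l, hl, hli⟩ := T.L_fused hi (congrArg Subtype.val (invol_mul_self hio))
      fun e => invol_ne_one hio (Subtype.ext e)
    rw [← hz193]
    symm
    refine Nat.card_congr ((MulAut.conj l).toEquiv.subtypeEquiv fun q => ?_)
    show _ ↔ IsConj t (l * q * l⁻¹) ∧ t ∈ zpowers (i * (l * q * l⁻¹))
    rw [← hli, show l * z * l⁻¹ * (l * q * l⁻¹) = l * (z * q) * l⁻¹ by group]
    refine and_congr ⟨fun h => h.trans (isConj_iff.2 ⟨l, rfl⟩),
      fun h => h.trans (isConj_iff.2 ⟨l⁻¹, by group⟩)⟩ ?_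
    conv_rhs => rw [← conj_eq_iff_comm.2 (mem_cz.1 (T.L_le hl).1)]
    exact conj_mem_zpowers_iff.symm
  rw [Nat.card_congr e, Nat.card_sigma, Finset.sum_congr rfl (fun i _ => hfib i), Finset.sum_const,
    Finset.card_univ, smul_eq_mul, ← Nat.card_eq_fintype_card, hn]

/-- The order. -/
theorem card_eq : Nat.card G = 448345497600 := by
  rw [thompson_two_classes z t F.setup.core.ord T.t_ord T.not_conj_z (fun _ hx => two_classes_of_pt T hx),
    T.card_pairs_z, T.card_pairs_t, T.card_K, F.setup.card_cz]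

end Pt.Tri

end

end CfsgLib.Spor.SuzType
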