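import Cfsg.Agent.Lib.Spor.SuzType.Lines
import Cfsg.Agent.Lib.Spor.SuzType.Cent
import Cfsg.Agent.Lib.Invol.TwoClasses

/-!
# Involutions conjugate to the centre whose product with the reference one powers to the centre
-/

set_option autoImplicit false
set_option synthInstance.maxSize 8192

namespace CfsgLib.Spor.SuzType

open Subgroup CfsgLib.Spor.CoOneType CfsgLib.Invol

noncomputable section

variable {G : Type*} [Group G] [Finite G] {z : G} {Q : Subgroup G} {v : G → Vec} {ρ : G → Iso6}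

theorem conj_mem_zpowers_iff {c a b : G} : c * a * c⁻¹ ∈ zpowers (c * b * c⁻¹) ↔ a ∈ zpowers b := by
  constructor
  · rintro ⟨i, hi⟩
    replace hi : (c * b * c⁻¹) ^ i = c * a * c⁻¹ := hi
    rw [conj_zpow] at hi
    exact ⟨i, mul_left_cancel (mul_right_cancel hi)⟩
  · rintro ⟨i, rfl⟩
    exact ⟨i, show (c * b * c⁻¹) ^ i = c * b ^ i * c⁻¹ from conj_zpow⟩

theorem zpowers_cases {d w' : G} (hw : orderOf w' = 2) (hd : w' ∈ zpowers d) (hz : orderOf z = 2) :
    z ∈ zpowers d ↔ w' = z :=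
  ⟨fun h => invol_zpowers_unique hw hz hd h, fun h => h ▸ hd⟩

theorem frame_noncomm : ∀ π π' : W4, q4 π = 0 → q4 π' = 0 → π ≠ 0 → π' ≠ 0 → π' ≠ π → pl4 π π' = 1 := by
  decide +kernel

namespace Pt

variable {g : G} (F : Pt z Q v ρ g)
include F

/-- A fixed point on the line: the product powers to the centre exactly when the point is moved. -/
theorem fixed_case {t u : G} {a : W4} (hu : F.Form 0 a u) (hu2 : u * u = 1) (ht : t ∈ centralizer ({z} : Set G))
    (ht2 : t * t = 1) (hw : act (ρ t) w0 = w0) (hnc : ¬ ∀ x, act (ρ t) (sieg a x) = sieg a (act (ρ t) x)) :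
    z ∈ zpowers (u * t) ↔ t * F.pt * t⁻¹ = F.pt * z := by
  have ha : q4 a = 0 := by
    have h := F.form_sq hu
    rw [hu2, ← F.zi_zero] at h
    have := (F.zi_inj h).2.symm
    rwa [pl4_zero_left, add_zero] at this
  have ha0 : a ≠ 0 := fun e => hnc fun x => by rw [e, sieg_zero, sieg_zero]
  set h := hp (ρ t) a with hh
  have hqh : q4 h = 0 := (hp_q hw a).trans ha
  have hh0 : h ≠ 0 := fun e => by
    obtain ⟨y, hy⟩ := CoOneType.pol4_exists ha0
    have h2 : pl4 (hp (ρ t) a) (hp (ρ t) y) = 1 := (hp_pl hw a y).trans hy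
    rw [show hp (ρ t) a = 0 from e, pl4_zero_left] at h2
    exact zero_ne_one h2
  have ht' : t⁻¹ = t := inv_eq_of_mul_eq_one_right ht2
  obtain ⟨b, hf⟩ : ∃ b, F.Form b h (t * u * t⁻¹) := by
    rcases F.fix_w0 ht hw with e | e
    · exact ⟨_, F.form_conj_ci ht (mem_cz.2 (conj_eq_iff_comm.1 e)) hu⟩
    · exact ⟨_, F.form_conj_swap ht e hu⟩
  have hha : h ≠ a := by
    intro e
    refine hnc fun x => ?_
    have hr := F.form_rho hf (act (ρ t) x)
    rw [rho_conj F.setup ht (F.form_cz hu), F.form_rho hu, e] at hr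
    exact hr
  have hB := frame_noncomm a h ha hqh ha0 hh0 hha
  have hd2 : u * t * (u * t) = u * (t * u * t⁻¹) := by rw [ht']; group
  have hd : ∀ (p : W4 × W4), F.Form p.1 p.2 (u * (t * u * t⁻¹)) →
      u * t * (u * t) * (u * t * (u * t)) = F.zp (sqp p) := fun p hp => by rw [hd2, F.form_sqp hp]
  have hmem : ∀ x : G, u * t * (u * t) * (u * t * (u * t)) = x → x ∈ zpowers (u * t) := fun x e =>
    e ▸ mul_mem (mul_mem (mem_zpowers _) (mem_zpowers _)) (mul_mem (mem_zpowers _) (mem_zpowers _))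
  rcases F.fix_w0 ht hw with e | e
  · have hf2 : F.Form (0 + (hp (ρ t) 0)) (a + h) (u * (t * u * t⁻¹)) :=
      F.form_mul hu (F.form_conj_ci ht (mem_cz.2 (conj_eq_iff_comm.1 e)) hu)
    rw [hp_zero, add_zero] at hf2
    have h4 := hd (0, a + h) hf2
    rw [show sqp ((0 : W4), a + h) = (0, 1) by
      simp [sqp, pl4_zero_left, q4_add, ha, hqh, hB, show q4 (0 : W4) = 0 by decide +kernel], F.zp_pt] at h4
    rw [zpowers_cases F.si.core.ord (hmem _ h4) F.setup.core.ord, e]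
    exact iff_of_false F.pt_ne fun h1 => F.setup.z_ne (left_eq_mul.1 h1)
  · have hf2 : F.Form (0 + (hp (ρ t) 0 + h)) (a + h) (u * (t * u * t⁻¹)) :=
      F.form_mul hu (F.form_conj_swap ht e hu)
    rw [hp_zero, zero_add, zero_add] at hf2
    have h4 := hd (h, a + h) hf2
    rw [show sqp (h, a + h) = (1, 0) by
      simp [sqp, q4_add, ha, hqh, hB, SuzType.pl4_add_right, SuzType.pl4_comm h a, pl4_self,
        CharTwo.add_self_eq_zero], F.zp_z] at h4
    exact iff_of_true (hmem _ h4) e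

theorem exists_frame {c : W4} (hc : c ≠ 0) (hqc : q4 c = 0) {x : G} (hx : x ∈ centralizer ({z} : Set G))
    (hx2 : x * x = 1) (hρ : ∀ w, act (ρ x) w = sieg c w) :
    ∃ g', ∃ F' : Pt z Q v ρ g', F'.Form 0 c x := by
  have hback : ∀ {g' : G} (F' : Pt z Q v ρ g'), x ∈ F'.Qi → F'.Form 0 c x := fun {g'} F' h => by
    have hR : x ∈ F'.R' := ⟨h, hx⟩
    have hf := F'.mem_R'_form hR
    have : F'.phi x = c := by
      show pr (act (ρ x) f0) = c
      rw [hρ, sieg_f0]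
    rwa [this] at hf
  rcases F.sieg_form_sing hc hqc hx hx2 hρ with hf | hf
  · exact ⟨g, F, hf⟩
  obtain ⟨s, hs, hvs, hsp⟩ := F.exists_swap
  have h := F.form_shift' hs hvs hf
  rw [w4_add_self] at h
  have hsp' : s⁻¹ * F.pt * s⁻¹⁻¹ = F.pt * z := by
    have hzs : s⁻¹ * z * s = z := by
      rw [show s⁻¹ * z * s = s⁻¹ * (z * s) by group, ← F.setup.cz hs]; group
    calc s⁻¹ * F.pt * s⁻¹⁻¹ = s⁻¹ * (s * F.pt * s⁻¹ * z) * s⁻¹⁻¹ := by
          rw [hsp, mul_assoc F.pt, F.setup.zz, mul_one]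
      _ = F.pt * (s⁻¹ * z * s) := by simp [mul_assoc]
      _ = _ := by rw [hzs]
  have F' := F.swap_frame (inv_mem hs) hsp'
  obtain ⟨q, hq, hqe⟩ := F.form_mem_Qi h
  replace hqe : g * q * g⁻¹ = s * x * s⁻¹ := hqe
  exact ⟨_, F', hback F' ⟨q, hq, show s⁻¹ * g * q * (s⁻¹ * g)⁻¹ = x by
    rw [show s⁻¹ * g * q * (s⁻¹ * g)⁻¹ = s⁻¹ * (g * q * g⁻¹) * s by group, hqe]; group⟩⟩

end Pt

namespace Pt.Tri

variable {g : G} {F : Pt z Q v ρ g} {t w : G} (T : F.Tri t w)

include T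

theorem t_cz : t ∈ centralizer ({z} : Set G) := F.form_cz T.tf

theorem mul_t_class {x : G} (hx : IsConj z x) (hxt : x * t = t * x) : IsConj t (x * t) := by
  haveI : Fact (Nat.Prime 2) := ⟨Nat.prime_two⟩
  have hxK : x ∈ T.K := mem_cz.2 hxt
  obtain ⟨c, hc⟩ := isConj_iff.1 hx
  have hx2 : x * x = 1 := by rw [← hc]; exact sq_conj F.setup.zz
  have hP := T.isPGroup_cz_t.comap_of_injective T.K.subtype T.K.subtype_injective
  obtain ⟨k, hk⟩ := exists_conj_le_sylow (p := 2) (Q := zpowers (⟨x, hxK⟩ : ↥T.K)) (by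
    rintro ⟨a, i, rfl⟩
    refine ⟨1, Subtype.ext ?_⟩
    show ((⟨x, hxK⟩ : ↥T.K) ^ i) ^ 2 = 1
    rw [← zpow_natCast, ← zpow_mul, mul_comm, zpow_mul, zpow_natCast,
      show (⟨x, hxK⟩ : ↥T.K) ^ 2 = 1 from Subtype.ext (by rw [SubmonoidClass.coe_pow, pow_two]; exact hx2), one_zpow])
    (hP.toSylow T.tS_index)
  have h := mem_subgroupOf.1 (show k * ⟨x, hxK⟩ * k⁻¹ ∈
    (centralizer ({z} : Set G) ⊓ centralizer ({t} : Set G)).subgroupOf T.K from hk _ (mem_zpowers _))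
  have hs := T.zclass_mem h.1 (mem_cz.1 h.2) (hx.trans (isConj_iff.2 ⟨(k : G), rfl⟩))
  have hcl := T.eE_mul_class one_zero_ne hs (sq_conj hx2)
  rw [T.eE_t] at hcl
  refine hcl.trans (isConj_iff.2 ⟨(k : G)⁻¹, ?_⟩)
  show (k : G)⁻¹ * (t * ((k : G) * x * (k : G)⁻¹)) * (k : G)⁻¹⁻¹ = x * t
  have hkt : (k : G) * t = t * (k : G) := mem_cz.1 k.2
  calc (k : G)⁻¹ * (t * ((k : G) * x * (k : G)⁻¹)) * (k : G)⁻¹⁻¹ = (k : G)⁻¹ * (t * (k : G)) * x := by group
    _ = t * x := by rw [← hkt]; group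
    _ = x * t := hxt.symm

/-- A moved point on the line. -/
theorem moved_case {u : G} {π e : W4} (hu : u ∈ centralizer ({z} : Set G)) (hu2 : u * u = 1)
    (huc : IsConj z u) (hr : Rep π e) (hπ : pl4 π c₀ = 1) (hρ : ∀ x, act (ρ u) x = trR π e x) :
    z ∈ zpowers (u * t) := by
  obtain ⟨h6, h2, h3, hsing, hfix⟩ := moved_data π e hr hπ
  have htz := T.t_cz
  have hu1 : u ≠ 1 := fun e1 => by
    obtain ⟨k, hk⟩ := isConj_iff.1 huc
    exact F.setup.z_ne (conj_eq_one_iff.1 (hk.trans e1))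
  have hnc : ¬ IsConj u t := fun h => T.not_conj_z (huc.trans h)
  have hev := even_of_not_isConj (invol_iff.2 ⟨hu2, hu1⟩) T.t_ord hnc
  set d := u * t with hd
  set k := orderOf d / 2 with hk
  have hw := orderOf_pow_half (a := d) hev
  have hdz : d ∈ centralizer ({z} : Set G) := mul_mem hu htz
  have hρd : ∀ x, act (ρ d) x = trR π e (τ x) := fun x => by
    rw [hd, F.setup.ρ_mul u hu t htz, act_mul, hρ, F.form_rho T.tf]; rfl
  have hwz : d ^ k ∈ centralizer ({z} : Set G) := pow_mem hdz k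
  have hρpow : ρ (d ^ k) = ρ d ^ k := F.setup.ρ_pow hdz k
  have h6' : ρ d ^ 6 = 1 := iso_ext fun x => by
    simp only [pow_succ, pow_zero, one_mul, act_mul, hρd, act_one]
    exact h6 x
  have h2' : ρ d ^ 2 ≠ 1 := fun e1 => by
    obtain ⟨x, hx⟩ := h2
    refine hx ?_
    have := congrArg (fun m : Iso6 => act m x) e1
    simpa only [pow_succ, pow_zero, one_mul, act_mul, hρd, act_one] using this
  have hk2 : ρ d ^ (2 * k) = 1 := by
    rw [← F.setup.ρ_pow hdz, hk, Nat.two_mul_div_two_of_even hev, pow_orderOf_eq_one, F.setup.ρ_one]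
  have h3k : 3 ∣ k := by
    have ho : orderOf (ρ d ^ 2) = 3 := by
      haveI : Fact (Nat.Prime 3) := ⟨Nat.prime_three⟩
      exact orderOf_eq_prime (by rw [← pow_mul]; exact h6') h2'
    rw [← ho]
    exact orderOf_dvd_of_pow_eq_one (by rw [← pow_mul]; exact hk2)
  obtain ⟨l, hl⟩ := h3k
  rcases Nat.even_or_odd l with ⟨i, hi⟩ | ⟨i, hi⟩
  · have hwQ : d ^ k ∈ Q := (F.setup.ρ_ker _ hwz).1 (by
      rw [hρpow, hl, hi, show 3 * (i + i) = 6 * i by ring, pow_mul, h6', one_pow])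
    have hcu : Commute (d ^ k) u := commute_pow_half (invol_conj_mul (invol_iff.2 ⟨hu2, hu1⟩) T.t_ord) hev |>
      fun c => by first | exact c | exact c.symm
    have hct : Commute (d ^ k) t := commute_pow_half (invol_conj_mul' (invol_iff.2 ⟨hu2, hu1⟩) T.t_ord) hev |>
      fun c => by first | exact c | exact c.symm
    have hv : v (d ^ k) = 0 := by
      refine hfix _ ((F.setup.v_sq _ hwQ).2 (invol_mul_self hw)) ?_ ?_
      · rw [← hρ, ← F.setup.ρ_act u hu _ hwQ, conj_eq_iff_comm.2 hcu.eq.symm]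
      · show sieg c₀ (v (d ^ k)) = _
        rw [← F.form_rho T.tf, ← F.setup.ρ_act t htz _ hwQ, conj_eq_iff_comm.2 hct.eq.symm]
    refine ⟨(k : ℤ), ?_⟩
    show d ^ (k : ℤ) = z
    rw [zpow_natCast]
    exact ((F.setup.v_ker _ hwQ).1 hv).resolve_left (invol_ne_one hw)
  · exfalso
    have hρw : ρ (d ^ k) = ρ d ^ 3 := by
      rw [hρpow, hl, hi, show 3 * (2 * i + 1) = 6 * i + 3 by ring, pow_add, pow_mul, h6', one_pow, one_mul]
    have hwQ : d ^ k ∉ Q := fun hQ => by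
      obtain ⟨x, hx⟩ := h3
      refine hx ?_
      have := congrArg (fun m : Iso6 => act m x) (hρw.symm.trans (F.setup.ρ_of_mem hQ))
      simpa only [pow_succ, pow_zero, one_mul, act_mul, hρd, act_one] using this
    have hw2 := invol_mul_self hw
    have hcl : IsConj z (d ^ k) := by
      refine F.inQ_class (F.inQ_of_singular T.tf hwz hw2 hwQ fun x => ?_) hw2 (invol_ne_one hw)
      rw [hρw]
      simp only [pow_succ, pow_zero, one_mul, act_mul, hρd]
      exact hsing x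
    have hct : Commute (d ^ k) t := commute_pow_half (invol_conj_mul' (invol_iff.2 ⟨hu2, hu1⟩) T.t_ord) hev |>
      fun c => by first | exact c | exact c.symm
    obtain ⟨j, hj⟩ : Odd k := by rw [hl]; exact (by decide : Odd 3).mul ⟨i, hi⟩
    refine T.not_conj_z ((huc.trans (isConj_iff.2 ⟨d ^ j, ?_⟩)).trans (T.mul_t_class hcl hct.eq).symm)
    have hconj : u * d ^ j * u⁻¹ = (d ^ j)⁻¹ := by
      have h := conj_zpow_of_inverts (invol_conj_mul (invol_iff.2 ⟨hu2, hu1⟩) T.t_ord) (j : ℤ)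
      rwa [zpow_natCast, zpow_neg, zpow_natCast] at h
    have hdt : d * t = u := by rw [hd, mul_assoc, T.t_sq, mul_one]
    calc d ^ j * u * (d ^ j)⁻¹ = d ^ j * u * (u * d ^ j * u⁻¹) := by rw [hconj]
      _ = d ^ j * (u * u) * d ^ j * u⁻¹ := by group
      _ = d ^ j * d ^ j * (d * t) := by
        rw [hu2, mul_one, inv_eq_of_mul_eq_one_right hu2, hdt]
      _ = d ^ k * t := by rw [hj, pow_succ, two_mul, pow_add]; group

/-- The fixed points of the line. -/
theorem line_fixed_case {u : G} {π e : W4} (hu : u ∈ centralizer ({z} : Set G)) (hu2 : u * u = 1)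
    (hr : Rep π e) (hπ : pl4 π c₀ = 0) (hρ : ∀ x, act (ρ u) x = trR π e x) :
    z ∈ zpowers (u * t) ↔ pl4 π a₀ = 1 := by
  obtain ⟨hfix, y, hy⟩ := fixed_data π e hr hπ
  have hl := rep_line π e hr
  obtain ⟨h, hh, hhw⟩ := move_singular hl.2.2.2.1 w0_ne hl.1 qf_w0
  obtain ⟨c, hc, rfl⟩ := F.setup.ρ_surj h hh
  have hl' := act_line (ρ c) hl
  rw [hhw] at hl'
  obtain ⟨hne, hq0, htr⟩ := tr_w0_sieg _ hl'
  have htz := T.t_cz
  have hcz := conj_eq_iff_comm.2 (mem_cz.1 hc)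
  set u' := c * u * c⁻¹ with hu'
  set t' := c * t * c⁻¹ with ht'
  have hu'z : u' ∈ centralizer ({z} : Set G) := mul_mem (mul_mem hc hu) (inv_mem hc)
  have ht'z : t' ∈ centralizer ({z} : Set G) := mul_mem (mul_mem hc htz) (inv_mem hc)
  have hρu : ∀ x, act (ρ u') x = sieg (pr (act (ρ c) (lq e))) x := fun x => by
    obtain ⟨x₁, rfl⟩ : ∃ x₁, act (ρ c) x₁ = x := ⟨act (ρ c)⁻¹ x, by rw [← act_mul, mul_inv_cancel, act_one]⟩
    rw [hu', rho_conj F.setup hc hu, hρ, trR, act_tr, hhw, htr]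
  obtain ⟨g', F', hf⟩ := F.exists_frame hne hq0 hu'z (sq_conj hu2) hρu
  have hw : act (ρ t') w0 = w0 := by
    rw [ht', ← hhw, rho_conj F.setup hc htz, F.form_rho T.tf]
    exact congrArg (act (ρ c)) hfix
  have hnc : ¬ ∀ x, act (ρ t') (sieg (pr (act (ρ c) (lq e))) x) =
      sieg (pr (act (ρ c) (lq e))) (act (ρ t') x) := fun hall => by
    refine hy (act_injective (ρ c) ?_)
    have h := hall (act (ρ c) y)
    rw [← htr, ← htr, ht', rho_conj F.setup hc htz, ← hhw, ← act_tr, ← act_tr, rho_conj F.setup hc htz,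
      F.form_rho T.tf, F.form_rho T.tf] at h
    exact h
  have key := F'.fixed_case hf (sq_conj hu2) ht'z (sq_conj T.t_sq) hw hnc
  have e1 : z ∈ zpowers (u * t) ↔ z ∈ zpowers (u' * t') := by
    rw [show u' * t' = c * (u * t) * c⁻¹ by rw [hu', ht']; group]
    conv_rhs => rw [← hcz]
    exact conj_mem_zpowers_iff.symm
  rw [e1, key]
  set j := c⁻¹ * F'.pt * c with hj
  have hjQ : j ∈ Q := by
    have h := F.setup.norm (inv_mem hc) F'.mem
    rwa [inv_inv] at h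
  have hvj : v j = lp π e := by
    refine act_injective (ρ c) ?_
    rw [← F.setup.ρ_act c hc j hjQ, hj, show c * (c⁻¹ * F'.pt * c) * c⁻¹ = F'.pt by simp [mul_assoc], F'.val, hhw]
  have hjR : j ∈ F.R := F.mem_R.2 ⟨hjQ, by rw [hvj]; exact yc_vmk _ _ _⟩
  have hjf : F.Form (π, (0 : W4)).1 (π, (0 : W4)).2 j := by
    have h := F.mem_R_form hjR
    rwa [hvj, show pr (lp π e) = π from pr_vmk _ _ _] at h
  have hswap : t' * F'.pt * t'⁻¹ = F'.pt * z ↔ ¬ (t * j = j * t) := by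
    have hor : t' * F'.pt * t'⁻¹ = F'.pt ∨ t' * F'.pt * t'⁻¹ = F'.pt * z := F'.fix_w0 ht'z hw
    have hiff : t' * F'.pt * t'⁻¹ = F'.pt ↔ t * j = j * t := by
      rw [← conj_eq_iff_comm, hj, ht']
      constructor
      · intro h
        calc t * (c⁻¹ * F'.pt * c) * t⁻¹ = c⁻¹ * (c * t * c⁻¹ * F'.pt * (c * t * c⁻¹)⁻¹) * c := by group
          _ = c⁻¹ * F'.pt * c := by rw [h]
      · intro h
        calc c * t * c⁻¹ * F'.pt * (c * t * c⁻¹)⁻¹ = c * (t * (c⁻¹ * F'.pt * c) * t⁻¹) * c⁻¹ := by group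
          _ = F'.pt := by rw [h]; simp [mul_assoc]
    constructor
    · intro h h'
      rw [hiff.2 h'] at h
      exact F.setup.z_ne (left_eq_mul.1 h)
    · exact fun h => hor.resolve_left fun h' => h (hiff.1 h')
  rw [hswap, eq_comm, F.form_commute (p' := p0) hjf T.tf, fixed_swap π hr.1 hπ]
  rcases two_cases (pl4 π a₀) with h0 | h0 <;> rw [h0] <;> decide

/-- The inner part. -/
theorem inner_case {u : G} {p : W4 × W4} (hu : F.Form p.1 p.2 u) (hu2 : u * u = 1) (huz : u ≠ z)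
    (hcl : IsConj z u) : z ∈ zpowers (u * t) ↔ cmp p p0 = (1, 0) := by
  have hd2 : u * t * (u * t) = F.zp (cmp p p0) := by
    have h := F.form_comm (p' := p0) hu T.tf
    have ht' : t⁻¹ = t := invol_inv T.t_ord
    have h' : u * t = F.zp (cmp p p0) * (t * u) := h
    calc u * t * (u * t) = F.zp (cmp p p0) * (t * u) * (u * t) := by nth_rewrite 1 [h']; rfl
      _ = F.zp (cmp p p0) * (t * (u * u) * t) := by group
      _ = F.zp (cmp p p0) := by rw [hu2, mul_one, T.t_sq, mul_one]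
  by_cases hc0 : cmp p p0 = 0
  · refine iff_of_false (fun hz => ?_) (by rw [hc0]; decide)
    rw [hc0, F.zp_zero] at hd2
    by_cases h1 : u * t = 1
    · exact T.not_conj_z ((eq_inv_of_mul_eq_one_left h1).trans (invol_inv T.t_ord) ▸ hcl)
    have := (zpowers_cases (invol_iff.2 ⟨hd2, h1⟩) (mem_zpowers _) F.setup.core.ord).1 hz
    refine F.form_notMem T.tf ref_pair.2.2.2.2 ?_
    have hcomm : u * t = t * u := mul_comm_of_sq hu2 T.t_sq hd2
    exfalso
    refine T.not_conj_z (((T.mul_t_class hcl hcomm).trans ?_).symm)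
    rw [this]
  · have hne : F.zp (cmp p p0) ≠ 1 := fun e => hc0 (F.zp_inj (e.trans F.zp_zero.symm))
    rw [zpowers_cases (invol_iff.2 ⟨F.zp_sq _, hne⟩)
      (hd2 ▸ mul_mem (mem_zpowers _) (mem_zpowers _)) F.setup.core.ord]
    exact ⟨fun e => F.zp_inj (e.trans F.zp_z.symm), fun e => by rw [e]; exact F.zp_z⟩

/-- The elements of `Q`. -/
theorem q_case {u : G} (hu : u ∈ Q) (hu2 : u * u = 1) (hu1 : u ≠ 1) (huz : u ≠ z) :
    z ∈ zpowers (u * t) ↔ yc (v u) = 1 ∨ cmp (pr (v u), 0) p0 = (1, 0) := by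
  have hq : qf (v u) = 0 := (F.setup.v_sq u hu).2 hu2
  rcases two_cases (yc (v u)) with hy | hy
  · have hR : u ∈ F.R := F.mem_R.2 ⟨hu, hy⟩
    rw [T.inner_case (p := (pr (v u), 0)) (F.mem_R_form hR) hu2 huz (F.class_of_mem_Q hu hu2 hu1)]
    simp [hy]
  · refine iff_of_true ?_ (Or.inl hy)
    have htz := T.t_cz
    have hs : t * u * t⁻¹ ∈ Q := F.setup.norm htz hu
    have hd : u * t * (u * t) = u * (t * u * t⁻¹) := by rw [invol_inv T.t_ord]; group
    have hsq : u * (t * u * t⁻¹) * (u * (t * u * t⁻¹)) ≠ 1 := fun e => by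
      have h := (F.setup.v_sq _ (mul_mem hu hs)).2 e
      rw [F.setup.v_mul u hu _ hs, F.setup.ρ_act t htz u hu, F.form_rho T.tf, q_part_moved _ hq hy] at h
      exact one_ne_zero h
    have hz := (F.setup.core.sq_eq _ (mul_mem hu hs)).resolve_left hsq
    rw [← hd] at hz
    rw [← hz]
    exact mul_mem (mul_mem (mem_zpowers _) (mem_zpowers _)) (mul_mem (mem_zpowers _) (mem_zpowers _))

/-- The count at the reference involution. -/
theorem card_fibre : Nat.card {u : G // IsConj z u ∧ z ∈ zpowers (u * t)} = 236 := by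
  classical
  haveI := Fintype.ofFinite G
  have htz := T.t_cz
  have hsq : ∀ u, IsConj z u → u * u = 1 ∧ u ≠ 1 := fun u h => by
    obtain ⟨k, rfl⟩ := isConj_iff.1 h
    exact ⟨sq_conj F.setup.zz, fun e => F.setup.z_ne (conj_eq_one_iff.1 e)⟩
  have hcz : ∀ u, IsConj z u → z ∈ zpowers (u * t) → u ∈ centralizer ({z} : Set G) := fun u hu hz => by
    obtain ⟨i, hi⟩ := hz
    replace hi : (u * t) ^ i = z := hi
    have h := conj_zpow_of_inverts (invol_conj_mul (invol_iff.2 (hsq u hu)) T.t_ord) i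
    rw [zpow_neg, hi, invol_inv F.setup.core.ord] at h
    exact mem_cz.2 (mul_inv_eq_iff_eq_mul.1 h)
  have huz : ∀ u, z ∈ zpowers (u * t) → u ≠ z := fun u h e => by
    rw [e] at h
    have h2 : z * t * (z * t) = 1 := by
      rw [show z * t * (z * t) = z * (t * z) * t by group, mem_cz.1 htz, ← mul_assoc z, F.setup.zz, one_mul,
        T.t_sq]
    have h1 : z * t ≠ 1 := fun e => T.t_ne_z (by
      rw [← invol_inv F.setup.core.ord]; exact (inv_eq_of_mul_eq_one_right e).symm)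
    have h3 := (zpowers_cases (invol_iff.2 ⟨h2, h1⟩) (mem_zpowers _) F.setup.core.ord).1 h
    exact T.t_ne_one (mul_eq_left.1 h3)
  let A := fun u : G => u ∈ Q ∧
    v u ∈ (Finset.univ.filter fun x : Vec => qf x = 0 ∧ x ≠ 0 ∧ (yc x = 1 ∨ cmp (pr x, 0) p0 = (1, 0)))
  let B := fun u : G => ∃ p ∈ (Finset.univ.filter fun e : W4 × W4 =>
    q4 e.2 = 0 ∧ e.2 ≠ 0 ∧ (e.1 = 0 ∨ e.1 = e.2) ∧ cmp e p0 = (1, 0)), F.Form p.1 p.2 u
  let P := Finset.univ.filter fun e : W4 × W4 => Rep e.1 e.2 ∧ (pl4 e.1 c₀ = 1 ∨ pl4 e.1 a₀ = 1)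
  let C := fun e : P => {u : G // u ∈ centralizer ({z} : Set G) ∧ u * u = 1 ∧
    ∀ x, act (ρ u) x = tr (lp e.1.1 e.1.2) (lq e.1.2) x}
  have hAi : ∀ u, A u → IsConj z u ∧ z ∈ zpowers (u * t) := by
    rintro u ⟨hu, hm⟩
    simp only [Finset.mem_filter, Finset.mem_univ, true_and] at hm
    obtain ⟨hq, h0, hc⟩ := hm
    have hu1 : u ≠ 1 := fun e => h0 (by rw [e, F.setup.v_one])
    have hne : u ≠ z := fun e => h0 (by rw [e, F.setup.v_z])
    have hu2 := (F.setup.v_sq u hu).1 hq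
    exact ⟨F.class_of_mem_Q hu hu2 hu1, (T.q_case hu hu2 hu1 hne).2 hc⟩
  have hBi : ∀ u, B u → IsConj z u ∧ z ∈ zpowers (u * t) ∧ u ∉ Q ∧ act (ρ u) w0 = w0 := by
    rintro u ⟨p, hp, hf⟩
    simp only [Finset.mem_filter, Finset.mem_univ, true_and] at hp
    obtain ⟨hq, h0, ha, hc⟩ := hp
    have hnQ := F.form_notMem hf h0
    have hu1 : u ≠ 1 := fun e => hnQ (e ▸ one_mem Q)
    have hB0 : pl4 p.1 p.2 = 0 := by
      rcases ha with e | e <;> rw [e]
      · exact pl4_zero_left _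
      · exact pl4_self _
    have hqa : q4 p.1 = 0 := by
      rcases ha with e | e <;> rw [e]
      · decide +kernel
      · exact hq
    have hu2 : u * u = 1 := by rw [F.form_sq hf, hqa, hq, hB0, add_zero, F.zi_zero]
    have hcl := F.form_sing_class hf hu2 hu1 hq hB0
    exact ⟨hcl, (T.inner_case hf hu2 (fun e => hnQ (e ▸ F.setup.core.mem)) hcl).2 hc, hnQ,
      by rw [F.form_rho hf]; exact sieg_w0 _⟩
  have hCi : ∀ (e : P) (u : C e), IsConj z u.1 ∧ z ∈ zpowers (u.1 * t) ∧ u.1 ∉ Q ∧ act (ρ u.1) w0 ≠ w0 := by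
    rintro ⟨⟨π, f⟩, hm⟩ ⟨u, huz', hu2, hρ⟩
    simp only [P, Finset.mem_filter, Finset.mem_univ, true_and] at hm
    obtain ⟨hr, hcase⟩ := hm
    have hw : act (ρ u) w0 ≠ w0 := by rw [hρ]; exact trR_w0 π f hr
    have hnQ : u ∉ Q := fun h => hw (by rw [F.setup.ρ_of_mem h, act_one])
    have hu1 : u ≠ 1 := fun e => hnQ (e ▸ one_mem Q)
    have hcl : IsConj z u := F.inQ_class (F.inQ_of_singular T.tf huz' hu2 hnQ fun x => by
      rw [hρ]; exact tr_singular _ _ _ (rep_line π f hr)) hu2 hu1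
    refine ⟨hcl, ?_, hnQ, hw⟩
    rcases two_cases (pl4 π c₀) with h | h
    · exact (T.line_fixed_case huz' hu2 hr h hρ).2 (hcase.resolve_left fun e =>
        zero_ne_one (h.symm.trans e))
    · exact T.moved_case huz' hu2 hcl hr h hρ
  let f : {u : G // A u} ⊕ ({u : G // B u} ⊕ Σ e : P, C e) → {u : G // IsConj z u ∧ z ∈ zpowers (u * t)}
    | Sum.inl u => ⟨u.1, hAi u.1 u.2⟩
    | Sum.inr (Sum.inl u) => ⟨u.1, (hBi u.1 u.2).1, (hBi u.1 u.2).2.1⟩
    | Sum.inr (Sum.inr q) => ⟨q.2.1, (hCi q.1 q.2).1, (hCi q.1 q.2).2.1⟩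
  have hf : Function.Bijective f := by
    refine ⟨?_, ?_⟩
    · rintro (a | a | ⟨e, a⟩) (b | b | ⟨e', b⟩) h <;> replace h := congrArg Subtype.val h
      · exact congrArg Sum.inl (Subtype.ext h)
      · exact absurd ((show a.1 = b.1 from h) ▸ a.2.1) (hBi b.1 b.2).2.2.1
      · exact absurd ((show a.1 = b.1 from h) ▸ a.2.1) (hCi e' b).2.2.1
      · exact absurd ((show a.1 = b.1 from h).symm ▸ b.2.1) (hBi a.1 a.2).2.2.1
      · exact congrArg (fun x => Sum.inr (Sum.inl x)) (Subtype.ext h)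
      · exact absurd ((show a.1 = b.1 from h) ▸ (hBi a.1 a.2).2.2.2) (hCi e' b).2.2.2
      · exact absurd ((show a.1 = b.1 from h).symm ▸ b.2.1) (hCi e a).2.2.1
      · exact absurd ((show a.1 = b.1 from h).symm ▸ (hBi b.1 b.2).2.2.2) (hCi e a).2.2.2
      · obtain ⟨a, ha⟩ := a
        obtain ⟨b, hb⟩ := b
        obtain rfl : a = b := h
        obtain ⟨e1, e2⟩ := trR_inj e.1.1 e.1.2 ((Finset.mem_filter.1 e.2).2).1 e'.1.1 e'.1.2
          ((Finset.mem_filter.1 e'.2).2).1 fun x => (ha.2.2 x).symm.trans (hb.2.2 x)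
        obtain rfl : e = e' := Subtype.ext (Prod.ext e1 e2)
        rfl
    · rintro ⟨u, hu, hz⟩
      have huc := hcz u hu hz
      have hne := huz u hz
      obtain ⟨hu2, hu1⟩ := hsq u hu
      by_cases hQ : u ∈ Q
      · refine ⟨Sum.inl ⟨u, hQ, ?_⟩, rfl⟩
        simp only [Finset.mem_filter, Finset.mem_univ, true_and]
        exact ⟨(F.setup.v_sq u hQ).2 hu2, F.setup.v_ne hQ hu1 hne, (T.q_case hQ hu2 hu1 hne).1 hz⟩
      have hin : F.InQ u := (F.classify huc hu2 hQ).resolve_left fun h =>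
        T.not_conj_z (hu.trans (F.cconj_isConj (h t T.tf)))
      obtain ⟨p, q, hl, hρ⟩ := F.inQ_line hin huc hu2 hQ
      rcases line_cases hl with ⟨c, hc0, hqc, htr⟩ | ⟨π, e, hr, htr⟩
      · obtain ⟨a, hf, ha⟩ : ∃ a, F.Form a c u ∧ (a = 0 ∨ a = c) := by
          rcases F.sieg_form_sing hc0 hqc huc hu2 (fun x => (hρ x).trans (htr x)) with h | h
          · exact ⟨0, h, Or.inl rfl⟩
          · exact ⟨c, h, Or.inr rfl⟩
        refine ⟨Sum.inr (Sum.inl ⟨u, (a, c), ?_, hf⟩), rfl⟩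
        simp only [Finset.mem_filter, Finset.mem_univ, true_and]
        exact ⟨hqc, hc0, ha, (T.inner_case (p := (a, c)) hf hu2 hne hu).1 hz⟩
      · have hρ' : ∀ x, act (ρ u) x = trR π e x := fun x => (hρ x).trans (htr x)
        have hm : pl4 π c₀ = 1 ∨ pl4 π a₀ = 1 := by
          rcases two_cases (pl4 π c₀) with h | h
          · exact Or.inr ((T.line_fixed_case huc hu2 hr h hρ').1 hz)
          · exact Or.inl h
        exact ⟨Sum.inr (Sum.inr ⟨⟨(π, e), by
          simp only [P, Finset.mem_filter, Finset.mem_univ, true_and]; exact ⟨hr, hm⟩⟩, u, huc, hu2, hρ'⟩), rfl⟩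
  rw [← Nat.card_eq_of_bijective f hf, Nat.card_sum, Nat.card_sum, Nat.card_sigma]
  have hC8 : ∀ e : P, Nat.card (C e) = 8 := fun e =>
    F.card_line_lifts (rep_line _ _ ((Finset.mem_filter.1 e.2).2).1)
  rw [F.setup.card_lifts, q_part_count, F.card_forms, inner_part_count,
    Finset.sum_congr rfl (fun e _ => hC8 e), Finset.sum_const, Finset.card_univ, Fintype.card_coe, rep_counted]
  rfl

end Pt.Tri

end

end CfsgLib.Spor.SuzType
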