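import Cfsg.Agent.Lib.Spor.SuzType.Basic

/-!
# The two extraspecial groups at a pair of commuting conjugates of the involution
-/

set_option autoImplicit false
set_option synthInstance.maxSize 1024

namespace CfsgLib.Spor.SuzType

open Subgroup CfsgLib.Spor.CoOneType
open scoped commutatorElement

noncomputable section

variable {G : Type*} [Group G] [Finite G] {z : G} {Q : Subgroup G} {v : G → Vec} {ρ : G → Iso6}

theorem cubic (x y w : Vec) :
    qf (x + y + w) + qf (x + y) + qf (x + w) + qf (y + w) + qf x + qf y + qf w = 0 := by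
  simp only [SuzType.qf_add, SuzType.pl_add_left]
  linear_combination (2 * qf x + 2 * qf y + 2 * qf w + pl x y + pl x w + pl y w) * CharTwo.two_eq_zero (R := ZMod 2)

theorem conj_map_eq (S : Setup z Q v ρ) {g k : G} (h : g * z * g⁻¹ = k * z * k⁻¹) :
    Q.map (MulAut.conj g).toMonoidHom = Q.map (MulAut.conj k).toMonoidHom := by
  have hc : k⁻¹ * g ∈ centralizer ({z} : Set G) := mem_cz.2 (conj_eq_iff_comm.1
    (by rw [show k⁻¹ * g * z * (k⁻¹ * g)⁻¹ = k⁻¹ * (g * z * g⁻¹) * k by group, h]; group))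
  refine eq_of_le_of_card_ge ?_ (by rw [card_map_of_injective (show Function.Injective (MulAut.conj g).toMonoidHom from (MulAut.conj g).injective),
    card_map_of_injective (show Function.Injective (MulAut.conj k).toMonoidHom from (MulAut.conj k).injective)])
  rintro _ ⟨a, ha, rfl⟩
  exact ⟨k⁻¹ * g * a * (k⁻¹ * g)⁻¹, S.norm hc ha,
    show k * (k⁻¹ * g * a * (k⁻¹ * g)⁻¹) * k⁻¹ = g * a * g⁻¹ by group⟩

theorem mutual_mem (S : Setup z Q v ρ) {g : G} (hgQ : g * z * g⁻¹ ∈ Q) (hne : g * z * g⁻¹ ≠ z) :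
    z ∈ Q.map (MulAut.conj g).toMonoidHom :=
  LargeQ.centre_mem_conj Q z S.core.ext S.core.center_iff S.core.ord S.core.cent S.core.norm
    (by rw [S.card]; norm_num) g hne hgQ

/-- The same between two conjugates. -/
theorem mutual_conj (S : Setup z Q v ρ) {j k : G} (h : j * z * j⁻¹ ∈ Q.map (MulAut.conj k).toMonoidHom)
    (hne : j * z * j⁻¹ ≠ k * z * k⁻¹) : k * z * k⁻¹ ∈ Q.map (MulAut.conj j).toMonoidHom := by
  have e : j * k⁻¹ * (k * z * k⁻¹) * (j * k⁻¹)⁻¹ = j * z * j⁻¹ := by group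
  obtain ⟨y, ⟨a, ha, rfl⟩, hy⟩ := mutual_mem (S.conj k) (g := j * k⁻¹) (by rw [e]; exact h) (by rw [e]; exact hne)
  exact ⟨a, ha, Eq.trans (show j * a * j⁻¹ = j * k⁻¹ * (k * a * k⁻¹) * (j * k⁻¹)⁻¹ by group) hy⟩

/-- A non-central involution of the extraspecial group at the reference point, with a conjugating element. -/
structure Pt (z : G) (Q : Subgroup G) (v : G → Vec) (ρ : G → Iso6) (g : G) : Prop where
  setup : Setup z Q v ρ
  mem : g * z * g⁻¹ ∈ Q
  val : v (g * z * g⁻¹) = w0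

namespace Pt

variable {g : G} (F : Pt z Q v ρ g)

/-- The second involution. -/
abbrev pt (_F : Pt z Q v ρ g) : G := g * z * g⁻¹

/-- Its extraspecial group. -/
abbrev Qi (_F : Pt z Q v ρ g) : Subgroup G := Q.map (MulAut.conj g).toMonoidHom

/-- The first part. -/
def R (F : Pt z Q v ρ g) : Subgroup G := Q ⊓ centralizer ({F.pt} : Set G)

/-- The second part. -/
def R' (F : Pt z Q v ρ g) : Subgroup G := F.Qi ⊓ centralizer ({z} : Set G)

/-- The coordinates at the second involution. -/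
abbrev vi (_F : Pt z Q v ρ g) : G → Vec := fun a => v (g⁻¹ * a * g)

include F

theorem si : Setup F.pt F.Qi F.vi (fun c => ρ (g⁻¹ * c * g)) := F.setup.conj g

theorem pt_ne : F.pt ≠ z := fun e => w0_ne (by rw [← F.val, show g * z * g⁻¹ = z from e, F.setup.v_z])

theorem pt_ne_one : F.pt ≠ 1 := F.si.z_ne

theorem pp : F.pt * F.pt = 1 := F.si.zz

theorem pz : F.pt * z = z * F.pt := F.setup.cz F.mem

theorem z_mem : z ∈ F.Qi := mutual_mem F.setup F.mem F.pt_ne

theorem mem_R {q : G} : q ∈ F.R ↔ q ∈ Q ∧ yc (v q) = 0 := by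
  refine and_congr_right fun hq => ?_
  show q ∈ centralizer ({F.pt} : Set G) ↔ _
  rw [mem_cz, ← pl_w0, ← F.val]
  exact ((F.setup.v_comm q hq _ F.mem)).symm

theorem mem_R' {r : G} : r ∈ F.R' ↔ r ∈ F.Qi ∧ r * z = z * r := and_congr_right fun _ => mem_cz

theorem R'_cz {r : G} (hr : r ∈ F.R') : r ∈ centralizer ({z} : Set G) := hr.2

theorem R'_ci {r : G} (hr : r ∈ F.R') : r ∈ centralizer ({F.pt} : Set G) := F.si.le hr.1

theorem R_surj (u : W4) : ∃ q ∈ F.R, pr (v q) = u := by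
  obtain ⟨q, hq, e⟩ := F.setup.v_surj (vmk 0 0 u)
  exact ⟨q, F.mem_R.2 ⟨hq, by rw [e]; rfl⟩, by rw [e, pr_vmk]⟩

theorem v_of_R {q : G} (hq : q ∈ F.R) : v q = vmk (xc (v q)) 0 (pr (v q)) := by
  conv_lhs => rw [← vmk_eta (v q), (F.mem_R.1 hq).2]

/-- The elements of the four group. -/
def zi (_F : Pt z Q v ρ g) (s t : ZMod 2) : G := z ^ s.val * (g * z * g⁻¹) ^ t.val

theorem zi_zero : F.zi 0 0 = 1 := by simp [zi]

theorem zi_cases (s t : ZMod 2) :
    F.zi s t = 1 ∨ F.zi s t = z ∨ F.zi s t = F.pt ∨ F.zi s t = z * F.pt := by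
  rcases two_cases s with rfl | rfl <;> rcases two_cases t with rfl | rfl <;> simp [zi, ZMod.val_one]

theorem zi_mem (s t : ZMod 2) : F.zi s t ∈ Q ∧ F.zi s t ∈ F.Qi :=
  ⟨mul_mem (pow_mem F.setup.core.mem _) (pow_mem F.mem _), mul_mem (pow_mem F.z_mem _) (pow_mem F.si.core.mem _)⟩

theorem zi_comm {x : G} (h1 : x ∈ centralizer ({z} : Set G)) (h2 : x ∈ centralizer ({F.pt} : Set G)) (s t : ZMod 2) :
    x * F.zi s t = F.zi s t * x :=
  (((show Commute x z from mem_cz.1 h1).pow_right _).mul_right ((show Commute x F.pt from mem_cz.1 h2).pow_right _)).eq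

theorem zi_add (s t s' t' : ZMod 2) : F.zi s t * F.zi s' t' = F.zi (s + s') (t + t') := by
  have hc : Commute (F.pt ^ t.val) (z ^ s'.val) := (show Commute F.pt z from F.pz).pow_pow _ _
  have h : ∀ (x : G), x * x = 1 → ∀ a b : ZMod 2, x ^ a.val * x ^ b.val = x ^ (a + b).val := by
    intro x hx a b
    rcases two_cases a with rfl | rfl <;> rcases two_cases b with rfl | rfl <;>
      simp [ZMod.val_one, CharTwo.add_self_eq_zero, hx]
  calc F.zi s t * F.zi s' t' = z ^ s.val * (F.pt ^ t.val * z ^ s'.val) * F.pt ^ t'.val := by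
        simp only [zi, mul_assoc]
    _ = z ^ s.val * z ^ s'.val * (F.pt ^ t.val * F.pt ^ t'.val) := by rw [hc.eq]; simp only [mul_assoc]
    _ = _ := by rw [h z F.setup.zz, h F.pt F.pp]; rfl

theorem zi_inj {s t s' t' : ZMod 2} (e : F.zi s t = F.zi s' t') : s = s' ∧ t = t' := by
  have hv : ∀ s t, v (F.zi s t) = t • w0 := fun s t => by
    rw [zi, F.setup.v_mul _ (pow_mem F.setup.core.mem _) _ (pow_mem F.mem _)]
    rcases two_cases s with rfl | rfl <;> rcases two_cases t with rfl | rfl <;>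
      simp [ZMod.val_one, F.setup.v_one, F.setup.v_z, F.val]
  have ht : t = t' := by
    have h := congrArg v e
    rw [hv, hv] at h
    rcases two_cases t with rfl | rfl <;> rcases two_cases t' with rfl | rfl <;>
      first | rfl | (simp at h; exact absurd h w0_ne) | (simp at h; exact absurd h.symm w0_ne)
  subst ht
  have h2 := mul_right_cancel (show z ^ s.val * F.pt ^ t.val = z ^ s'.val * F.pt ^ t.val from e)
  refine ⟨?_, rfl⟩
  rcases two_cases s with rfl | rfl <;> rcases two_cases s' with rfl | rfl <;>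
    first | rfl | (simp [ZMod.val_one] at h2; exact absurd h2 F.setup.z_ne) |
      (simp [ZMod.val_one] at h2; exact absurd h2.symm F.setup.z_ne)

theorem zi_R (s t : ZMod 2) : F.zi s t ∈ F.R := by
  refine ⟨(F.zi_mem s t).1, F.si.le (F.zi_mem s t).2⟩

theorem zi_R' (s t : ZMod 2) : F.zi s t ∈ F.R' := ⟨(F.zi_mem s t).2, F.setup.le (F.zi_mem s t).1⟩

theorem zi_of_zero {q : G} (hq : q ∈ F.R) (h : pr (v q) = 0) : ∃ s t, q = F.zi s t := by
  have hv := F.v_of_R hq
  rw [h] at hv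
  rcases two_cases (xc (v q)) with e | e <;> rw [e] at hv
  · rcases (F.setup.v_ker q hq.1).1 (hv.trans (by decide +kernel)) with e | e
    · exact ⟨0, 0, by rw [F.zi_zero, e]⟩
    · exact ⟨1, 0, by simp [zi, ZMod.val_one, e]⟩
  · rcases (F.setup.v_eq hq.1 F.mem).1 (hv.trans F.val.symm) with e | e
    · exact ⟨0, 1, by simp [zi, ZMod.val_one, e]⟩
    · exact ⟨1, 1, by rw [e]; simp [zi, ZMod.val_one]; exact F.pz⟩

theorem stab_lift {h : Iso6} (hh : h ∈ Om) (hw : act h w0 = w0) :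
    ∃ c, c ∈ centralizer ({z} : Set G) ∧ c ∈ centralizer ({F.pt} : Set G) ∧ ρ c = h := by
  obtain ⟨c, hc, rfl⟩ := F.setup.ρ_surj h hh
  have hv : v (c * F.pt * c⁻¹) = v F.pt := by rw [F.setup.ρ_act c hc _ F.mem, F.val, hw]
  rcases (F.setup.v_eq (F.setup.norm hc F.mem) F.mem).1 hv with e | e
  · exact ⟨c, hc, mem_cz.2 (conj_eq_iff_comm.1 e), rfl⟩
  · obtain ⟨q, hq, eq⟩ := F.setup.exists_moving F.mem (by rw [F.val]; exact w0_ne)
    refine ⟨q * c, mul_mem (F.setup.le hq) hc, mem_cz.2 (conj_eq_iff_comm.1 ?_), ?_⟩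
    · calc q * c * F.pt * (q * c)⁻¹ = q * (c * F.pt * c⁻¹) * q⁻¹ := by group
        _ = (q * F.pt * q⁻¹) * (q * z * q⁻¹) := by rw [e]; group
        _ = F.pt := by rw [eq, F.setup.cz hq, mul_inv_cancel_right, mul_assoc, F.setup.zz, mul_one]
    · rw [F.setup.ρ_mul q (F.setup.le hq) c hc, F.setup.ρ_of_mem hq, one_mul]

theorem word_lift (w : List (Fin 2)) :
    ∃ c, c ∈ centralizer ({z} : Set G) ∧ c ∈ centralizer ({F.pt} : Set G) ∧ ρ c = E (σw w) :=
  F.stab_lift (E_mem w) (by rw [act_E]; show vmk 1 0 (act4 (σw w) (pr w0)) = vmk 1 0 0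
                            rw [show pr w0 = 0 from by decide +kernel, act4, Matrix.mulVec_zero])

theorem norm_R {c q : G} (hc : c ∈ centralizer ({z} : Set G)) (hci : c ∈ centralizer ({F.pt} : Set G))
    (hq : q ∈ F.R) : c * q * c⁻¹ ∈ F.R :=
  ⟨F.setup.norm hc hq.1,
    Subgroup.mul_mem _ (Subgroup.mul_mem _ hci hq.2) (Subgroup.inv_mem _ hci)⟩

theorem norm_R' {c r : G} (hc : c ∈ centralizer ({z} : Set G)) (hci : c ∈ centralizer ({F.pt} : Set G))
    (hr : r ∈ F.R') : c * r * c⁻¹ ∈ F.R' :=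
  ⟨F.si.norm hci hr.1, Subgroup.mul_mem _ (Subgroup.mul_mem _ hc hr.2) (Subgroup.inv_mem _ hc)⟩

theorem inter_comm {a b : G} (ha : a ∈ Q) (ha' : a ∈ F.Qi) (hb : b ∈ Q) (hb' : b ∈ F.Qi) : a * b = b * a := by
  rcases F.setup.core.comm_eq a ha b hb with e | e
  · exact mul_inv_eq_iff_eq_mul.1 (mul_inv_eq_one.1 e)
  · rcases F.si.core.comm_eq a ha' b hb' with e' | e'
    · exact absurd (e.symm.trans e') F.setup.z_ne
    · exact absurd (e'.symm.trans e) F.pt_ne

theorem inter_sq {a : G} (ha : a ∈ Q) (ha' : a ∈ F.Qi) : a * a = 1 := by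
  rcases F.setup.core.sq_eq a ha with e | e
  · exact e
  · rcases F.si.core.sq_eq a ha' with e' | e'
    · exact absurd (e.symm.trans e') F.setup.z_ne
    · exact absurd (e'.symm.trans e) F.pt_ne

/-- The two extraspecial groups meet in the four group. -/
theorem inter {a : G} (ha : a ∈ Q) (ha' : a ∈ F.Qi) : ∃ s t, a = F.zi s t := by
  have haR : a ∈ F.R := ⟨ha, F.si.le ha'⟩
  refine F.zi_of_zero haR ?_
  by_contra hu
  set u := pr (v a)
  have hq : q4 u = 0 := by
    have h := (F.setup.v_sq a ha).2 (F.inter_sq ha ha')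
    rw [F.v_of_R haR, qf_vmk] at h
    simpa using h
  obtain ⟨k, hk⟩ := move_singular4 u hq hu
  obtain ⟨c, hc, hci, hρ⟩ := F.word_lift [k]
  have hb : pr (v (c * a * c⁻¹)) = σf k u := by
    rw [F.setup.ρ_act c hc a ha, hρ, act_E, pr_vmk, act4_σw]; rfl
  have hbQ : c * a * c⁻¹ ∈ Q := F.setup.norm hc ha
  have hbQi : c * a * c⁻¹ ∈ F.Qi := F.si.norm hci ha'
  have hbR := F.norm_R hc hci haR
  have h0 := (F.setup.v_comm a ha _ hbQ).2 (F.inter_comm ha ha' hbQ hbQi)
  change pl (v a) (v (c * a * c⁻¹)) = 0 at h0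
  rw [F.v_of_R haR, F.v_of_R hbR, pl_vmk, hb] at h0
  simp only [mul_zero, zero_mul, zero_add] at h0
  have hq' : q4 (σf k u) = 0 := by rw [← act4_σ, q4_act4]; exact hq
  rcases sing_pair u _ hq hq' h0 hu with e | e
  · refine hu ?_
    have h2 : act4 ((σ k)⁻¹) (act4 (σ k) u) = u := by rw [← act4_mul, inv_mul_cancel, act4_one]
    rw [act4_σ, e] at h2
    rw [← h2]; exact Matrix.mulVec_zero _
  · exact hk e

/-- The parameter of an element of the second part. -/
def phi (_F : Pt z Q v ρ g) (r : G) : W4 := pr (act (ρ r) f0)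

theorem comm_mem {q r : G} (hq : q ∈ F.R) (hr : r ∈ F.R') : r * q * r⁻¹ * q⁻¹ ∈ Q ∧ r * q * r⁻¹ * q⁻¹ ∈ F.Qi :=
  ⟨mul_mem (F.setup.norm hr.2 hq.1) (inv_mem hq.1), by
    rw [show r * q * r⁻¹ * q⁻¹ = r * (q * r⁻¹ * q⁻¹) by group]
    exact mul_mem hr.1 (F.si.norm hq.2 (inv_mem hr.1))⟩

theorem rho_R' {r : G} (hr : r ∈ F.R') : ∀ x, act (ρ r) x = sieg (F.phi r) x := by
  refine eq_sieg ?_ fun x hx => ?_
  · rw [← F.val, ← F.setup.ρ_act r hr.2 _ F.mem, conj_eq_iff_comm.2 (mem_cz.1 (F.R'_ci hr))]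
  · obtain ⟨q, hq, rfl⟩ := F.setup.v_surj x
    have hqR : q ∈ F.R := F.mem_R.2 ⟨hq, hx⟩
    obtain ⟨hd, hd'⟩ := F.comm_mem hqR hr
    obtain ⟨s, t, e⟩ := F.inter hd hd'
    have e2 : r * q * r⁻¹ = F.zi s t * q := by rw [← e]; group
    rw [← F.setup.ρ_act r hr.2 q hq, e2, F.setup.v_mul _ (F.zi_mem s t).1 q hq]
    have hz0 : v (F.zi s t) = vmk t 0 0 := by
      rw [zi, F.setup.v_mul _ (pow_mem F.setup.core.mem _) _ (pow_mem F.mem _)]
      rcases two_cases s with rfl | rfl <;> rcases two_cases t with rfl | rfl <;>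
        simp [ZMod.val_one, F.setup.v_one, F.setup.v_z, F.val] <;> decide +kernel
    rw [hz0]
    conv_lhs => rw [← vmk_eta (v q), vmk_add, pr_vmk, zero_add]

theorem phi_mul {r s : G} (hr : r ∈ F.R') (hs : s ∈ F.R') : F.phi (r * s) = F.phi r + F.phi s := by
  show pr (act (ρ (r * s)) f0) = _
  rw [F.setup.ρ_mul r hr.2 s hs.2, act_mul, F.rho_R' hs, F.rho_R' hr, sieg_sieg, sieg_f0]

theorem phi_zero {r : G} (hr : r ∈ F.R') (h : F.phi r = 0) : ∃ s t, r = F.zi s t := by
  refine F.inter ((F.setup.ρ_ker r hr.2).1 (iso_ext fun x => ?_)) hr.1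
  rw [F.rho_R' hr, h, sieg_zero, act_one]

theorem phi_zi (s t : ZMod 2) : F.phi (F.zi s t) = 0 := by
  show pr (act (ρ (F.zi s t)) f0) = 0
  rw [F.setup.ρ_of_mem (F.zi_mem s t).1, act_one]
  decide +kernel

theorem card_R' : Nat.card F.R' = 64 := by
  have hu0 : F.vi z ≠ 0 := F.si.v_ne F.z_mem F.setup.z_ne F.pt_ne.symm
  let f : ↥F.Qi →* Multiplicative (ZMod 2) :=
    MonoidHom.mk' (fun a => Multiplicative.ofAdd (pl (F.vi a) (F.vi z))) fun a b => by
      show _ = Multiplicative.ofAdd _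
      rw [Subgroup.coe_mul, F.si.v_mul _ a.2 _ b.2, SuzType.pl_add_left]
      rfl
  have hsurj : Function.Surjective f := fun y => by
    obtain ⟨x, hx⟩ := exists_pl_one hu0
    rcases two_cases (Multiplicative.toAdd y) with e | e
    · exact ⟨1, by rw [map_one, ← ofAdd_toAdd y, e, ofAdd_zero]⟩
    · obtain ⟨a, ha, hva⟩ := F.si.v_surj x
      refine ⟨⟨a, ha⟩, ?_⟩
      show Multiplicative.ofAdd (pl (F.vi a) (F.vi z)) = y
      rw [hva, SuzType.pl_comm, hx, ← e, ofAdd_toAdd]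
  have hker : F.R'.subgroupOf F.Qi = f.ker := by
    ext a
    rw [mem_subgroupOf, F.mem_R', MonoidHom.mem_ker]
    show _ ↔ Multiplicative.ofAdd (pl (F.vi a) (F.vi z)) = 1
    rw [← ofAdd_zero, Multiplicative.ofAdd.injective.eq_iff]
    exact ⟨fun h => (F.si.v_comm _ a.2 _ F.z_mem).2 h.2, fun h => ⟨a.2, (F.si.v_comm _ a.2 _ F.z_mem).1 h⟩⟩
  have h := f.ker.card_mul_index
  rw [index_ker, MonoidHom.range_eq_top.2 hsurj, Subgroup.card_top, ← hker,
    Nat.card_congr (subgroupOfEquivOfLe (show F.R' ≤ F.Qi from inf_le_left)).toEquiv,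
    Nat.card_congr Multiplicative.toAdd, Nat.card_zmod, F.si.card] at h
  omega

theorem phi_surj (c : W4) : ∃ r ∈ F.R', F.phi r = c := by
  let f : ↥F.R' →* Multiplicative W4 :=
    MonoidHom.mk' (fun r => Multiplicative.ofAdd (F.phi r)) fun r s => by
      show _ = Multiplicative.ofAdd _
      rw [Subgroup.coe_mul, F.phi_mul r.2 s.2]
      rfl
  have hker : Nat.card f.ker ≤ 4 := by
    have hsur : Function.Surjective (fun p : ZMod 2 × ZMod 2 =>
        (⟨⟨F.zi p.1 p.2, F.zi_R' p.1 p.2⟩, by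
          show Multiplicative.ofAdd (F.phi (F.zi p.1 p.2)) = 1
          rw [F.phi_zi]; rfl⟩ : f.ker)) := fun r => by
      obtain ⟨s, t, e⟩ := F.phi_zero r.1.2 (Multiplicative.ofAdd.injective (r.2.trans ofAdd_zero.symm))
      exact ⟨(s, t), Subtype.ext (Subtype.ext e.symm)⟩
    refine le_trans (Nat.card_le_card_of_surjective _ hsur) ?_
    rw [Nat.card_prod, Nat.card_zmod]
  have h := f.ker.card_mul_index
  rw [index_ker, F.card_R'] at h
  have hcard : Nat.card (Multiplicative W4) = 16 := by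
    rw [Nat.card_congr Multiplicative.toAdd, Nat.card_fun, Nat.card_zmod, Nat.card_eq_fintype_card]; rfl
  have hle := Subgroup.card_le_card_group f.range
  rw [hcard] at hle
  have h16 : Nat.card f.range = 16 := by nlinarith
  obtain ⟨r, hr⟩ : Multiplicative.ofAdd c ∈ f.range := by
    rw [Subgroup.eq_top_of_card_eq f.range (h16.trans hcard.symm)]; exact mem_top _
  exact ⟨r, r.2, Multiplicative.ofAdd.injective hr⟩

theorem pr_mul {p q : G} (hp : p ∈ F.R) (hq : q ∈ F.R) : pr (v (p * q)) = pr (v p) + pr (v q) := by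
  rw [F.setup.v_mul p hp.1 q hq.1]
  conv_lhs => rw [← vmk_eta (v p), ← vmk_eta (v q), vmk_add, pr_vmk]

theorem pr_conj {c q : G} {h : Iso4} (hc : c ∈ centralizer ({z} : Set G)) (he : ρ c = E h) (hq : q ∈ F.R) :
    pr (v (c * q * c⁻¹)) = act4 h (pr (v q)) := by
  rw [F.setup.ρ_act c hc q hq.1, he, act_E, pr_vmk]

theorem phi_conj {c r : G} {h : Iso4} (hc : c ∈ centralizer ({z} : Set G)) (he : ρ c = E h) (hr : r ∈ F.R') :
    F.phi (c * r * c⁻¹) = act4 h (F.phi r) := by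
  show pr (act (ρ (c * r * c⁻¹)) f0) = _
  rw [F.setup.ρ_mul _ (mul_mem hc hr.2) _ (inv_mem hc), F.setup.ρ_mul c hc r hr.2, F.setup.ρ_inv hc, act_mul,
    act_mul, he, ← map_inv, act_E h⁻¹, F.rho_R' hr]
  have hp : act4 h⁻¹ (pr f0) = pr f0 := by
    rw [show pr f0 = 0 by decide +kernel]; exact Matrix.mulVec_zero _
  rw [hp, vmk_eta, act_E, pr_vmk, sieg_f0]

theorem central_R {q : G} (hq : q ∈ F.R) (s t : ZMod 2) : q * F.zi s t = F.zi s t * q :=
  F.zi_comm (F.setup.le hq.1) hq.2 s t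

theorem central_R' {r : G} (hr : r ∈ F.R') (s t : ZMod 2) : r * F.zi s t = F.zi s t * r :=
  F.zi_comm hr.2 (F.R'_ci hr) s t

theorem comm_exists {q r : G} (hq : q ∈ F.R) (hr : r ∈ F.R') :
    ∃ s, r * q = F.zi s (pl4 (pr (v q)) (F.phi r)) * (q * r) := by
  obtain ⟨hd, hd'⟩ := F.comm_mem hq hr
  obtain ⟨s, t, e⟩ := F.inter hd hd'
  have e2 : r * q * r⁻¹ = F.zi s t * q := by rw [← e]; group
  have ht : t = pl4 (pr (v q)) (F.phi r) := by
    have h := congrArg v e2
    have hz0 : v (F.zi s t) = vmk t 0 0 := by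
      rw [zi, F.setup.v_mul _ (pow_mem F.setup.core.mem _) _ (pow_mem F.mem _)]
      rcases two_cases s with rfl | rfl <;> rcases two_cases t with rfl | rfl <;>
        simp [ZMod.val_one, F.setup.v_one, F.setup.v_z, F.val] <;> decide +kernel
    rw [F.setup.ρ_act r hr.2 q hq.1, F.rho_R' hr, F.setup.v_mul _ (F.zi_mem s t).1 q hq.1, hz0, F.v_of_R hq,
      sieg_vmk, vmk_add, zero_mul, add_zero, zero_smul, add_zero, zero_add, zero_add] at h
    have := congrArg xc h
    rw [xc_vmk, xc_vmk, add_comm t] at this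
    exact (add_left_cancel this).symm
  refine ⟨s, ?_⟩
  rw [← ht, ← mul_assoc, ← e2]
  group

/-- The exponent of the centre in the commutators. -/
def bz (F : Pt z Q v ρ g) (a c : W4) : ZMod 2 :=
  Classical.choose (F.comm_exists (Classical.choose_spec (F.R_surj a)).1 (Classical.choose_spec (F.phi_surj c)).1)

theorem bz_spec {q r : G} (hq : q ∈ F.R) (hr : r ∈ F.R') :
    r * q = F.zi (F.bz (pr (v q)) (F.phi r)) (pl4 (pr (v q)) (F.phi r)) * (q * r) := by
  set a := pr (v q) with ha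
  set c := F.phi r with hc
  obtain ⟨q₀, r₀, hq0, hr0, hqa, hrc, h0⟩ : ∃ q₀ r₀, q₀ ∈ F.R ∧ r₀ ∈ F.R' ∧ pr (v q₀) = a ∧ F.phi r₀ = c ∧
      r₀ * q₀ = F.zi (F.bz a c) (pl4 a c) * (q₀ * r₀) := by
    obtain ⟨hq0, hqa⟩ := Classical.choose_spec (F.R_surj a)
    obtain ⟨hr0, hrc⟩ := Classical.choose_spec (F.phi_surj c)
    have h0 : _ = F.zi (F.bz a c) _ * _ := Classical.choose_spec (F.comm_exists hq0 hr0)
    rw [hqa, hrc] at h0
    exact ⟨_, _, hq0, hr0, hqa, hrc, h0⟩
  obtain ⟨s, t, e1⟩ : ∃ s t, q₀⁻¹ * q = F.zi s t := F.zi_of_zero (mul_mem (inv_mem hq0) hq) (by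
    rw [F.pr_mul (inv_mem hq0) hq, F.setup.v_inv hq0.1, hqa, ← ha, w4_add_self])
  obtain ⟨s', t', e2⟩ : ∃ s t, r₀⁻¹ * r = F.zi s t := F.phi_zero (mul_mem (inv_mem hr0) hr) (by
    have h1 := F.phi_mul hr0 (mul_mem (inv_mem hr0) hr)
    rw [mul_inv_cancel_left, hrc, ← hc] at h1
    exact (add_eq_left.1 h1.symm))
  rw [eq_mul_of_inv_mul_eq e1, eq_mul_of_inv_mul_eq e2]
  calc r₀ * F.zi s' t' * (q₀ * F.zi s t) = r₀ * (F.zi s' t' * q₀) * F.zi s t := by group
    _ = (r₀ * q₀) * F.zi s' t' * F.zi s t := by rw [← F.central_R hq0]; group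
    _ = F.zi (F.bz a c) (pl4 a c) * q₀ * r₀ * F.zi s' t' * F.zi s t := by rw [h0]; group
    _ = F.zi (F.bz a c) (pl4 a c) * q₀ * (r₀ * F.zi (s' + s) (t' + t)) := by rw [← F.zi_add]; group
    _ = F.zi (F.bz a c) (pl4 a c) * q₀ * (r₀ * (F.zi s t * F.zi s' t')) := by
      rw [F.zi_add, add_comm s, add_comm t]
    _ = F.zi (F.bz a c) (pl4 a c) * q₀ * ((r₀ * F.zi s t) * F.zi s' t') := by group
    _ = _ := by rw [F.central_R' hr0]; group

theorem bz_add_left (a a' c : W4) : F.bz (a + a') c = F.bz a c + F.bz a' c := by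
  obtain ⟨q, hq, rfl⟩ := F.R_surj a
  obtain ⟨q', hq', rfl⟩ := F.R_surj a'
  obtain ⟨r, hr, rfl⟩ := F.phi_surj c
  have h := F.bz_spec (mul_mem hq hq') hr
  rw [F.pr_mul hq hq'] at h
  have h1 := F.bz_spec hq hr
  have h2 := F.bz_spec hq' hr
  generalize F.bz (pr (v q)) (F.phi r) = x at h1 ⊢
  generalize F.bz (pr (v q')) (F.phi r) = y at h2 ⊢
  generalize F.bz (pr (v q) + pr (v q')) (F.phi r) = w at h ⊢
  generalize pl4 (pr (v q)) (F.phi r) = x' at h1
  generalize pl4 (pr (v q')) (F.phi r) = y' at h2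
  generalize pl4 (pr (v q) + pr (v q')) (F.phi r) = w' at h
  have key : r * (q * q') = F.zi (x + y) (x' + y') * (q * q' * r) := by
    calc r * (q * q') = (r * q) * q' := by group
      _ = F.zi x x' * q * (r * q') := by rw [h1]; group
      _ = F.zi x x' * (q * F.zi y y') * (q' * r) := by rw [h2]; group
      _ = F.zi x x' * F.zi y y' * (q * q' * r) := by rw [F.central_R hq]; group
      _ = _ := by rw [F.zi_add]
  exact (F.zi_inj (mul_right_cancel (h.symm.trans key))).1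

theorem bz_add_right (a c c' : W4) : F.bz a (c + c') = F.bz a c + F.bz a c' := by
  obtain ⟨q, hq, rfl⟩ := F.R_surj a
  obtain ⟨r, hr, rfl⟩ := F.phi_surj c
  obtain ⟨r', hr', rfl⟩ := F.phi_surj c'
  have h := F.bz_spec hq (mul_mem hr hr')
  rw [F.phi_mul hr hr'] at h
  have h1 := F.bz_spec hq hr
  have h2 := F.bz_spec hq hr'
  generalize F.bz (pr (v q)) (F.phi r) = x at h1 ⊢
  generalize F.bz (pr (v q)) (F.phi r') = y at h2 ⊢
  generalize F.bz (pr (v q)) (F.phi r + F.phi r') = w at h ⊢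
  generalize pl4 (pr (v q)) (F.phi r) = x' at h1
  generalize pl4 (pr (v q)) (F.phi r') = y' at h2
  generalize pl4 (pr (v q)) (F.phi r + F.phi r') = w' at h
  have key : r * r' * q = F.zi (x + y) (x' + y') * (q * (r * r')) := by
    calc r * r' * q = r * (r' * q) := by group
      _ = (r * F.zi y y') * (q * r') := by rw [h2]; group
      _ = F.zi y y' * (r * q) * r' := by rw [F.central_R' hr]; group
      _ = F.zi y y' * F.zi x x' * (q * (r * r')) := by rw [h1]; group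
      _ = _ := by rw [F.zi_add, add_comm x, add_comm x']
  exact (F.zi_inj (mul_right_cancel (h.symm.trans key))).1

theorem bz_word (w : List (Fin 2)) (a c : W4) : F.bz (wf w a) (wf w c) = F.bz a c := by
  obtain ⟨k, hk, hki, hρ⟩ := F.word_lift w
  obtain ⟨q, hq, rfl⟩ := F.R_surj a
  obtain ⟨r, hr, rfl⟩ := F.phi_surj c
  have h := F.bz_spec (F.norm_R hk hki hq) (F.norm_R' hk hki hr)
  rw [F.pr_conj hk hρ hq, F.phi_conj hk hρ hr, act4_σw, act4_σw] at h
  have h1 := F.bz_spec hq hr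
  generalize F.bz (pr (v q)) (F.phi r) = x at h1 ⊢
  generalize F.bz (wf w (pr (v q))) (wf w (F.phi r)) = y at h ⊢
  generalize pl4 (pr (v q)) (F.phi r) = x' at h1
  generalize pl4 (wf w (pr (v q))) (wf w (F.phi r)) = y' at h
  have key : k * r * k⁻¹ * (k * q * k⁻¹) = F.zi x x' * (k * q * k⁻¹ * (k * r * k⁻¹)) := by
    calc k * r * k⁻¹ * (k * q * k⁻¹) = k * (r * q) * k⁻¹ := by group
      _ = k * F.zi x x' * (q * r) * k⁻¹ := by rw [h1]; group
      _ = _ := by rw [F.zi_comm hk hki]; group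
  exact (F.zi_inj (mul_right_cancel (h.symm.trans key))).1

theorem bz_zero_left (c : W4) : F.bz 0 c = 0 := by
  have h := F.bz_add_left 0 0 c
  rw [add_zero] at h
  exact add_eq_left.1 h.symm

theorem bz_zero_right (a : W4) : F.bz a 0 = 0 := by
  have h := F.bz_add_right a 0 0
  rw [add_zero] at h
  exact add_eq_left.1 h.symm

theorem bz_smul_left (s : ZMod 2) (a c : W4) : F.bz (s • a) c = s * F.bz a c := by
  rcases two_cases s with rfl | rfl
  · rw [zero_smul, zero_mul, F.bz_zero_left]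
  · rw [one_smul, one_mul]

theorem bz_smul_right (s : ZMod 2) (a c : W4) : F.bz a (s • c) = s * F.bz a c := by
  rcases two_cases s with rfl | rfl
  · rw [zero_smul, zero_mul, F.bz_zero_right]
  · rw [one_smul, one_mul]

theorem bz_eq (a c : W4) : F.bz a c = pl4 a c := by
  set m : W4 := fun i => F.bz m₁ (Pi.single (CoOneType.sw i) 1) with hm
  have hfun : ∀ c, F.bz m₁ c = pl4 m c := by
    let f : W4 →ₗ[ZMod 2] ZMod 2 :=
      { toFun := F.bz m₁
        map_add' := F.bz_add_right m₁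
        map_smul' := fun s c => by rw [F.bz_smul_right]; rfl }
    let f' : W4 →ₗ[ZMod 2] ZMod 2 :=
      { toFun := fun c => pl4 m c
        map_add' := fun c c' => pl4_add_right m c c'
        map_smul' := fun s c => by
          rw [pl4_comm m (s • c), pl4_comm m c]
          exact CoOneType.q4_nd.polar_bilinear.smul_left s c m }
    have hff : f = f' := by
      refine LinearMap.pi_ext' fun i => LinearMap.ext_ring ?_
      show F.bz m₁ (Pi.single i 1) = pl4 m (Pi.single i 1)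
      have hii : CoOneType.sw (CoOneType.sw i) = i := by revert i; decide
      conv_rhs => rw [← hii, show pl4 m (Pi.single (CoOneType.sw (CoOneType.sw i)) 1) = m (CoOneType.sw i) from
        CoOneType.pol4_single m _]
      rw [hm]; simp only [hii]
    exact fun c => LinearMap.congr_fun hff c
  have hbasis : ∀ j c, F.bz (CoOneType.tb j) c = pl4 m (wf (bw j) c) := fun j c => by
    rw [← hfun, ← F.bz_word (bw j) (CoOneType.tb j) c, bw_spec]
  have hall : ∀ a c, F.bz a c = cand m a c := by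
    intro a c
    conv_lhs => rw [CoOneType.coef_spec a]
    simp only [F.bz_add_left, F.bz_smul_left, hbasis, cand, Fin.sum_univ_four]
  have hinv : ∀ k j c, cand m (σf k (CoOneType.tb j)) (σf k c) = cand m (CoOneType.tb j) c := fun k j c => by
    rw [← hall, ← hall]; exact F.bz_word [k] _ _
  rcases cand_class m hinv with h | h
  · exfalso
    have h0 : ∀ a c, F.bz a c = 0 := fun a c => by
      rw [CoOneType.coef_spec a]
      simp only [F.bz_add_left, F.bz_smul_left, hall, h, mul_zero, add_zero]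
    obtain ⟨q, hq, hqa⟩ := F.R_surj a₀
    have hfix : ρ (g⁻¹ * q * g) = 1 := by
      refine fix_hyperplane (u := F.vi z) ((F.si.v_sq z F.z_mem).2 F.setup.zz)
        (F.si.v_ne F.z_mem F.setup.z_ne F.pt_ne.symm) fun x hx => ?_
      obtain ⟨r, hr, rfl⟩ := F.si.v_surj x
      have hrR : r ∈ F.R' := F.mem_R'.2 ⟨hr, (F.si.v_comm r hr z F.z_mem).1 (by
        exact (QuadraticMap.polar_comm qf _ _).trans hx)⟩
      have h1 := F.bz_spec hq hrR
      rw [h0] at h1
      rw [← F.si.ρ_act q hq.2 r hr]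
      refine (F.si.v_eq (F.si.norm hq.2 hr) hr).2 ?_
      rcases two_cases (pl4 (pr (v q)) (F.phi r)) with e | e <;> rw [e] at h1
      · left
        rw [F.zi_zero, one_mul] at h1
        rw [← h1, mul_inv_cancel_right]
      · right
        have h2 : F.zi 0 1 = F.pt := by simp [zi, ZMod.val_one]
        rw [h2] at h1
        calc q * r * q⁻¹ = F.pt * (F.pt * (q * r)) * q⁻¹ := by rw [← mul_assoc F.pt, F.pp, one_mul]
          _ = F.pt * (r * q) * q⁻¹ := by rw [← h1]
          _ = F.pt * r := by group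
          _ = _ := (mem_cz.1 (F.si.le hr)).symm
    have hqi : q ∈ F.Qi := (F.si.ρ_ker q hq.2).1 hfix
    obtain ⟨s, t, e⟩ := F.inter hq.1 hqi
    refine ref_pair.2.2.2.1 ?_
    have hz0 : pr (v (F.zi s t)) = 0 := by
      rw [zi, F.setup.v_mul _ (pow_mem F.setup.core.mem _) _ (pow_mem F.mem _)]
      rcases two_cases s with rfl | rfl <;> rcases two_cases t with rfl | rfl <;>
        simp [ZMod.val_one, F.setup.v_one, F.setup.v_z, F.val] <;> decide +kernel
    rw [← hqa, e, hz0]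
  · rw [CoOneType.coef_spec a]
    simp only [F.bz_add_left, F.bz_smul_left, hall, h, pl4_add_left, q4_nd.polar_bilinear.smul_left]

/-- The commutator rule. -/
theorem swap_rule {q r : G} (hq : q ∈ F.R) (hr : r ∈ F.R') :
    r * q = F.zi (pl4 (pr (v q)) (F.phi r)) (pl4 (pr (v q)) (F.phi r)) * (q * r) := by
  have h := F.bz_spec hq hr
  rwa [F.bz_eq] at h

theorem sq_R {q : G} (hq : q ∈ F.R) : q * q = F.zi (q4 (pr (v q))) 0 := by
  have h := F.setup.v_sq q hq.1
  rw [F.v_of_R hq, qf_vmk, mul_zero, zero_add] at h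
  rcases two_cases (q4 (pr (v q))) with e | e <;> rw [e] at h ⊢
  · rw [h.1 rfl, F.zi_zero]
  · rcases F.setup.core.sq_eq q hq.1 with e' | e'
    · exact absurd (h.2 e') one_ne_zero
    · rw [e']; simp [zi, ZMod.val_one]

theorem sq_R' {r : G} (hr : r ∈ F.R') : r * r = F.zi 0 (qf (F.vi r)) := by
  have h := F.si.v_sq r hr.1
  rcases two_cases (qf (F.vi r)) with e | e <;> rw [e] at h ⊢
  · rw [h.1 rfl, F.zi_zero]
  · rcases F.si.core.sq_eq r hr.1 with e' | e'
    · exact absurd (h.2 e') one_ne_zero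
    · rw [e']; simp [zi, ZMod.val_one]

theorem vi_congr {r s : G} (hr : r ∈ F.R') (hs : s ∈ F.R') (h : F.phi r = F.phi s) :
    qf (F.vi r) = qf (F.vi s) := by
  obtain ⟨a, b, e⟩ := F.phi_zero (mul_mem (inv_mem hr) hs) (by
    have h1 := F.phi_mul hr (mul_mem (inv_mem hr) hs)
    rw [mul_inv_cancel_left, ← h] at h1
    exact add_eq_left.1 h1.symm)
  have hss : s * s = r * r := by
    rw [eq_mul_of_inv_mul_eq e]
    calc r * F.zi a b * (r * F.zi a b) = r * (F.zi a b * r) * F.zi a b := by group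
      _ = r * r * (F.zi a b * F.zi a b) := by rw [← F.central_R' hr]; group
      _ = r * r := by rw [F.zi_add, CharTwo.add_self_eq_zero, CharTwo.add_self_eq_zero, F.zi_zero, mul_one]
  rw [F.sq_R' hr, F.sq_R' hs] at hss
  exact (F.zi_inj hss).2.symm

/-- The squares in the second part, on parameters. -/
def sq' (F : Pt z Q v ρ g) (c : W4) : ZMod 2 := qf (F.vi (Classical.choose (F.phi_surj c)))

theorem sq'_spec {r : G} (hr : r ∈ F.R') : qf (F.vi r) = F.sq' (F.phi r) :=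
  F.vi_congr hr (Classical.choose_spec (F.phi_surj _)).1 (Classical.choose_spec (F.phi_surj _)).2.symm

theorem sq'_eq (c : W4) : F.sq' c = q4 c := by
  have hword : ∀ w u, F.sq' (wf w u) = F.sq' u := fun w u => by
    obtain ⟨k, hk, hki, hρ⟩ := F.word_lift w
    obtain ⟨r, hr, rfl⟩ := F.phi_surj u
    rw [← act4_σw, ← F.phi_conj hk hρ hr, ← F.sq'_spec (F.norm_R' hk hki hr), ← F.sq'_spec hr]
    have hsq : k * r * k⁻¹ * (k * r * k⁻¹) = r * r := by
      rw [show k * r * k⁻¹ * (k * r * k⁻¹) = k * (r * r) * k⁻¹ by group, F.sq_R' hr, F.zi_comm hk hki,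
        mul_inv_cancel_right]
    rw [F.sq_R' hr, F.sq_R' (F.norm_R' hk hki hr)] at hsq
    exact (F.zi_inj hsq).2
  have h0 : F.sq' 0 = 0 := by
    rw [← F.phi_zi 0 0, ← F.sq'_spec (F.zi_R' 0 0), F.zi_zero, F.si.v_one]; exact CfsgLib.Perm.Trans.Quad.qzero qf_nd
  have horb : ∀ u, F.sq' u = orbFun (F.sq' m₁) (F.sq' a₀) u := by
    intro u
    by_cases hu : u = 0
    · rw [hu, h0, orbFun, if_pos rfl]
    · obtain ⟨w, -, hw⟩ := single_reach u hu
      rw [orbFun, if_neg hu]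
      conv_lhs => rw [← hw, hword]
      split_ifs <;> rfl
  rcases orbFun_class (F.sq' m₁) (F.sq' a₀) (fun j a c => by
    simp only [← horb]
    obtain ⟨x, hx, hxa⟩ := F.phi_surj (CoOneType.tb j)
    obtain ⟨y, hy, rfl⟩ := F.phi_surj a
    obtain ⟨w, hw, rfl⟩ := F.phi_surj c
    rw [← hxa, ← F.phi_mul hx hy, ← F.phi_mul hx hw, ← F.phi_mul hy hw, ← F.phi_mul (mul_mem hx hy) hw,
      ← F.sq'_spec (mul_mem (mul_mem hx hy) hw), ← F.sq'_spec (mul_mem hx hy), ← F.sq'_spec (mul_mem hx hw),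
      ← F.sq'_spec (mul_mem hy hw), ← F.sq'_spec hx, ← F.sq'_spec hy, ← F.sq'_spec hw,
      F.si.v_mul _ (mul_mem hx.1 hy.1) _ hw.1, F.si.v_mul _ hx.1 _ hy.1, F.si.v_mul _ hx.1 _ hw.1,
      F.si.v_mul _ hy.1 _ hw.1]
    exact cubic _ _ _) with h | h
  · exfalso
    have hu0 : F.vi z ≠ 0 := F.si.v_ne F.z_mem F.setup.z_ne F.pt_ne.symm
    obtain ⟨k, -, hk⟩ := move_singular hu0 w0_ne ((F.si.v_sq z F.z_mem).2 F.setup.zz) qf_w0
    set x := act k⁻¹ (vmk 0 0 a₀) with hx
    have hkx : act k x = vmk 0 0 a₀ := by rw [hx, ← act_mul, mul_inv_cancel, act_one]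
    obtain ⟨r, hr, hrx⟩ := F.si.v_surj x
    have hperp : pl (F.vi r) (F.vi z) = 0 := by
      show QuadraticMap.polar qf (F.vi r) (F.vi z) = 0
      rw [show F.vi r = x from hrx, ← pol_act k, show act k (F.vi z) = w0 from hk, hkx]
      decide +kernel
    have hrR : r ∈ F.R' := F.mem_R'.2 ⟨hr, (F.si.v_comm r hr z F.z_mem).1 hperp⟩
    have h1 : qf (F.vi r) = 1 := by
      rw [show F.vi r = x from hrx, ← qf_act k x, hkx, qf_vmk]; decide +kernel
    rw [F.sq'_spec hrR, horb, h.1, h.2] at h1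
    simp [orbFun] at h1
  · rw [horb, h]

/-- The square rule in the second part. -/
theorem square_rule {r : G} (hr : r ∈ F.R') : r * r = F.zi 0 (q4 (F.phi r)) := by
  rw [F.sq_R' hr, F.sq'_spec hr, F.sq'_eq]

end Pt

end

end CfsgLib.Spor.SuzType
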