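import Cfsg.Agent.Lib.Spor.CoOneType.Setup
import Cfsg.Agent.Lib.Perm.Trans.QuadStd

/-!
# Groups of Suzuki type: coordinates on the extraspecial subgroup of order 128
-/

set_option autoImplicit false

namespace CfsgLib.Spor.SuzType

open Subgroup Matrix Cfsg.Geo CfsgLib.PGroup CfsgLib.Perm.Trans.Quad CfsgLib.Spor.ExtraOut
open CfsgLib.Spor.CoOneType (two_cases minus_aniso coord_exists polar_bl)
open scoped commutatorElement

noncomputable section

/-- The coordinates. -/
abbrev Ix : Type := (Fin 2 ⊕ Fin 2) ⊕ Fin 2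

/-- The vectors. -/
abbrev Vec : Type := Ix → ZMod 2

/-- The quadratic form. -/
abbrev qf : Vec → ZMod 2 := Cfsg.quadFormMinus 2 (ZMod 2) 1 1

/-- The isometries. -/
abbrev Iso6 := Cfsg.isometryGroup (ZMod 2) qf

/-- The simple subgroup. -/
abbrev Om : Subgroup Iso6 := Cfsg.Omega (ZMod 2) qf

/-- The action on vectors. -/
def act (g : Iso6) (x : Vec) : Vec := ((g : GL Ix (ZMod 2)) : Matrix Ix Ix (ZMod 2)) *ᵥ x

theorem act_one (x : Vec) : act 1 x = x := one_mulVec x

theorem act_mul (g h : Iso6) (x : Vec) : act (g * h) x = act g (act h x) := (mulVec_mulVec x _ _).symm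

theorem act_add (g : Iso6) (x y : Vec) : act g (x + y) = act g x + act g y := mulVec_add _ _ _

theorem act_zero (g : Iso6) : act g 0 = 0 := mulVec_zero _

theorem act_injective (g : Iso6) : Function.Injective (act g) := fun x y h => by
  have := congrArg (act g⁻¹) h
  rwa [← act_mul, ← act_mul, inv_mul_cancel, act_one, act_one] at this

theorem qf_act (g : Iso6) (x : Vec) : qf (act g x) = qf x := mem_iso.1 g.2 x

theorem pol_act (g : Iso6) (x y : Vec) :
    QuadraticMap.polar qf (act g x) (act g y) = QuadraticMap.polar qf x y := iso_pol g.2 x y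

theorem iso_ext {g h : Iso6} (H : ∀ x, act g x = act h x) : g = h :=
  Subtype.ext (Units.ext (Matrix.ext_of_mulVec_single fun j => H _))

variable {G : Type*} [Group G]

/-- A group of Conway type with coordinates on the extraspecial subgroup. -/
structure Setup (z : G) (Q : Subgroup G) (v : G → Vec) (ρ : G → Iso6) : Prop where
  core : LargeQ.Core Q z
  card : Nat.card Q = 128
  v_mul : ∀ a ∈ Q, ∀ b ∈ Q, v (a * b) = v a + v b
  v_ker : ∀ a ∈ Q, (v a = 0 ↔ a = 1 ∨ a = z)
  v_surj : ∀ w, ∃ a ∈ Q, v a = w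
  v_sq : ∀ a ∈ Q, (qf (v a) = 0 ↔ a * a = 1)
  v_comm : ∀ a ∈ Q, ∀ b ∈ Q, (QuadraticMap.polar qf (v a) (v b) = 0 ↔ a * b = b * a)
  ρ_mul : ∀ a ∈ centralizer ({z} : Set G), ∀ b ∈ centralizer ({z} : Set G), ρ (a * b) = ρ a * ρ b
  ρ_act : ∀ c ∈ centralizer ({z} : Set G), ∀ a ∈ Q, v (c * a * c⁻¹) = act (ρ c) (v a)
  ρ_ker : ∀ c ∈ centralizer ({z} : Set G), (ρ c = 1 ↔ c ∈ Q)
  ρ_mem : ∀ c ∈ centralizer ({z} : Set G), ρ c ∈ Om
  ρ_surj : ∀ g ∈ Om, ∃ c ∈ centralizer ({z} : Set G), ρ c = g

theorem qf_nd : IsNondegenerateQuadraticForm qf := quadFormMinus_nd 1 1 minus_aniso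

theorem five_le : 5 ≤ Fintype.card Ix := by simp

theorem om_perfect : commutator Om = ⊤ := omega_perfect qf_nd five_le

theorem om_index : Om.index = 2 :=
  CfsgLib.Orth.omega_index_two qf_nd (by decide) (Or.inr (by decide)) (by decide)

theorem card_om : Nat.card Om = 25920 := by
  have h := Om.card_mul_index
  rw [om_index, show Nat.card Iso6 = _ from CfsgLib.Classical.card_iso_minus (F := ZMod 2) (a := 1) (b := 1) minus_aniso 2,
    ZMod.card] at h
  norm_num [Finset.prod_range_succ] at h ⊢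
  linarith

/-- The coordinates exist. -/
theorem exists_setup [Finite G] (z : G) (hz : orderOf z = 2) (Q : Subgroup (centralizer ({z} : Set G))) [Q.Normal]
    (hF : Cfsg.generalizedFittingSubgroup (centralizer ({z} : Set G)) = Q) (hQ : Cfsg.IsExtraspecial 2 Q)
    (hcard : Nat.card Q = 2 ^ 7)
    (e : (centralizer ({z} : Set G)) ⧸ Q ≃* Cfsg.Omega (ZMod 2) (Cfsg.quadFormMinus 2 (ZMod 2) 1 1)) :
    ∃ (v : G → Vec) (ρ : G → Iso6), Setup z ((Q.map (centralizer ({z} : Set G)).subtype)) v ρ := by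
  classical
  haveI : Fact (Nat.Prime 2) := ⟨Nat.prime_two⟩
  have hzz : z * z = 1 := by rw [← pow_two, ← hz, pow_orderOf_eq_one]
  have hz1 : z ≠ 1 := fun h => by rw [h, orderOf_one] at hz; omega
  have hself : centralizer (Q : Set (centralizer ({z} : Set G))) ≤ Q := by
    rw [← hF]; exact CfsgLib.Coprime.centralizer_generalizedFitting_le
  have hcore : LargeQ.Core ((Q.map (centralizer ({z} : Set G)).subtype)) z := by
    refine LargeQ.core_of_fitting z hz _ (by rw [hF]) ?_
    exact CfsgLib.Spor.Affine.isExtraspecial_congr (Q.equivMapOfInjective (centralizer ({z} : Set G)).subtype (centralizer ({z} : Set G)).subtype_injective) hQ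
  obtain ⟨hsc, -⟩ := smallCenter_of_extraspecial (p := 2) hQ
  have hzC : z ∈ (centralizer ({z} : Set G)) := mem_centralizer_singleton_iff.2 rfl
  have hzQ : (⟨z, hzC⟩ : (centralizer ({z} : Set G))) ∈ Q := hself (mem_centralizer_iff.2 fun b _ =>
    Subtype.ext (mem_centralizer_singleton_iff.1 b.2))
  set zq : Q := ⟨⟨z, hzC⟩, hzQ⟩ with hzq
  have hzc : zq ∈ center Q :=
    mem_center_iff.2 fun b => Subtype.ext (Subtype.ext (mem_centralizer_singleton_iff.1 b.1.2))
  have hzq1 : zq ≠ 1 := fun h => hz1 (congrArg (fun q : Q => ((q : (centralizer ({z} : Set G))) : G)) h)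
  have hcardC : Nat.card ((centralizer ({z} : Set G)) ⧸ Q) = 25920 := by rw [Nat.card_congr e.toEquiv]; exact card_om
  have hno : ¬ ∃ A : Subgroup Q, Cfsg.IsElementaryAbelian 2 A ∧ Nat.card A = 2 ^ (3 + 1) := by
    rintro ⟨A, hA, hAc⟩
    have hs : signSum Q = signSum (Model (plusMat 3)) := by
      rw [ExtraOut.sign_pos (n := 3) hsc hcard A hA.2 hAc, sign_plus]
    obtain ⟨φ, -⟩ := exists_equiv_of_signSum 3 (by norm_num) Q (Model (plusMat 3)) hsc
      (smallCenter (nondeg_plus 3)) hcard (by rw [card_model]; rfl) hs zq hzc hzq1 ⟨0, 1⟩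
      (mk_mem_center _) cen_ne_one
    obtain ⟨r, hr, -⟩ := coord_exists (nondeg_plus 3) (plus_eq (n := 3)) Q φ hself
    have hk : Q = r.ker := by ext c; exact ((hr c).symm)
    have h1 : Nat.card r.range = 25920 := by
      rw [← hcardC, hk]; exact (Nat.card_congr (QuotientGroup.quotientKerEquivRange r).toEquiv).symm
    have h2 := card_subgroup_dvd_card r.range
    rw [h1, CfsgLib.Classical.card_iso_plus (F := ZMod 2) 2, ZMod.card] at h2
    norm_num [Finset.prod_range_succ] at h2
  have hs : signSum Q = signSum (Model (minusMat 2)) := by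
    rw [ExtraOut.sign_neg (n := 3) hsc hcard hno, sign_minus]
  obtain ⟨φ, hφz⟩ := exists_equiv_of_signSum 3 (by norm_num) Q (Model (minusMat 2)) hsc
    (smallCenter (nondeg_minus 2)) hcard (by rw [card_model]; rfl) hs zq hzc hzq1 ⟨0, 1⟩
    (mk_mem_center _) cen_ne_one
  obtain ⟨r, hr, hact⟩ := coord_exists (nondeg_minus 2) minus_eq Q φ hself
  have hker : r.ker = Q := by ext c; exact hr c
  have hcr : Nat.card r.range = 25920 := by
    rw [← hcardC, ← Nat.card_congr (QuotientGroup.quotientKerEquivRange r).toEquiv]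
    exact Nat.card_congr (QuotientGroup.quotientMulEquivOfEq hker).toEquiv
  have hperf : commutator r.range = ⊤ := by
    let q : (centralizer ({z} : Set G)) →* ((centralizer ({z} : Set G)) ⧸ Q) := QuotientGroup.mk' Q
    let f : r.range ≃* Om := (QuotientGroup.quotientKerEquivRange r).symm.trans
      ((QuotientGroup.quotientMulEquivOfEq hker).trans e)
    have h1 : (commutator r.range).map f.toMonoidHom = ⊤ := by
      rw [_root_.commutator_def, Subgroup.map_commutator, ← MonoidHom.range_eq_map,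
        MonoidHom.range_eq_top.2 (show Function.Surjective f.toMonoidHom from f.surjective), ← _root_.commutator_def,
        om_perfect]
    exact Subgroup.map_injective (show Function.Injective f.toMonoidHom from f.injective) (h1.trans
      (MonoidHom.range_eq_map f.toMonoidHom ▸ (MonoidHom.range_eq_top.2 f.surjective).symm))
  have hrange : r.range = Om := by
    refine eq_of_le_of_card_ge ?_ (by rw [hcr]; exact le_of_eq card_om)
    intro x hx
    have h1 : (⟨x, hx⟩ : r.range) ∈ commutator r.range := hperf ▸ mem_top _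
    have h2 : x ∈ (commutator r.range).map r.range.subtype := ⟨_, h1, rfl⟩
    rw [_root_.commutator_def, Subgroup.map_commutator] at h2
    exact ((_root_.commutator_def Iso6) ▸ Subgroup.commutator_mono le_top le_top : _ ≤ commutator Iso6) h2
  let qel : ∀ g : G, g ∈ (Q.map (centralizer ({z} : Set G)).subtype) → Q := fun g hg =>
    ⟨⟨g, map_subtype_le Q hg⟩, by obtain ⟨c, hc, rfl⟩ := hg; exact hc⟩
  let v : G → Vec := fun g => if hg : g ∈ (Q.map (centralizer ({z} : Set G)).subtype) then (φ (qel g hg)).v else 0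
  let ρ : G → Iso6 := fun g => if hg : g ∈ (centralizer ({z} : Set G)) then r ⟨g, hg⟩ else 1
  have hv : ∀ g (hg : g ∈ (Q.map (centralizer ({z} : Set G)).subtype)), v g = (φ (qel g hg)).v := fun g hg => dif_pos hg
  have hρ : ∀ g (hg : g ∈ (centralizer ({z} : Set G))), ρ g = r ⟨g, hg⟩ := fun g hg => dif_pos hg
  refine ⟨v, ρ, ⟨hcore, ?_, ?_, ?_, ?_, ?_, ?_, ?_, ?_, ?_, ?_, ?_⟩⟩
  · rw [← Nat.card_congr (Q.equivMapOfInjective (centralizer ({z} : Set G)).subtype (centralizer ({z} : Set G)).subtype_injective).toEquiv, hcard]; rfl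
  · intro a ha b hb
    rw [hv a ha, hv b hb, hv (a * b) (mul_mem ha hb),
      show qel (a * b) (mul_mem ha hb) = qel a ha * qel b hb from rfl, map_mul, mul_v]
  · intro a ha
    rw [hv a ha]
    constructor
    · intro h0
      rcases two_cases (φ (qel a ha)).c with h | h
      · left
        have : qel a ha = 1 := φ.injective (by rw [map_one]; exact Model.ext h0 h)
        exact congrArg (fun q : Q => ((q : (centralizer ({z} : Set G))) : G)) this
      · right
        have : qel a ha = zq := φ.injective (by rw [hφz]; exact Model.ext h0 h)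
        exact congrArg (fun q : Q => ((q : (centralizer ({z} : Set G))) : G)) this
    · rintro (rfl | rfl)
      · rw [show qel 1 ha = 1 from rfl, map_one]; rfl
      · rw [show qel _ ha = zq from rfl, hφz]
  · intro w
    have hm : ((φ.symm ⟨w, 0⟩ : Q) : (centralizer ({z} : Set G))).1 ∈ (Q.map (centralizer ({z} : Set G)).subtype) := ⟨_, (φ.symm ⟨w, 0⟩).2, rfl⟩
    refine ⟨_, hm, ?_⟩
    rw [hv _ hm, show qel _ hm = φ.symm ⟨w, 0⟩ from rfl, φ.apply_symm_apply]
  · intro a ha
    rw [hv a ha]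
    show Cfsg.quadFormMinus 2 (ZMod 2) 1 1 _ = 0 ↔ _
    rw [minus_eq, ← ExtraOut.sq_eq_one_iff, ← map_pow, map_eq_one_iff _ φ.injective, pow_two]
    exact ⟨fun h => congrArg (fun q : Q => ((q : (centralizer ({z} : Set G))) : G)) h, fun h => Subtype.ext (Subtype.ext h)⟩
  · intro a ha b hb
    rw [hv a ha, hv b hb]
    show QuadraticMap.polar (Cfsg.quadFormMinus 2 (ZMod 2) 1 1) _ _ = 0 ↔ _
    rw [polar_bl minus_eq, ← commute_iff, ← map_mul, ← map_mul, φ.injective.eq_iff]
    exact ⟨fun h => congrArg (fun q : Q => ((q : (centralizer ({z} : Set G))) : G)) h, fun h => Subtype.ext (Subtype.ext h)⟩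
  · intro a ha b hb
    rw [hρ a ha, hρ b hb, hρ (a * b) (mul_mem ha hb), ← map_mul]; rfl
  · intro c hc a ha
    have hm : c * a * c⁻¹ ∈ (Q.map (centralizer ({z} : Set G)).subtype) :=
      hcore.norm c (mem_centralizer_singleton_iff.1 hc) a ha
    rw [hv a ha, hv _ hm, hρ c hc]
    have he : qel _ hm = MulAut.conjNormal ⟨c, hc⟩ (qel a ha) :=
      Subtype.ext (Subtype.ext (by rw [MulAut.conjNormal_apply]; rfl))
    rw [he]
    exact hact _ _
  · intro c hc
    rw [hρ c hc, hr]
    exact ⟨fun h => ⟨_, h, rfl⟩, fun ⟨d, hd, hdc⟩ => by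
      have : d = ⟨c, hc⟩ := Subtype.ext hdc
      exact this ▸ hd⟩
  · intro c hc
    rw [hρ c hc, ← hrange]; exact ⟨_, rfl⟩
  · intro g hg
    rw [← hrange] at hg
    obtain ⟨c, rfl⟩ := hg
    exact ⟨c, c.2, hρ _ c.2⟩

end

end CfsgLib.Spor.SuzType
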