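import Cfsg.Agent.Lib.Spor.SuzType.KCompl
import Cfsg.Agent.Lib.Invol.OrderTwelve

/-!
# The normalizer of a Sylow seven subgroup in a group of Suzuki type
-/

set_option autoImplicit false
set_option synthInstance.maxSize 4096

namespace CfsgLib.Spor.SuzType

open Subgroup CfsgLib.Spor.CoOneType CfsgLib.Invol

noncomputable section

variable {G : Type*} [Group G] [Finite G] {z : G} {Q : Subgroup G} {v : G → Vec} {ρ : G → Iso6}

theorem centralizer_zpowers (x : G) : centralizer ((zpowers x : Subgroup G) : Set G) = centralizer ({x} : Set G) := by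
  rw [zpowers_eq_closure, centralizer_closure]

/-- Conjugation carries centralizers to centralizers. -/
def centConj (h x : G) : centralizer ({h⁻¹ * x * h} : Set G) ≃* centralizer ({x} : Set G) where
  toFun y := ⟨h * y * h⁻¹, mem_cz.2 (by
    calc h * y * h⁻¹ * x = h * ((y : G) * (h⁻¹ * x * h)) * h⁻¹ := by group
      _ = h * (h⁻¹ * x * h * y) * h⁻¹ := by rw [mem_cz.1 y.2]
      _ = x * (h * y * h⁻¹) := by group)⟩
  invFun y := ⟨h⁻¹ * y * h, mem_cz.2 (by
    calc h⁻¹ * (y : G) * h * (h⁻¹ * x * h) = h⁻¹ * ((y : G) * x) * h := by group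
      _ = h⁻¹ * (x * y) * h := by rw [mem_cz.1 y.2]
      _ = h⁻¹ * x * h * (h⁻¹ * y * h) := by group)⟩
  left_inv y := Subtype.ext (show h⁻¹ * (h * y * h⁻¹) * h = y by group)
  right_inv y := Subtype.ext (show h * (h⁻¹ * y * h) * h⁻¹ = y by group)
  map_mul' a b := Subtype.ext (show h * ((a : G) * b) * h⁻¹ = h * a * h⁻¹ * (h * b * h⁻¹) by group)

/-- The centralizer is the product of the element and its complement. -/
theorem Compl.nonempty_prod_equiv {x : G} {p : ℕ} {H : Subgroup G} (hC : Compl x p H) :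
    Nonempty (centralizer ({x} : Set G) ≃* zpowers x × H) := by
  have hc : ∀ (a : zpowers x) (h : H), Commute (a : G) h := fun a h => by
    obtain ⟨i, hi⟩ := a.2
    rw [← hi]
    exact (show Commute x (h : G) from (mem_cz.1 (hC.le h.2)).symm).zpow_left i
  let f : zpowers x × H →* centralizer ({x} : Set G) :=
    MonoidHom.mk' (fun q => ⟨(q.1 : G) * q.2, mul_mem (zpowers_le.2 hC.self_mem q.1.2) (hC.le q.2.2)⟩)
      fun a b => Subtype.ext (show (a.1 : G) * b.1 * ((a.2 : G) * b.2) = a.1 * a.2 * (b.1 * b.2) by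
        exact (hc b.1 a.2).mul_mul_mul_comm _ _)
  have hinj : Function.Injective f := by
    rw [injective_iff_map_eq_one]
    rintro ⟨⟨a, i, rfl⟩, h⟩ e
    replace e : x ^ i * (h : G) = 1 := congrArg Subtype.val e
    have hi : x ^ i ∈ H := by rw [eq_inv_of_mul_eq_one_left e]; exact inv_mem h.2
    have hi1 := hC.inter i hi
    rw [hi1, one_mul] at e
    exact Prod.ext (Subtype.ext hi1) (Subtype.ext e)
  exact ⟨(MulEquiv.ofBijective f ((Nat.bijective_iff_injective_and_card _).2
    ⟨hinj, by rw [Nat.card_prod, Nat.card_zpowers, hC.ord, hC.card_cent]⟩)).symm⟩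

/-- The Sylow seven normalizer. -/
theorem seven_main {g : G} {F : Pt z Q v ρ g} {t w : G} (T : F.Tri t w) (B : Sylow 7 G) :
    Nonempty (centralizer ((B : Subgroup G) : Set G) ≃* Multiplicative (ZMod 7) × alternatingGroup (Fin 4)) ∧
      Nat.card (normalizer ((B : Subgroup G) : Set G)) = 504 := by
  haveI : Fact (Nat.Prime 7) := ⟨by norm_num⟩
  haveI : Fact (Nat.Prime 2) := ⟨Nat.prime_two⟩
  have hG := T.card_eq
  obtain ⟨x, hx, hxo⟩ := T.exists_order (p := 7) (by norm_num)
  obtain ⟨h1, hcard, -, hfull⟩ := T.seven_K hx hxo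
  have hsq : ¬ 7 ^ 2 ∣ Nat.card T.K := by rw [T.card_K]; norm_num
  set X := centralizer ({x} : Set G)
  have hxX : zpowers x ≤ X := zpowers_le.2 (mem_cz.2 rfl)
  obtain ⟨H, hC⟩ := exists_compl hxo hxX (mem_zpowers x) (MonoidHom.id _) rfl (fun hd => by
    have h := (((zpowers x).subgroupOf X).card_mul_index)
    rw [Nat.card_congr (subgroupOfEquivOfLe hxX).toEquiv, Nat.card_zpowers, hxo] at h
    have h49 : 7 * 7 ∣ Nat.card G := (mul_dvd_mul_left 7 hd).trans (h ▸ card_subgroup_dvd_card X)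
    rw [hG] at h49
    norm_num at h49)
  obtain ⟨hyp, hH, -⟩ := T.compl_data (by norm_num) hx hxo hsq h1 hcard hfull hC
  -- a generator of the given subgroup
  have hB : Nat.card (B : Subgroup G) = 7 := by
    rw [B.card_eq_multiplicity, hG, show (448345497600 : ℕ) = 7 ^ 1 * 64049356800 by norm_num,
      Nat.factorization_mul (by norm_num) (by norm_num), Finsupp.add_apply, Nat.Prime.factorization_pow (by norm_num),
      Finsupp.single_eq_same, Nat.factorization_eq_zero_of_not_dvd (by norm_num), pow_one]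
  obtain ⟨b, hb⟩ := exists_prime_orderOf_dvd_card' 7 (G := (B : Subgroup G)) (by rw [hB])
  have hbo : orderOf (b : G) = 7 := by rw [Subgroup.orderOf_coe, hb]
  have hBb : (B : Subgroup G) = zpowers (b : G) :=
    (eq_of_le_of_card_ge (zpowers_le.2 b.2) (by rw [hB, Nat.card_zpowers, hbo])).symm
  obtain ⟨h, -, hh⟩ := conj_zpowers_of_not_sq (H := (⊤ : Subgroup G)) (p := 7)
    (by rw [Subgroup.card_top, hG]; norm_num) (mem_top x) (mem_top (b : G)) hxo hbo
  set x' := h⁻¹ * x * h with hx'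
  have hx'o : orderOf x' = 7 := by
    rw [hx', show h⁻¹ * x * h = MulAut.conj h⁻¹ x by simp [MulAut.conj_apply], MulEquiv.orderOf_eq, hxo]
  have hbx : zpowers (b : G) = zpowers x' := by
    refine eq_of_le_of_card_ge (zpowers_le.2 ?_) (by rw [Nat.card_zpowers, Nat.card_zpowers, hbo, hx'o])
    obtain ⟨i, hi⟩ := hh
    refine ⟨i, ?_⟩
    show x' ^ i = b
    rw [hx', show h⁻¹ * x * h = h⁻¹ * x * h⁻¹⁻¹ by rw [inv_inv], conj_zpow, show x ^ i = h * b * h⁻¹ from hi]
    group
  have hX' : Nat.card (centralizer ({x'} : Set G)) = 7 * Nat.card H := by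
    rw [Nat.card_congr (centConj h x).toEquiv, hC.card_cent]
  have hN : Nat.card (normalizer (zpowers x' : Set G)) = 6 * (7 * Nat.card H) := by
    rw [card_normalizer_of_full hx'o (fun y hy hy1 => ?_), hX']
    obtain ⟨i, rfl⟩ := hy
    obtain ⟨k, -, hk⟩ := hfull (x ^ i) ⟨i, rfl⟩ (fun e => hy1 (by
      show (h⁻¹ * x * h) ^ i = 1
      rw [show h⁻¹ * x * h = h⁻¹ * x * h⁻¹⁻¹ by rw [inv_inv], conj_zpow, e]; group))
    refine ⟨h⁻¹ * k * h, ?_⟩
    show _ = (h⁻¹ * x * h) ^ i
    rw [hx', show (h⁻¹ * x * h) = h⁻¹ * x * h⁻¹⁻¹ by rw [inv_inv], conj_zpow, ← hk]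
    group
  have hmod := card_sylow_modEq_one 7 G
  rw [Sylow.card_eq_index_normalizer B, show (B : Set G) = ((B : Subgroup G) : Set G) from rfl, hBb, hbx] at hmod
  change (normalizer (zpowers x' : Set G)).index % 7 = 1 % 7 at hmod
  have hmul := (normalizer (zpowers x' : Set G)).card_mul_index
  rw [hN, hG] at hmul
  have hH12 : Nat.card H = 12 := by
    rcases hH with h12 | ⟨h60, -⟩
    · exact h12
    · exfalso
      rw [h60] at hmul
      omega
  rw [hH12] at hN hX'
  refine ⟨?_, by rw [hBb, hbx, hN]⟩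
  obtain ⟨e4⟩ := mulEquiv_alternating_four hH12 fun u hu hc => by
    have := hyp.card_cent hu
    rw [show centralizer ({u} : Set H) = ⊤ from
      eq_top_iff.2 fun a _ => mem_cz.2 (Subgroup.mem_center_iff.1 hc a), Subgroup.card_top, hH12] at this
    norm_num at this
  obtain ⟨eX⟩ := hC.nonempty_prod_equiv
  exact ⟨(MulEquiv.subgroupCongr (show centralizer ((B : Subgroup G) : Set G) = centralizer ({x'} : Set G) by
      rw [hBb, hbx, centralizer_zpowers])).trans ((centConj h x).trans (eX.trans (MulEquiv.prodCongr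
      (mulEquivOfCyclicCardEq (by rw [Nat.card_zpowers, hxo, Nat.card_congr Multiplicative.toAdd, Nat.card_zmod]))
      e4)))⟩

end

end CfsgLib.Spor.SuzType
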